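import Cfsg.Agent.OddHalf.MM.Sheet
import Cfsg.Agent.OddHalf.TFormula

-- merged: Cfsg.Agent.OddHalf.MMOut.Dich
section

/-!
# ODD half, D8, `M22`, outer case: free involutions (helper244)

`X` is an elementary abelian 2-group, `t`, `w` commuting involutory automorphisms, `t` free
(`C_X(t) = [X,t] = V`), and `C_V(w)/[V,w]` is of order 2, generated by the class of `a`. Then `w`
and `tw` are not both free on `X`.
-/

set_option autoImplicit false

namespace Cfsg.Agent.OddHalf.MMOut

open MM

/-- the abstract form -/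
theorem not_both {X : Type*} [CommGroup X] (e : ∀ x : X, x * x = 1) (T W : X →* X)
    (TT : ∀ x, T (T x) = x) (TW : ∀ x, T (W x) = W (T x)) (V : Subgroup X)
    (hV : ∀ x, T x = x ↔ x ∈ V) (onto : ∀ v ∈ V, ∃ m, T m = m * v)
    (a : X) (aV : a ∈ V) (aw : W a = a) (na : ∀ v ∈ V, W v ≠ v * a)
    (gen : ∀ x ∈ V, W x = x → ∃ v ∈ V, W v = v * x ∨ W v = v * x * a) (WW : ∀ x, W (W x) = x)
    (fw : ∀ m, W m = m → ∃ n, W n = n * m)
    (ftw : ∀ m, T (W m) = m → ∃ n, T (W n) = n * m) : False := by
  have einv : ∀ x : X, x⁻¹ = x := fun x => inv_eq_of_mul_eq_one_right (e x)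
  have canc : ∀ x y : X, x * (x * y) = y := by
    intro x y; rw [← mul_assoc, e, one_mul]
  have key : ∀ x : X, ∃ b ∈ V, T x = x * b := by
    intro x
    refine ⟨x * T x, ?_, (canc x (T x)).symm⟩
    rw [← hV, map_mul, TT, mul_comm]
  have Ta : T a = a := (hV a).2 aV
  obtain ⟨n, hn⟩ := fw a aw
  obtain ⟨b, bV, hb⟩ := key n
  have Tb : T b = b := (hV b).2 bV
  have wb : W b = b := by
    have h1 : W (T n) = n * a * W b := by rw [hb, map_mul, hn]
    have h2 : W (T n) = n * b * a := by rw [← TW, hn, map_mul, hb, Ta]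
    rw [h1] at h2
    have h3 : n * a * W b = n * a * b := by rw [h2]; ac_rfl
    exact mul_left_cancel h3
  obtain ⟨v, vV, hv⟩ := gen b bV wb
  have Tv : T v = v := (hV v).2 vV
  obtain ⟨m, hm⟩ := onto v vV
  -- n' = n * m * W m
  have hW : W (n * (m * W m)) = (n * (m * W m)) * a := by
    rw [map_mul, map_mul, WW, hn]; ac_rfl
  rcases hv with hv | hv
  · have hT : T (n * (m * W m)) = n * (m * W m) := by
      rw [map_mul, map_mul, TW, hb, hm, map_mul, hv]
      calc n * b * (m * v * (W m * (v * b))) = n * (m * W m) * (b * b) * (v * v) := by ac_rfl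
        _ = n * (m * W m) := by rw [e, e, mul_one, mul_one]
    exact na _ ((hV _).1 hT) hW
  · have hT : T (n * (m * W m)) = n * (m * W m) * a := by
      rw [map_mul, map_mul, TW, hb, hm, map_mul, hv]
      calc n * b * (m * v * (W m * (v * b * a))) = n * (m * W m) * (b * b) * (v * v) * a := by
            ac_rfl
        _ = n * (m * W m) * a := by rw [e, e, mul_one, mul_one]
    set n' := n * (m * W m) with hn'
    have h1 : T (W n') = n' := by
      rw [hW, map_mul, hT, Ta, mul_assoc, e, mul_one]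
    obtain ⟨p, hp⟩ := ftw n' h1
    obtain ⟨q, qV, hq⟩ := key p
    have Tq : T q = q := (hV q).2 qV
    -- W p = p q n' a
    have h2 : W p = p * q * (n' * a) := by
      have := congrArg T hp
      rw [TT, map_mul, hq, hT] at this
      exact this
    have h3 : W (T p) = p * n' := by
      rw [← TW, h2, map_mul, map_mul, map_mul, hq, Tq, hT, Ta]
      calc p * q * q * (n' * a * a) = p * n' * (q * q) * (a * a) := by ac_rfl
        _ = p * n' := by rw [e, e, mul_one, mul_one]
    rw [hq, map_mul, h2] at h3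
    apply na q qV
    have h4 : p * q * (n' * a) * W q = p * q * (n' * a) * (q * a) := by
      rw [h3]
      calc p * n' = p * n' * (q * q) * (a * a) := by rw [e, e, mul_one, mul_one]
        _ = p * q * (n' * a) * (q * a) := by ac_rfl
    exact mul_left_cancel h4

end Cfsg.Agent.OddHalf.MMOut

end

-- merged: Cfsg.Agent.OddHalf.MMOut.FreeInv
section

/-!
# ODD half, D8, `M22`, outer case, free involutions on elementary abelian groups (helper244)

conjugates `cj g M`, `dbl` = ⟨t⟩ × X, `fx w M` = C_M(w), `card_le_sq`, `free_of_card`, `not_both_free`.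
-/

set_option autoImplicit false

namespace Cfsg.Agent.OddHalf.MMOut.FI

open MM

variable {G : Type*} [Group G]

/-- the conjugate `g M g⁻¹` -/
def cj (g : G) (M : Subgroup G) : Subgroup G := M.map (MulAut.conj g).toMonoidHom

theorem mem_cj {g x : G} {M : Subgroup G} : x ∈ cj g M ↔ g⁻¹ * x * g ∈ M := by
  unfold cj
  constructor
  · rintro ⟨m, hm, rfl⟩
    have e : g⁻¹ * ((MulAut.conj g).toMonoidHom m) * g = m := by
      show g⁻¹ * (g * m * g⁻¹) * g = m
      group
    rw [e]; exact hm
  · intro h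
    refine ⟨_, h, ?_⟩
    show g * (g⁻¹ * x * g) * g⁻¹ = x
    group

theorem cj_mem {g m : G} {M : Subgroup G} (hm : m ∈ M) : g * m * g⁻¹ ∈ cj g M := by
  rw [mem_cj]
  have e : g⁻¹ * (g * m * g⁻¹) * g = m := by group
  rw [e]; exact hm

theorem card_cj (g : G) (M : Subgroup G) : Nat.card (cj g M) = Nat.card M :=
  (Nat.card_congr (M.equivMapOfInjective (MulAut.conj g).toMonoidHom
    (MulAut.conj g).injective).toEquiv).symm

theorem El.cj {M : Subgroup G} (h : El M) (g : G) : El (cj g M) := by
  intro x hx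
  have h1 := h _ (mem_cj.1 hx)
  calc x * x = g * (g⁻¹ * x * g * (g⁻¹ * x * g)) * g⁻¹ := by group
    _ = 1 := by rw [h1]; group

theorem nrm_of_cj {g : G} {M : Subgroup G} (h : cj g M = M) : Nrm g M := by
  intro x
  constructor
  · intro hx
    rw [← h, mem_cj] at hx
    have e : g⁻¹ * (g * x * g⁻¹) * g = x := by group
    rwa [e] at hx
  · intro hx
    rw [← h, mem_cj]
    have e : g⁻¹ * (g * x * g⁻¹) * g = x := by group
    rwa [e]

/-- elementary abelian groups commute -/
theorem elc {M : Subgroup G} (h : El M) {x y : G} (hx : x ∈ M) (hy : y ∈ M) : x * y = y * x := by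
  have h1 := h _ (M.mul_mem hx hy)
  have e1 : x⁻¹ = x := inv_eq_of_mul_eq_one_right (h x hx)
  have e2 : y⁻¹ = y := inv_eq_of_mul_eq_one_right (h y hy)
  have e3 : (x * y)⁻¹ = x * y := inv_eq_of_mul_eq_one_right h1
  rw [mul_inv_rev, e1, e2] at e3
  exact e3.symm

/-- `⟨t⟩ × X` for an involution `t` centralising the elementary abelian group `X` -/
def dbl {t : G} {X : Subgroup G} (tt : t * t = 1) (c : ∀ x ∈ X, x * t = t * x) : Subgroup G where
  carrier := {g | g ∈ X ∨ t * g ∈ X}
  one_mem' := Or.inl X.one_mem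
  mul_mem' := by
    rintro a b (ha | ha) (hb | hb)
    · exact Or.inl (X.mul_mem ha hb)
    · refine Or.inr ?_
      have : t * (a * b) = a * (t * b) := by rw [← mul_assoc, ← c a ha, mul_assoc]
      rw [this]; exact X.mul_mem ha hb
    · refine Or.inr ?_
      rw [← mul_assoc]; exact X.mul_mem ha hb
    · refine Or.inl ?_
      have h1 : a * t = t * a := by
        have h := c _ ha
        calc a * t = t⁻¹ * (t * a * t) := by group
          _ = t⁻¹ * (t * (t * a)) := by rw [h]
          _ = t * a := by group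
      have : a * b = t * a * (t * b) := by
        calc a * b = a * (t * t) * b := by rw [tt, mul_one]
          _ = (a * t) * (t * b) := by group
          _ = t * a * (t * b) := by rw [h1]
      rw [this]; exact X.mul_mem ha hb
  inv_mem' := by
    rintro a (ha | ha)
    · exact Or.inl (X.inv_mem ha)
    · refine Or.inr ?_
      have h := c _ ha
      have h1 : a * t = t * a := by
        calc a * t = t⁻¹ * (t * a * t) := by group
          _ = t⁻¹ * (t * (t * a)) := by rw [h]
          _ = t * a := by group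
      have ti : t⁻¹ = t := inv_eq_of_mul_eq_one_right tt
      have : t * a⁻¹ = (t * a)⁻¹ := by
        rw [← h1, mul_inv_rev, ti]
      rw [this]; exact X.inv_mem ha

theorem mem_dbl {t : G} {X : Subgroup G} (tt : t * t = 1) (c : ∀ x ∈ X, x * t = t * x) {g : G} :
    g ∈ dbl tt c ↔ g ∈ X ∨ t * g ∈ X := Iff.rfl

theorem el_dbl {t : G} {X : Subgroup G} (tt : t * t = 1) (c : ∀ x ∈ X, x * t = t * x)
    (h : El X) : El (dbl tt c) := by
  rintro a (ha | ha)
  · exact h a ha
  · have h1 := c _ ha
    have h2 : a * t = t * a := by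
      calc a * t = t⁻¹ * (t * a * t) := by group
        _ = t⁻¹ * (t * (t * a)) := by rw [h1]
        _ = t * a := by group
    have h3 := h _ ha
    calc a * a = a * (t * t) * a := by rw [tt, mul_one]
      _ = (a * t) * (t * a) := by group
      _ = 1 := by rw [h2, h3]

theorem cent_dbl {t : G} {X : Subgroup G} (tt : t * t = 1) (c : ∀ x ∈ X, x * t = t * x)
    {g : G} (hg : g ∈ dbl tt c) : g * t = t * g := by
  rcases hg with ha | ha
  · exact c g ha
  · have h1 := c _ ha
    calc g * t = t⁻¹ * (t * g * t) := by group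
      _ = t⁻¹ * (t * (t * g)) := by rw [h1]
      _ = t * g := by group

theorem card_dbl [Finite G] {t : G} {X : Subgroup G} (tt : t * t = 1)
    (c : ∀ x ∈ X, x * t = t * x) (tX : t ∉ X) : Nat.card (dbl tt c) = 2 * Nat.card X := by
  classical
  have e : (dbl tt c : Set G) = (X : Set G) ∪ (fun x => t * x) '' (X : Set G) := by
    ext g
    constructor
    · rintro (h | h)
      · exact Or.inl h
      · refine Or.inr ⟨t * g, h, ?_⟩
        show t * (t * g) = g
        rw [← mul_assoc, tt, one_mul]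
    · rintro (h | ⟨x, hx, rfl⟩)
      · exact Or.inl h
      · refine Or.inr ?_
        show t * (t * x) ∈ X
        rw [← mul_assoc, tt, one_mul]; exact hx
  have hd : Disjoint (X : Set G) ((fun x => t * x) '' (X : Set G)) := by
    rw [Set.disjoint_left]
    rintro g hg ⟨x, hx, rfl⟩
    apply tX
    have : t * x * x⁻¹ ∈ X := X.mul_mem hg (X.inv_mem hx)
    rwa [mul_inv_cancel_right] at this
  have h1 : Nat.card (dbl tt c) = (dbl tt c : Set G).ncard := rfl
  rw [h1, e, Set.ncard_union_eq hd, Set.ncard_image_of_injective _ (mul_right_injective t)]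
  have h2 : (X : Set G).ncard = Nat.card X := rfl
  rw [h2, two_mul]

/-! ### free involutions -/

/-- conjugation by `w` on `M` -/
def act {w : G} {M : Subgroup G} (N : Nrm w M) : M →* M where
  toFun x := ⟨w * x * w⁻¹, (N x).2 x.2⟩
  map_one' := Subtype.ext (by simp)
  map_mul' x y := Subtype.ext (by simp)

theorem act_coe {w : G} {M : Subgroup G} (N : Nrm w M) (x : M) :
    (act N x : G) = w * x * w⁻¹ := rfl

/-- `C_M(w)` -/
def fx (w : G) (M : Subgroup G) : Subgroup G := M ⊓ Subgroup.centralizer {w}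

theorem mem_fx {w x : G} {M : Subgroup G} : x ∈ fx w M ↔ x ∈ M ∧ x * w = w * x := by
  unfold fx
  rw [Subgroup.mem_inf, Subgroup.mem_centralizer_singleton_iff]

/-- the map `x ↦ x · x^w` on an elementary abelian group -/
def nm {w : G} {M : Subgroup G} (elM : El M) (N : Nrm w M) : M →* M where
  toFun x := x * act N x
  map_one' := by simp
  map_mul' x y := by
    have h : ∀ a b : M, a * b = b * a := fun a b => Subtype.ext (elc elM a.2 b.2)
    rw [map_mul]
    calc x * y * (act N x * act N y) = x * (y * act N x) * act N y := by group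
      _ = x * (act N x * y) * act N y := by rw [h y]
      _ = x * act N x * (y * act N y) := by group

theorem ker_nm {w : G} {M : Subgroup G} (elM : El M) (N : Nrm w M) (x : M) :
    x ∈ (nm elM N).ker ↔ (x : G) ∈ fx w M := by
  rw [MonoidHom.mem_ker, mem_fx]
  have e : (nm elM N x : G) = x * (w * x * w⁻¹) := rfl
  have xi : (x : G)⁻¹ = x := inv_eq_of_mul_eq_one_right (elM x x.2)
  rw [← Subtype.coe_inj, e]
  constructor
  · intro h
    refine ⟨x.2, ?_⟩
    have h1 : w * x * w⁻¹ = x := by
      have h' : (x : G) * (w * x * w⁻¹) = 1 := h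
      rw [← inv_eq_iff_mul_eq_one, xi] at h'
      exact h'.symm
    calc (x : G) * w = w * x * w⁻¹ * w := by rw [h1]
      _ = w * x := by group
  · rintro ⟨-, h⟩
    have h1 : w * x * w⁻¹ = x := by rw [← h]; group
    rw [h1]; exact elM x x.2

theorem range_nm {w : G} {M : Subgroup G} (elM : El M) (N : Nrm w M) (ww : w * w = 1) (x : M)
    (hx : x ∈ (nm elM N).range) : (x : G) ∈ fx w M := by
  obtain ⟨y, rfl⟩ := hx
  rw [mem_fx]
  refine ⟨(nm elM N y).2, ?_⟩
  have e : (nm elM N y : G) = y * (w * y * w⁻¹) := rfl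
  have hc : (y : G) * (w * y * w⁻¹) = w * y * w⁻¹ * y := elc elM y.2 ((N y).2 y.2)
  have wi : w⁻¹ = w := inv_eq_of_mul_eq_one_right ww
  rw [e]
  calc (y : G) * (w * y * w⁻¹) * w = y * (w * y) := by group
    _ = w * (w⁻¹ * y * w * y) := by group
    _ = w * (w * y * w⁻¹ * y) := by rw [wi]
    _ = w * (y * (w * y * w⁻¹)) := by rw [hc]

/-- `|M| ≤ |C_M(w)|²` -/
theorem card_le_sq [Finite G] {w : G} {M : Subgroup G} (elM : El M) (N : Nrm w M)
    (ww : w * w = 1) : Nat.card M ≤ Nat.card (fx w M) * Nat.card (fx w M) := by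
  have h1 : Nat.card M = Nat.card (nm elM N).range * Nat.card (nm elM N).ker := by
    rw [Subgroup.card_eq_card_quotient_mul_card_subgroup (nm elM N).ker,
      Nat.card_congr (QuotientGroup.quotientKerEquivRange (nm elM N)).toEquiv]
  have h2 : Nat.card (nm elM N).range ≤ Nat.card (fx w M) := by
    apply Nat.card_le_card_of_injective
      (fun x : (nm elM N).range => (⟨(x : M), range_nm elM N ww x x.2⟩ : fx w M))
    intro a b hab
    have := congrArg Subtype.val hab
    exact Subtype.ext (Subtype.ext this)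
  have h3 : Nat.card (nm elM N).ker ≤ Nat.card (fx w M) := by
    apply Nat.card_le_card_of_injective
      (fun x : (nm elM N).ker => (⟨(x : M), (ker_nm elM N x).1 x.2⟩ : fx w M))
    intro a b hab
    have := congrArg Subtype.val hab
    exact Subtype.ext (Subtype.ext this)
  rw [h1]; exact Nat.mul_le_mul h2 h3

/-- if `|M| = |C_M(w)|²` then every element of `C_M(w)` is a commutator -/
theorem free_of_card [Finite G] {w : G} {M : Subgroup G} (elM : El M) (N : Nrm w M)
    (ww : w * w = 1) (hc : Nat.card M = Nat.card (fx w M) * Nat.card (fx w M)) {m : G}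
    (hm : m ∈ fx w M) : ∃ n ∈ M, w * n * w⁻¹ = n * m := by
  have h1 : Nat.card M = Nat.card (nm elM N).range * Nat.card (nm elM N).ker := by
    rw [Subgroup.card_eq_card_quotient_mul_card_subgroup (nm elM N).ker,
      Nat.card_congr (QuotientGroup.quotientKerEquivRange (nm elM N)).toEquiv]
  have h3 : Nat.card (nm elM N).ker = Nat.card (fx w M) := by
    apply Nat.card_congr
    exact
      { toFun := fun x => ⟨(x : M), (ker_nm elM N x).1 x.2⟩
        invFun := fun x => ⟨⟨x, (mem_fx.1 x.2).1⟩, (ker_nm elM N _).2 x.2⟩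
        left_inv := fun x => rfl
        right_inv := fun x => rfl }
  have hpos : 0 < Nat.card (fx w M) := Nat.card_pos
  have h4 : Nat.card (nm elM N).range = Nat.card (fx w M) := by
    rw [h3, hc] at h1
    exact (Nat.eq_of_mul_eq_mul_right hpos h1).symm
  let f : (nm elM N).range → fx w M := fun x => ⟨(x : M), range_nm elM N ww x x.2⟩
  have finj : Function.Injective f := by
    intro a b hab
    have := congrArg Subtype.val hab
    exact Subtype.ext (Subtype.ext this)
  have fbij : Function.Bijective f :=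
    (Nat.bijective_iff_injective_and_card f).2 ⟨finj, h4⟩
  obtain ⟨⟨x, n, hn⟩, hx⟩ := fbij.2 ⟨m, hm⟩
  have hx' : (x : G) = m := congrArg Subtype.val hx
  refine ⟨n, n.2, ?_⟩
  have e : (nm elM N n : G) = n * (w * n * w⁻¹) := rfl
  rw [← hx', ← hn, e, ← mul_assoc, elM n n.2, one_mul]

/-- `w` and `tw` are not both free -/
theorem not_both_free [Finite G] {t w : G} {M V : Subgroup G} (elM : El M) (VM : V ≤ M)
    (tt : t * t = 1) (ww : w * w = 1) (tw : t * w = w * t) (Nt : Nrm t M) (Nw : Nrm w M)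
    (fix : ∀ m ∈ M, m * t = t * m → m ∈ V) (cV : ∀ v ∈ V, v * t = t * v)
    (onto : ∀ v ∈ V, ∃ m ∈ M, m * t * m⁻¹ = t * v)
    {a : G} (aV : a ∈ V) (aw : w * a = a * w) (na : ∀ v ∈ V, w * v * w⁻¹ ≠ v * a)
    (gen : ∀ x ∈ V, w * x = x * w → ∃ v ∈ V, w * v * w⁻¹ = v * x ∨ w * v * w⁻¹ = v * x * a)
    (fw : Nat.card M = Nat.card (fx w M) * Nat.card (fx w M))
    (ftw : Nat.card M = Nat.card (fx (t * w) M) * Nat.card (fx (t * w) M)) : False := by
  have hcomm : ∀ a b : M, a * b = b * a := fun a b => Subtype.ext (elc elM a.2 b.2)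
  let _ : CommGroup M := { (inferInstance : Group M) with mul_comm := hcomm }
  have ti : t⁻¹ = t := inv_eq_of_mul_eq_one_right tt
  have wi : w⁻¹ = w := inv_eq_of_mul_eq_one_right ww
  have Ntw : Nrm (t * w) M := by
    intro x
    have e : t * w * x * (t * w)⁻¹ = t * (w * x * w⁻¹) * t⁻¹ := by group
    rw [e, Nt, Nw]
  have tww : t * w * (t * w) = 1 := by
    calc t * w * (t * w) = t * (w * t) * w := by group
      _ = (t * t) * (w * w) := by rw [← tw]; group
      _ = 1 := by rw [tt, ww, mul_one]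
  refine not_both (X := M) (fun x => Subtype.ext (elM x x.2)) (act Nt) (act Nw) ?_ ?_
    (V.subgroupOf M) ?_ ?_ ⟨a, VM aV⟩ ?_ ?_ ?_ ?_ ?_ ?_ ?_
  · intro x
    apply Subtype.ext
    show t * (t * x * t⁻¹) * t⁻¹ = x
    rw [ti]
    calc t * (t * (x : G) * t) * t = (t * t) * x * (t * t) := by group
      _ = x := by rw [tt]; group
  · intro x
    apply Subtype.ext
    show t * (w * x * w⁻¹) * t⁻¹ = w * (t * x * t⁻¹) * w⁻¹
    calc t * (w * (x : G) * w⁻¹) * t⁻¹ = (t * w) * x * (t * w)⁻¹ := by group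
      _ = (w * t) * x * (w * t)⁻¹ := by rw [tw]
      _ = w * (t * x * t⁻¹) * w⁻¹ := by group
  · intro x
    rw [Subgroup.mem_subgroupOf]
    constructor
    · intro h
      have h' : t * x * t⁻¹ = x := congrArg Subtype.val h
      apply fix x x.2
      calc (x : G) * t = t * x * t⁻¹ * t := by rw [h']
        _ = t * x := by group
    · intro h
      apply Subtype.ext
      show t * x * t⁻¹ = x
      rw [← cV x h]; group
  · rintro ⟨v, hvM⟩ hv
    rw [Subgroup.mem_subgroupOf] at hv
    obtain ⟨m, hm, h⟩ := onto v hv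
    refine ⟨⟨m, hm⟩, Subtype.ext ?_⟩
    show t * m * t⁻¹ = m * v
    have mi : m⁻¹ = m := inv_eq_of_mul_eq_one_right (elM m hm)
    have vi : v⁻¹ = v := inv_eq_of_mul_eq_one_right (elM v hvM)
    have h2 : m * t * m⁻¹ = v * t := by rw [h, cV v hv]
    have h3 : m * t = v * t * m := by rw [← h2]; group
    have h4 : t * m * t⁻¹ = v⁻¹ * m := by
      have : t * m = v⁻¹ * (m * t) := by rw [h3]; group
      rw [this]; group
    rw [h4, vi]; exact elc elM hvM hm
  · rw [Subgroup.mem_subgroupOf]; exact aV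
  · apply Subtype.ext
    show w * a * w⁻¹ = a
    rw [aw]; group
  · rintro ⟨v, hvM⟩ hv h
    rw [Subgroup.mem_subgroupOf] at hv
    exact na v hv (congrArg Subtype.val h)
  · rintro ⟨x, hxM⟩ hx h
    rw [Subgroup.mem_subgroupOf] at hx
    have h' : w * x * w⁻¹ = x := congrArg Subtype.val h
    have h2 : w * x = x * w := by
      calc w * x = w * x * w⁻¹ * w := by group
        _ = x * w := by rw [h']
    obtain ⟨v, hv, h3⟩ := gen x hx h2
    refine ⟨⟨v, VM hv⟩, ?_, ?_⟩
    · rw [Subgroup.mem_subgroupOf]; exact hv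
    · rcases h3 with h3 | h3
      · exact Or.inl (Subtype.ext h3)
      · exact Or.inr (Subtype.ext h3)
  · intro x
    apply Subtype.ext
    show w * (w * x * w⁻¹) * w⁻¹ = x
    rw [wi]
    calc w * (w * (x : G) * w) * w = (w * w) * x * (w * w) := by group
      _ = x := by rw [ww]; group
  · rintro ⟨m, hm⟩ h
    have h' : w * m * w⁻¹ = m := congrArg Subtype.val h
    have h2 : m ∈ fx w M := mem_fx.2 ⟨hm, by
      calc m * w = w * m * w⁻¹ * w := by rw [h']
        _ = w * m := by group⟩
    obtain ⟨n, hn, h3⟩ := free_of_card elM Nw ww fw h2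
    exact ⟨⟨n, hn⟩, Subtype.ext h3⟩
  · rintro ⟨m, hm⟩ h
    have h' : t * (w * m * w⁻¹) * t⁻¹ = m := congrArg Subtype.val h
    have h2 : m ∈ fx (t * w) M := mem_fx.2 ⟨hm, by
      calc m * (t * w) = t * (w * m * w⁻¹) * t⁻¹ * (t * w) := by rw [h']
        _ = t * w * m := by group⟩
    obtain ⟨n, hn, h3⟩ := free_of_card elM Ntw tww ftw h2
    refine ⟨⟨n, hn⟩, Subtype.ext ?_⟩
    show t * (w * n * w⁻¹) * t⁻¹ = n * m
    rw [← h3]; group

/-- `[M, w]`, as the image of `x ↦ x · x^w` -/
def rg {w : G} {M : Subgroup G} (elM : El M) (N : Nrm w M) : Subgroup G :=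
  (nm elM N).range.map M.subtype

theorem mem_rg {w x : G} {M : Subgroup G} (elM : El M) (N : Nrm w M) :
    x ∈ rg elM N ↔ ∃ n ∈ M, w * n * w⁻¹ = n * x := by
  constructor
  · rintro ⟨y, ⟨n, rfl⟩, rfl⟩
    refine ⟨n, n.2, ?_⟩
    show w * n * w⁻¹ = n * (n * (w * n * w⁻¹))
    rw [← mul_assoc, elM n n.2, one_mul]
  · rintro ⟨n, hn, h⟩
    refine ⟨nm elM N ⟨n, hn⟩, ⟨_, rfl⟩, ?_⟩
    show n * (w * n * w⁻¹) = x
    rw [h, ← mul_assoc, elM n hn, one_mul]

theorem rg_le_fx {w : G} {M : Subgroup G} (elM : El M) (N : Nrm w M) (ww : w * w = 1) :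
    rg elM N ≤ fx w M := by
  rintro x ⟨y, hy, rfl⟩
  exact range_nm elM N ww y hy

theorem card_rg_mul [Finite G] {w : G} {M : Subgroup G} (elM : El M) (N : Nrm w M) :
    Nat.card (rg elM N) * Nat.card (fx w M) = Nat.card M := by
  have h1 : Nat.card M = Nat.card (nm elM N).range * Nat.card (nm elM N).ker := by
    rw [Subgroup.card_eq_card_quotient_mul_card_subgroup (nm elM N).ker,
      Nat.card_congr (QuotientGroup.quotientKerEquivRange (nm elM N)).toEquiv]
  have h3 : Nat.card (nm elM N).ker = Nat.card (fx w M) := by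
    apply Nat.card_congr
    exact
      { toFun := fun x => ⟨(x : M), (ker_nm elM N x).1 x.2⟩
        invFun := fun x => ⟨⟨x, (mem_fx.1 x.2).1⟩, (ker_nm elM N _).2 x.2⟩
        left_inv := fun x => rfl
        right_inv := fun x => rfl }
  have h4 : Nat.card (rg elM N) = Nat.card (nm elM N).range :=
    (Nat.card_congr ((nm elM N).range.equivMapOfInjective M.subtype
      M.subtype_injective).toEquiv).symm
  rw [h4, ← h3, h1]

/-- if `w` acts as `d` then `C_M(w) = C_M(d)` -/
theorem fx_congr {w d : G} {M : Subgroup G} (h : ∀ m ∈ M, w * m * w⁻¹ = d * m * d⁻¹) :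
    fx w M = fx d M := by
  ext x
  rw [mem_fx, mem_fx]
  refine and_congr_right fun hx => ?_
  have h1 := h x hx
  constructor
  · intro h2
    have h3 : w * x * w⁻¹ = x := by rw [← h2]; group
    rw [h1] at h3
    calc x * d = d * x * d⁻¹ * d := by rw [h3]
      _ = d * x := by group
  · intro h2
    have h3 : d * x * d⁻¹ = x := by rw [← h2]; group
    rw [← h1] at h3
    calc x * w = w * x * w⁻¹ * w := by rw [h3]
      _ = w * x := by group

/-- `M⟨t⟩` for an involution `t` normalising `M` -/
def ext {t : G} {M : Subgroup G} (tt : t * t = 1) (N : Nrm t M) : Subgroup G where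
  carrier := {g | g ∈ M ∨ t * g ∈ M}
  one_mem' := Or.inl M.one_mem
  mul_mem' := by
    have ti : t⁻¹ = t := inv_eq_of_mul_eq_one_right tt
    rintro a b (ha | ha) (hb | hb)
    · exact Or.inl (M.mul_mem ha hb)
    · refine Or.inr ?_
      have e : t * (a * b) = (t * a * t⁻¹) * (t * b) := by group
      rw [e]; exact M.mul_mem ((N a).2 ha) hb
    · refine Or.inr ?_
      rw [← mul_assoc]; exact M.mul_mem ha hb
    · refine Or.inl ?_
      have h1 := (N _).2 ha
      rw [ti] at h1
      have e : a * b = (t * (t * a) * t) * (t * b) := by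
        calc a * b = (t * t) * a * (t * t) * b := by rw [tt]; group
          _ = _ := by group
      rw [e]; exact M.mul_mem h1 hb
  inv_mem' := by
    have ti : t⁻¹ = t := inv_eq_of_mul_eq_one_right tt
    rintro a (ha | ha)
    · exact Or.inl (M.inv_mem ha)
    · refine Or.inr ?_
      have h1 := M.inv_mem ((N _).2 ha)
      have e : (t * (t * a) * t⁻¹)⁻¹ = t * a⁻¹ := by
        rw [← mul_assoc t t a, tt]; group
      rwa [e] at h1

theorem mem_ext {t g : G} {M : Subgroup G} (tt : t * t = 1) (N : Nrm t M) :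
    g ∈ ext tt N ↔ g ∈ M ∨ t * g ∈ M := Iff.rfl

theorem t_mem_ext {t : G} {M : Subgroup G} (tt : t * t = 1) (N : Nrm t M) : t ∈ ext tt N :=
  Or.inr (by rw [tt]; exact M.one_mem)

theorem le_ext {t : G} {M : Subgroup G} (tt : t * t = 1) (N : Nrm t M) : M ≤ ext tt N :=
  fun _ h => Or.inl h

theorem ext_nrm {t g : G} {M : Subgroup G} (tt : t * t = 1) (N : Nrm t M) (hg : g ∈ ext tt N) :
    Nrm g M := by
  rcases hg with h | h
  · intro x
    refine ⟨fun hx => ?_, fun hx => M.mul_mem (M.mul_mem h hx) (M.inv_mem h)⟩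
    have h1 := M.mul_mem (M.mul_mem (M.inv_mem h) hx) h
    have e : g⁻¹ * (g * x * g⁻¹) * g = x := by group
    rwa [e] at h1
  · intro x
    rw [← N (g * x * g⁻¹)]
    have e : t * (g * x * g⁻¹) * t⁻¹ = (t * g) * x * (t * g)⁻¹ := by group
    rw [e]
    refine ⟨fun hx => ?_, fun hx => M.mul_mem (M.mul_mem h hx) (M.inv_mem h)⟩
    have h1 := M.mul_mem (M.mul_mem (M.inv_mem h) hx) h
    have e : (t * g)⁻¹ * ((t * g) * x * (t * g)⁻¹) * (t * g) = x := by group
    rwa [e] at h1

/-- squares of elements of `M⟨t⟩` lie in `M` -/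
theorem ext_sq {t g : G} {M : Subgroup G} (tt : t * t = 1) (N : Nrm t M) (hg : g ∈ ext tt N) :
    g * g ∈ M := by
  rcases hg with h | h
  · exact M.mul_mem h h
  · have ti : t⁻¹ = t := inv_eq_of_mul_eq_one_right tt
    have h1 := (N _).2 h
    rw [ti] at h1
    have e : g * g = (t * (t * g) * t) * (t * g) := by
      calc g * g = (t * t) * g * (t * t) * g := by rw [tt]; group
        _ = _ := by group
    rw [e]; exact M.mul_mem h1 h

end Cfsg.Agent.OddHalf.MMOut.FI

end
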