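import Cfsg.Agent.OddHalf.MM.Elem
import Cfsg.Agent.OddHalf.MM.Good
import Cfsg.Agent.Transfer.ElemAbAut
import Cfsg.Agent.OddHalf.MMOut.Sheet

-- merged: Cfsg.Agent.OddHalf.MMOut.Grow
section

/-!
# ODD half, D8: growth over an elementary abelian subgroup of order 16 (helper908)

`NN t X`: the elements which normalise `X` and `t X`. `grow`: if a subgroup `N ≤ NN t X` is transitive on `t X`
and `N ∩ C(t)` on `X#`, and a 2-group `S ≤ N ∩ C(t)` induces a group of order at least 8 on `X`, then every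
`x ∈ X` is `[f, t]` for some `f ∈ N ∩ C(X)`.
-/

set_option autoImplicit false

namespace Cfsg.Agent.OddHalf.MMOut

open Subgroup Cfsg.Agent.OddHalf.MM

variable {G : Type*} [Group G]

/-- the elements normalising `X` and `t X` -/
def NN (t : G) (X : Subgroup G) : Subgroup G where
  carrier := {g | Nrm g X ∧ ∃ x ∈ X, g * t * g⁻¹ = t * x}
  one_mem' := ⟨Nrm.one X, 1, X.one_mem, by group⟩
  mul_mem' := by
    rintro a b ⟨ha, x, hx, ea⟩ ⟨hb, y, hy, eb⟩
    refine ⟨ha.mul hb, x * (a * y * a⁻¹), X.mul_mem hx ((ha y).2 hy), ?_⟩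
    calc a * b * t * (a * b)⁻¹ = a * (b * t * b⁻¹) * a⁻¹ := by group
      _ = (a * t * a⁻¹) * (a * y * a⁻¹) := by rw [eb]; group
      _ = t * (x * (a * y * a⁻¹)) := by rw [ea]; group
  inv_mem' := by
    rintro a ⟨ha, x, hx, ea⟩
    have hx' : a⁻¹ * x * a ∈ X := ha.gconj' hx
    refine ⟨ha.inv, (a⁻¹ * x * a)⁻¹, X.inv_mem hx', ?_⟩
    have h1 : t = (a⁻¹ * t * a) * (a⁻¹ * x * a) := by
      calc t = a⁻¹ * (a * t * a⁻¹) * a := by group
        _ = (a⁻¹ * t * a) * (a⁻¹ * x * a) := by rw [ea]; group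
    calc a⁻¹ * t * a⁻¹⁻¹ = (a⁻¹ * t * a) * (a⁻¹ * x * a) * (a⁻¹ * x * a)⁻¹ := by group
      _ = t * (a⁻¹ * x * a)⁻¹ := by rw [← h1]

theorem mem_NN {t : G} {X : Subgroup G} {g : G} :
    g ∈ NN t X ↔ Nrm g X ∧ ∃ x ∈ X, g * t * g⁻¹ = t * x := Iff.rfl

/-- transitivity on `t X`: `|N| = |X| |N ∩ C(t)|` -/
theorem card_trans {t : G} {X N : Subgroup G} (hN : N ≤ NN t X)
    (tr : ∀ x ∈ X, ∃ n ∈ N, n * t * n⁻¹ = t * x) :
    Nat.card N = Nat.card X * Nat.card {n : N // (n : G) * t = t * n} := by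
  classical
  choose! n hn e using tr
  rw [← Nat.card_prod]
  refine (Nat.card_congr (Equiv.ofBijective
    (fun p : X × {n : N // (n : G) * t = t * n} =>
      (⟨n p.1 * (p.2 : N), N.mul_mem (hn _ p.1.2) (p.2 : N).2⟩ : N)) ⟨?_, ?_⟩)).symm
  · rintro ⟨⟨x, hx⟩, ⟨⟨c, hc⟩, hct⟩⟩ ⟨⟨y, hy⟩, ⟨⟨d, hd⟩, hdt⟩⟩ h
    have h0 : n x * c = n y * d := congrArg Subtype.val h
    have hct' : c * t * c⁻¹ = t := by
      have : c * t = t * c := hct
      rw [this]; group
    have hdt' : d * t * d⁻¹ = t := by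
      have : d * t = t * d := hdt
      rw [this]; group
    have h1 : t * x = t * y := by
      calc t * x = n x * t * (n x)⁻¹ := (e x hx).symm
        _ = n x * (c * t * c⁻¹) * (n x)⁻¹ := by rw [hct']
        _ = (n x * c) * t * (n x * c)⁻¹ := by group
        _ = (n y * d) * t * (n y * d)⁻¹ := by rw [h0]
        _ = n y * (d * t * d⁻¹) * (n y)⁻¹ := by group
        _ = t * y := by rw [hdt', e y hy]
    have h2 := mul_left_cancel h1
    subst h2
    have h3 := mul_left_cancel h0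
    subst h3
    rfl
  · rintro ⟨m, hm⟩
    obtain ⟨-, x, hx, hmx⟩ := hN hm
    refine ⟨⟨⟨x, hx⟩, ⟨⟨(n x)⁻¹ * m, N.mul_mem (N.inv_mem (hn x hx)) hm⟩, ?_⟩⟩, ?_⟩
    · show (n x)⁻¹ * m * t = t * ((n x)⁻¹ * m)
      have h1 : (n x)⁻¹ * (t * x) * n x = t := by
        rw [← e x hx]; group
      calc (n x)⁻¹ * m * t = (n x)⁻¹ * (m * t * m⁻¹) * m := by group
        _ = (n x)⁻¹ * (t * x) * n x * ((n x)⁻¹ * m) := by rw [hmx]; group
        _ = t * ((n x)⁻¹ * m) := by rw [h1]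
    · apply Subtype.ext
      show n x * ((n x)⁻¹ * m) = m
      group

/-- **growth** -/
theorem grow [Finite G] {t : G} {X N S S0 : Subgroup G} (cardX : Nat.card X = 16) (el : El X)
    (hN : N ≤ NN t X) (tr : ∀ x ∈ X, ∃ n ∈ N, n * t * n⁻¹ = t * x)
    (ht : ∀ x ∈ X, x ≠ 1 → ∀ y ∈ X, y ≠ 1 → ∃ k ∈ N, k * t = t * k ∧ k * x * k⁻¹ = y)
    (hSN : S ≤ N) (hSt : ∀ s ∈ S, s * t = t * s) (h2 : IsPGroup 2 S)
    (h0 : ∀ s ∈ S, Cen s X → s ∈ S0) (h8 : 8 * Nat.card S0 ≤ Nat.card S) :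
    ∀ x ∈ X, ∃ f ∈ N, Cen f X ∧ f * t * f⁻¹ = t * x := by
  by_contra hcon
  push Not at hcon
  obtain ⟨x0, hx0, hx0'⟩ := hcon
  -- the elements of `N ∩ C(X)` commute with `t`
  have hB : ∀ f ∈ N, Cen f X → f * t = t * f := by
    intro f hf hfX
    obtain ⟨-, y, hy, hfy⟩ := hN hf
    by_cases y1 : y = 1
    · rw [y1, mul_one, mul_inv_eq_iff_eq_mul] at hfy
      exact hfy
    exfalso
    by_cases x1 : x0 = 1
    · exact hx0' 1 N.one_mem (fun x _ => by rw [one_mul, mul_one]) (by rw [x1]; group)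
    obtain ⟨k, hk, hkt, hkx⟩ := ht y hy y1 x0 hx0 x1
    refine hx0' (k * f * k⁻¹) (N.mul_mem (N.mul_mem hk hf) (N.inv_mem hk)) (hfX.gconj (hN hk).1) ?_
    have hkt' : k⁻¹ * t * k = t := by
      rw [mul_assoc, ← hkt, ← mul_assoc, inv_mul_cancel, one_mul]
    calc k * f * k⁻¹ * t * (k * f * k⁻¹)⁻¹ = k * f * (k⁻¹ * t * k) * f⁻¹ * k⁻¹ := by group
      _ = k * (f * t * f⁻¹) * k⁻¹ := by rw [hkt']; group
      _ = (k * t) * y * k⁻¹ := by rw [hfy]; group
      _ = t * (k * y * k⁻¹) := by rw [hkt]; group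
      _ = t * x0 := by rw [hkx]
  -- the action on `X`
  have hNX : N ≤ normalizer (X : Set G) := by
    intro g hg
    rw [mem_normalizer_iff]
    intro x
    exact ((hN hg).1 x).symm
  let ψ : N →* MulAut X := X.normalizerMonoidHom.comp (inclusion hNX)
  have hψ : ∀ n : N, ∀ x : X, ((ψ n x : X) : G) = n * x * (n : G)⁻¹ := fun n x => rfl
  have hker : ∀ n : N, n ∈ ψ.ker ↔ Cen (n : G) X := by
    intro n
    rw [MonoidHom.mem_ker]
    constructor
    · intro h x hx
      have h1 := congrArg (fun α : MulAut X => ((α ⟨x, hx⟩ : X) : G)) h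
      have h2 : (n : G) * x * (n : G)⁻¹ = x := h1
      rw [mul_inv_eq_iff_eq_mul] at h2
      exact h2
    · intro h
      ext x
      rw [hψ, h x x.2]
      simp
  let C1 : Subgroup N :=
    { carrier := {n | (n : G) * t = t * n}
      one_mem' := by simp
      mul_mem' := by
        intro a b ha hb
        have ha' : (a : G) * t = t * a := ha
        have hb' : (b : G) * t = t * b := hb
        show (a : G) * b * t = t * (a * b)
        rw [mul_assoc, hb', ← mul_assoc, ha', mul_assoc]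
      inv_mem' := by
        intro a ha
        have ha' : (a : G) * t = t * a := ha
        show (a : G)⁻¹ * t = t * (a : G)⁻¹
        rw [inv_mul_eq_iff_eq_mul, ← mul_assoc, ha', mul_inv_cancel_right] }
  have hC1 : Nat.card N = 16 * Nat.card C1 := by
    have h1 := card_trans hN tr
    rw [cardX] at h1
    exact h1
  have hkC : ψ.ker ≤ C1 := fun n hn => hB n n.2 ((hker n).1 hn)
  have hpos : 0 < Nat.card C1 := Nat.card_pos
  have hidx : C1.index = 16 := by
    have h1 := C1.card_mul_index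
    rw [hC1] at h1
    have h3 : Nat.card C1 * C1.index = Nat.card C1 * 16 := by rw [h1]; ring
    exact Nat.eq_of_mul_eq_mul_left hpos h3
  have e1 : ψ.ker.index = Nat.card (C1.map ψ) * 16 := by
    rw [← relIndex_mul_index hkC, relIndex_ker, hidx]
  -- the image of `S`
  have hS' : S.subgroupOf N ≤ C1 := fun s hs => hSt s (mem_subgroupOf.1 hs)
  have d1 : Nat.card ((S.subgroupOf N).map ψ) ∣ Nat.card (C1.map ψ) :=
    Subgroup.card_dvd_of_le (map_mono hS')
  have p1 : IsPGroup 2 (S.subgroupOf N) := h2.comap_of_injective N.subtype N.subtype_injective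
  obtain ⟨k, hk⟩ := (IsPGroup.iff_card.1 (p1.map ψ))
  have c1 : Nat.card (S.subgroupOf N) = Nat.card S :=
    Nat.card_congr (subgroupOfEquivOfLe hSN).toEquiv
  have c2 : Nat.card (ψ.ker.subgroupOf (S.subgroupOf N)) ≤ Nat.card S0 := by
    refine Nat.card_le_card_of_injective
      (fun a => (⟨((a : ↥(S.subgroupOf N)) : N), h0 _ (mem_subgroupOf.1 (a : ↥(S.subgroupOf N)).2)
        ((hker _).1 (mem_subgroupOf.1 a.2))⟩ : S0)) ?_
    intro a b hab
    have h3 : (((a : ↥(S.subgroupOf N)) : N) : G) = (((b : ↥(S.subgroupOf N)) : N) : G) :=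
      congrArg (fun x : S0 => (x : G)) hab
    exact Subtype.ext (Subtype.ext (Subtype.ext h3))
  have c3 : 8 ≤ Nat.card ((S.subgroupOf N).map ψ) := by
    have h3 := (ψ.ker.subgroupOf (S.subgroupOf N)).card_mul_index
    rw [c1] at h3
    have h4 : (ψ.ker.subgroupOf (S.subgroupOf N)).index = Nat.card ((S.subgroupOf N).map ψ) := by
      rw [← relIndex_ker]; rfl
    rw [h4] at h3
    by_contra h5
    have h6 : Nat.card ((S.subgroupOf N).map ψ) ≤ 7 := by omega
    have h7 : 0 < Nat.card (ψ.ker.subgroupOf (S.subgroupOf N)) := Nat.card_pos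
    nlinarith [Nat.mul_le_mul c2 h6]
  rw [hk] at c3 d1
  have hk3 : 3 ≤ k := by
    by_contra h5
    have : 2 ^ k ≤ 2 ^ 2 := Nat.pow_le_pow_right (by norm_num) (by omega)
    omega
  have d2 : 2 ^ 3 ∣ Nat.card (C1.map ψ) := (pow_dvd_pow 2 hk3).trans d1
  have d3 : 128 ∣ ψ.ker.index := by
    rw [e1]
    obtain ⟨m, hm⟩ := d2
    exact ⟨m, by rw [hm]; ring⟩
  have d4 : ψ.ker.index ∣ Nat.card (MulAut X) := by
    rw [index_ker]
    exact Subgroup.card_subgroup_dvd_card _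
  have d5 : Nat.card (MulAut X) = 20160 := by
    have := Cfsg.Agent.Transfer.ElemAbAut.card_mulAut (T := X) 2 4
      (fun x y => Subtype.ext (el.gcomm x.2 y.2))
      (fun x => Subtype.ext (by
        show (x : G) ^ 2 = 1
        rw [pow_two]; exact el x x.2)) (by rw [cardX]; norm_num)
    rw [this]
    simp [Fin.prod_univ_succ]
  have d6 := d3.trans d4
  rw [d5] at d6
  revert d6
  norm_num

end Cfsg.Agent.OddHalf.MMOut

end

-- merged: Cfsg.Agent.OddHalf.MMOut.Base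
section

/-!
# ODD half, D8, `M22` outer case: the subgroups `⟨t⟩ × φ(H)` (helper908)
-/

set_option autoImplicit false
set_option linter.unusedSectionVars false

namespace Cfsg.Agent.OddHalf.MMOut

open scoped commutatorElement

open Subgroup Cfsg.Agent.OddHalf.MM

variable {A G : Type*} [Group A] [Group G] {t : G} {φ : A →* G}

section Setting

variable (s : Setting t φ)
include s

theorem t_comm (a : A) : t * φ a = φ a * t := (s.comm a).symm

theorem t_inv : t⁻¹ = t := inv_eq_of_mul_eq_one_right s.tt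

theorem tt_mul (g : G) : t * (t * g) = g := by rw [← mul_assoc, s.tt, one_mul]

theorem phi_ne (a b : A) : φ a ≠ t * φ b := by
  intro h
  apply s.tK (a * b⁻¹)
  rw [map_mul, map_inv, h]; group

theorem conj_t (a : A) : φ a * t * (φ a)⁻¹ = t := by rw [s.comm]; group

/-- the double of a subgroup `H` -/
def dbl (H : Subgroup A) : Subgroup G where
  carrier := {g | ∃ a ∈ H, g = φ a ∨ g = t * φ a}
  one_mem' := ⟨1, H.one_mem, Or.inl (map_one φ).symm⟩
  mul_mem' := by
    rintro x y ⟨a, ha, rfl | rfl⟩ ⟨b, hb, rfl | rfl⟩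
    · exact ⟨a * b, H.mul_mem ha hb, Or.inl (map_mul φ a b).symm⟩
    · refine ⟨a * b, H.mul_mem ha hb, Or.inr ?_⟩
      rw [map_mul, ← mul_assoc, ← t_comm s, mul_assoc]
    · refine ⟨a * b, H.mul_mem ha hb, Or.inr ?_⟩
      rw [map_mul, mul_assoc]
    · refine ⟨a * b, H.mul_mem ha hb, Or.inl ?_⟩
      calc t * φ a * (t * φ b) = t * (φ a * t) * φ b := by group
        _ = φ (a * b) := by rw [← t_comm s, map_mul, ← mul_assoc t t, s.tt, one_mul]
  inv_mem' := by
    rintro x ⟨a, ha, rfl | rfl⟩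
    · exact ⟨a⁻¹, H.inv_mem ha, Or.inl (map_inv φ a).symm⟩
    · refine ⟨a⁻¹, H.inv_mem ha, Or.inr ?_⟩
      rw [mul_inv_rev, t_inv s, ← map_inv, t_comm s]

theorem mem_dbl {H : Subgroup A} {g : G} : g ∈ dbl s H ↔ ∃ a ∈ H, g = φ a ∨ g = t * φ a := Iff.rfl

theorem phi_mem {H : Subgroup A} {a : A} : φ a ∈ dbl s H ↔ a ∈ H := by
  constructor
  · rintro ⟨b, hb, h | h⟩
    · rwa [s.inj h]
    · exact absurd h (phi_ne s a b)
  · exact fun h => ⟨a, h, Or.inl rfl⟩

theorem tphi_mem {H : Subgroup A} {a : A} : t * φ a ∈ dbl s H ↔ a ∈ H := by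
  constructor
  · rintro ⟨b, hb, h | h⟩
    · exact absurd h.symm (phi_ne s b a)
    · rwa [s.inj (mul_left_cancel h)]
  · exact fun h => ⟨a, h, Or.inr rfl⟩

theorem t_mem (H : Subgroup A) : t ∈ dbl s H := ⟨1, H.one_mem, Or.inr (by rw [map_one, mul_one])⟩

theorem map_le (H : Subgroup A) : H.map φ ≤ dbl s H := by
  rintro _ ⟨a, ha, rfl⟩
  exact (phi_mem s).2 ha

theorem dbl_mono {H L : Subgroup A} (h : H ≤ L) : dbl s H ≤ dbl s L := by
  rintro g ⟨a, ha, e⟩
  exact ⟨a, h ha, e⟩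

theorem comm_t {H : Subgroup A} {g : G} (h : g ∈ dbl s H) : g * t = t * g := by
  obtain ⟨a, -, rfl | rfl⟩ := h
  · exact s.comm a
  · rw [mul_assoc, s.comm]

theorem mem_dbl_top {g : G} : g ∈ dbl s ⊤ ↔ g * t = t * g := by
  constructor
  · exact fun h => comm_t s h
  · intro h
    obtain ⟨k, hk⟩ := s.cent g h
    exact ⟨k, Subgroup.mem_top k, hk⟩

theorem card_dbl [Finite A] (H : Subgroup A) : Nat.card (dbl s H) = 2 * Nat.card H := by
  classical
  have h1 : Nat.card (dbl s H) = Nat.card (Bool × H) := by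
    refine (Nat.card_congr (Equiv.ofBijective
      (fun p : Bool × H => (⟨if p.1 then t * φ p.2 else φ p.2, by
        split
        · exact (tphi_mem s).2 p.2.2
        · exact (phi_mem s).2 p.2.2⟩ : dbl s H)) ⟨?_, ?_⟩)).symm
    · rintro ⟨i, a⟩ ⟨j, b⟩ h
      have h1 := congrArg Subtype.val h
      cases i <;> cases j <;> simp only [Bool.false_eq_true, if_false, if_true] at h1
      · rw [Subtype.ext (s.inj h1)]
      · exact absurd h1 (phi_ne s _ _)
      · exact absurd h1.symm (phi_ne s _ _)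
      · rw [Subtype.ext (s.inj (mul_left_cancel h1))]
    · rintro ⟨g, a, ha, rfl | rfl⟩
      · exact ⟨(false, ⟨a, ha⟩), by simp⟩
      · exact ⟨(true, ⟨a, ha⟩), by simp⟩
  rw [h1, Nat.card_prod]
  simp

theorem el_dbl {H : Subgroup A} (h : El H) : El (dbl s H) := by
  rintro _ ⟨a, ha, rfl | rfl⟩
  · rw [← map_mul, h a ha, map_one]
  · calc t * φ a * (t * φ a) = t * (φ a * t) * φ a := by group
      _ = 1 := by
        rw [← t_comm s, ← mul_assoc t t, s.tt, one_mul, ← map_mul, h a ha, map_one]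

theorem el_map {H : Subgroup A} (h : El H) : El (H.map φ) := fun x hx => el_dbl s h x (map_le s H hx)

theorem pgroup_dbl [Finite A] {H : Subgroup A} (h : IsPGroup 2 H) : IsPGroup 2 (dbl s H) := by
  obtain ⟨n, hn⟩ := IsPGroup.iff_card.1 h
  have : Finite (dbl s H) := Nat.finite_of_card_ne_zero (by
    rw [card_dbl]
    have : 0 < Nat.card H := Nat.card_pos
    omega)
  exact IsPGroup.iff_card.2 ⟨n + 1, by rw [card_dbl, hn]; ring⟩

/-- conjugation by `φ a` -/
theorem nrm_map {H : Subgroup A} {a : A} (h : Nrm a H) : Nrm (φ a) (H.map φ) := by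
  intro g
  constructor
  · rintro ⟨b, hb, e⟩
    refine ⟨a⁻¹ * b * a, h.gconj' hb, ?_⟩
    rw [map_mul, map_mul, map_inv, e]; group
  · rintro ⟨b, hb, rfl⟩
    exact ⟨a * b * a⁻¹, (h b).2 hb, by simp⟩

theorem nrm_t {H : Subgroup A} : Nrm t (H.map φ) := by
  intro g
  constructor
  · rintro ⟨b, hb, e⟩
    refine ⟨b, hb, ?_⟩
    have h1 : g = t⁻¹ * φ b * t := by rw [e]; group
    rw [h1, mul_assoc, s.comm]; group
  · rintro ⟨b, hb, rfl⟩
    refine ⟨b, hb, ?_⟩
    rw [t_comm s]; group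

/-- `g ∈ ⟨t⟩ × φ(H)` normalises `φ(L)` if `H` normalises `L` -/
theorem nrm_of_mem {H L : Subgroup A} (h : ∀ a ∈ H, Nrm a L) {g : G} (hg : g ∈ dbl s H) :
    Nrm g (L.map φ) := by
  obtain ⟨a, ha, rfl | rfl⟩ := hg
  · exact nrm_map s (h a ha)
  · exact (nrm_t s).mul (nrm_map s (h a ha))

theorem conj_key {a : A} {g : G} (hg : g = φ a ∨ g = t * φ a) (b : A) :
    (g * φ b * g⁻¹ = φ (a * b * a⁻¹)) ∧ g * (t * φ b) * g⁻¹ = t * φ (a * b * a⁻¹) := by
  rcases hg with rfl | rfl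
  · refine ⟨by simp, ?_⟩
    calc φ a * (t * φ b) * (φ a)⁻¹ = (φ a * t) * φ b * (φ a)⁻¹ := by group
      _ = t * φ (a * b * a⁻¹) := by rw [s.comm]; simp [mul_assoc]
  · refine ⟨?_, ?_⟩
    · calc t * φ a * φ b * (t * φ a)⁻¹ = t * φ (a * b * a⁻¹) * t⁻¹ := by simp [mul_assoc]
        _ = φ (a * b * a⁻¹) := by rw [t_comm s, mul_inv_cancel_right]
    · calc t * φ a * (t * φ b) * (t * φ a)⁻¹ = t * (φ a * t) * φ b * (φ a)⁻¹ * t⁻¹ := by group
        _ = t * (t * φ (a * b * a⁻¹)) * t⁻¹ := by rw [s.comm]; simp [mul_assoc]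
        _ = t * φ (a * b * a⁻¹) := by
          rw [t_comm s, mul_assoc, mul_assoc, mul_inv_cancel, mul_one, ← t_comm s]

theorem nrm_dbl_of_mem {H L : Subgroup A} (h : ∀ a ∈ H, Nrm a L) {g : G} (hg : g ∈ dbl s H) :
    Nrm g (dbl s L) := by
  obtain ⟨a, ha, hg⟩ := hg
  have key := conj_key s hg
  intro y
  constructor
  · rintro ⟨b, hb, e | e⟩
    · refine ⟨a⁻¹ * b * a, (h a ha).gconj' hb, Or.inl ?_⟩
      have h1 : y = g⁻¹ * φ b * g := by rw [← e]; group
      have h2 := (key (a⁻¹ * b * a)).1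
      have h3 : a * (a⁻¹ * b * a) * a⁻¹ = b := by group
      rw [h3] at h2
      rw [h1, ← h2]; group
    · refine ⟨a⁻¹ * b * a, (h a ha).gconj' hb, Or.inr ?_⟩
      have h1 : y = g⁻¹ * (t * φ b) * g := by rw [← e]; group
      have h2 := (key (a⁻¹ * b * a)).2
      have h3 : a * (a⁻¹ * b * a) * a⁻¹ = b := by group
      rw [h3] at h2
      rw [h1, ← h2]; group
  · rintro ⟨b, hb, rfl | rfl⟩
    · exact ⟨_, (h a ha b).2 hb, Or.inl (key b).1⟩
    · exact ⟨_, (h a ha b).2 hb, Or.inr (key b).2⟩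

/-- an element of `C(t)` centralising `φ(H)` -/
theorem cen_of {H C : Subgroup A} (hC : ∀ a, Cen a H → a ∈ C) {g : G} (hg : g * t = t * g)
    (hc : Cen g (H.map φ)) : g ∈ dbl s C := by
  obtain ⟨a, ha⟩ := s.cent g hg
  refine ⟨a, hC a fun x hx => ?_, ha⟩
  apply s.inj
  have h1 := hc (φ x) ⟨x, hx, rfl⟩
  rw [map_mul, map_mul]
  rcases ha with rfl | rfl
  · exact h1
  · apply mul_left_cancel (a := t)
    rw [← mul_assoc, h1, ← mul_assoc, ← mul_assoc, s.comm]

theorem cen_t (H : Subgroup A) : Cen t (H.map φ) := by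
  rintro _ ⟨a, -, rfl⟩
  exact t_comm s a

/-- a subgroup of `C(t)` which contains `t` is a double -/
theorem eq_dbl {F : Subgroup G} (hF : ∀ g ∈ F, g * t = t * g) (ht : t ∈ F) :
    F = dbl s (F.comap φ) := by
  ext g
  constructor
  · intro hg
    obtain ⟨a, e | e⟩ := s.cent g (hF g hg)
    · exact ⟨a, by rw [mem_comap, ← e]; exact hg, Or.inl e⟩
    · refine ⟨a, ?_, Or.inr e⟩
      rw [mem_comap]
      have : φ a = t * g := by rw [e, tt_mul s]
      rw [this]
      exact F.mul_mem ht hg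
  · rintro ⟨a, ha, rfl | rfl⟩
    · exact ha
    · exact F.mul_mem ht ha

/-- `[⟨t⟩ × φ(H), ⟨t⟩ × φ(H)] = φ([H, H])` -/
theorem commutator_dbl (H : Subgroup A) : ⁅dbl s H, dbl s H⁆ = (⁅H, H⁆ : Subgroup A).map φ := by
  apply le_antisymm
  · rw [commutator_le]
    intro x hx y hy
    obtain ⟨a, ha, ea⟩ := hx
    obtain ⟨b, hb, eb⟩ := hy
    refine ⟨⁅a, b⁆, commutator_mem_commutator ha hb, ?_⟩
    rw [map_commutatorElement]
    have h1 := conj_key s ea b
    rw [commutatorElement_def, commutatorElement_def]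
    rcases eb with rfl | rfl
    · rw [h1.1]; simp
    · rw [h1.2, mul_inv_rev, t_inv s]
      calc φ a * φ b * (φ a)⁻¹ * (φ b)⁻¹ = φ (a * b * a⁻¹) * φ b⁻¹ := by simp
        _ = t * (t * (φ (a * b * a⁻¹) * φ b⁻¹)) := by rw [tt_mul s]
        _ = t * φ (a * b * a⁻¹) * ((φ b)⁻¹ * t) := by
          rw [← map_mul, t_comm s, map_mul, map_inv]; group
  · rw [map_commutator]
    exact commutator_mono (map_le s H) (map_le s H)

end Setting

end Cfsg.Agent.OddHalf.MMOut

end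

-- merged: Cfsg.Agent.OddHalf.MMOut.Trans
section

/-!
# ODD half, D8, `M22` outer case: translations over `V` and `W`, and the element `y` (helper908)

`Swap SA z s x`: `x` normalises `T = ⟨t⟩ × φ(SA)`, `t^x = t φ(z)`, and `t` is not conjugate to `φ(z)`.

`trans_V`, `trans_W`: every `v ∈ V` (`w ∈ W`) is `[f, t]` for some `f ∈ C(V)` (`f ∈ C(W)`).
`exists_y`: an involution `y ∈ C(VW)` with `t^y = t φ(z)`.
-/

set_option autoImplicit false
set_option linter.unusedSectionVars false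

namespace Cfsg.Agent.OddHalf.MMOut

open Subgroup Cfsg.Agent.OddHalf.MM

variable {A G : Type*} [Group A] [Group G] {K SA V W P : Subgroup A} {z : A} {t : G} {φ : A →* G}

/-- the swap -/
structure Swap (SA : Subgroup A) (z : A) (s : Setting t φ) (x : G) : Prop where
  xT : Nrm x (dbl s SA)
  xt : x * t * x⁻¹ = t * φ z
  xz : x * φ z * x⁻¹ = φ z
  nz : ∀ g, g * t * g⁻¹ ≠ φ z

theorem nrm_of_two {X : Subgroup G} {g : G} (h1 : ∀ x ∈ X, g * x * g⁻¹ ∈ X)
    (h2 : ∀ x ∈ X, g⁻¹ * x * g ∈ X) : Nrm g X := by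
  intro x
  refine ⟨fun h => ?_, h1 x⟩
  have := h2 _ h
  have e : g⁻¹ * (g * x * g⁻¹) * g = x := by group
  rwa [e] at this

namespace Sheet

variable (h : Sheet K SA V W P z)
include h

theorem WS : W ≤ SA := h.WP.trans h.PS

theorem elW : El W := fun x hx => h.elP x (h.WP hx)

theorem zz : z * z = 1 := h.elV z h.zV

theorem zK : z ∈ K := h.VK h.zV

theorem zS : z ∈ SA := h.VS h.zV

theorem z_central [Finite A] : ∀ a ∈ SA, a * z = z * a := by
  have : Fact (Nat.Prime 2) := ⟨Nat.prime_two⟩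
  have hnt : Nontrivial SA := by
    rw [← Finite.one_lt_card_iff_nontrivial, h.cardSA]; norm_num
  have h1 := h.two.center_nontrivial
  obtain ⟨⟨⟨y, hy⟩, hyc⟩, hne⟩ := exists_ne (1 : center SA)
  have hyc' : ∀ a ∈ SA, a * y = y * a := by
    intro a ha
    exact congrArg Subtype.val ((mem_center_iff.1 hyc) ⟨a, ha⟩)
  rcases h.cen y hy hyc' with h2 | h2
  · exact absurd (Subtype.ext (Subtype.ext h2)) hne
  · rw [← h2]; exact hyc'

/-- `V ∩ P = V ∩ W` -/
theorem VP : ∀ v ∈ V, v ∈ P → v ∈ W := fun v hv hp => h.PK v hp (h.VK hv)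

end Sheet

section

variable (h : Sheet K SA V W P z) (s : Setting t φ)
include h s

/-- no conjugate of `t` in `φ(K)` -/
theorem not_D (nz : ∀ g, g * t * g⁻¹ ≠ φ z) {a : A} (ha : a ∈ K) (ha2 : a * a = 1)
    (g : G) : g * t * g⁻¹ ≠ φ a := by
  intro e
  by_cases a1 : a = 1
  · rw [a1, map_one] at e
    apply s.t1
    have : t = g⁻¹ * (g * t * g⁻¹) * g := by group
    rw [this, e]; group
  · obtain ⟨k, rfl⟩ := h.inv a ha ha2 a1
    apply nz ((φ k)⁻¹ * g)
    calc (φ k)⁻¹ * g * t * ((φ k)⁻¹ * g)⁻¹ = (φ k)⁻¹ * (g * t * g⁻¹) * φ k := by group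
      _ = φ z := by rw [e]; simp [mul_assoc]

/-- `t φ(a)` is conjugate to `t` for `a ∈ K`, `a² = 1` -/
theorem D_tK {x : G} (hx : Swap SA z s x) {a : A} (ha : a ∈ K) (ha2 : a * a = 1) :
    ∃ g, g * t * g⁻¹ = t * φ a := by
  by_cases a1 : a = 1
  · exact ⟨1, by rw [a1, map_one]; group⟩
  · obtain ⟨k, rfl⟩ := h.inv a ha ha2 a1
    refine ⟨φ k * x, ?_⟩
    calc φ k * x * t * (φ k * x)⁻¹ = φ k * (x * t * x⁻¹) * (φ k)⁻¹ := by group
      _ = t * φ (k * z * k⁻¹) := by rw [hx.xt]; exact (conj_key s (Or.inl rfl) z).2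

/-- an element which normalises `⟨t⟩ × φ(X)`, `X ≤ K`, normalises `φ(X)` -/
theorem nrm_map_of_dbl {x : G} (hx : Swap SA z s x) {X : Subgroup A} (hX : X ≤ K) (el : El X) {g : G}
    (hg : Nrm g (dbl s X)) : Nrm g (X.map φ) := by
  have key : ∀ g : G, Nrm g (dbl s X) → ∀ y ∈ X.map φ, g * y * g⁻¹ ∈ X.map φ := by
    rintro g hg _ ⟨a, ha, rfl⟩
    obtain ⟨b, hb, e | e⟩ := (hg (φ a)).2 ((phi_mem s).2 ha)
    · exact ⟨b, hb, e.symm⟩
    · exfalso
      obtain ⟨k, hk⟩ := D_tK h s hx (hX hb) (el b hb)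
      apply not_D h s hx.nz (hX ha) (el a ha) (g⁻¹ * k)
      calc g⁻¹ * k * t * (g⁻¹ * k)⁻¹ = g⁻¹ * (k * t * k⁻¹) * g := by group
        _ = g⁻¹ * (g * φ a * g⁻¹) * g := by rw [hk, e]
        _ = φ a := by group
  refine nrm_of_two (key g hg) ?_
  intro y hy
  have := key g⁻¹ hg.inv y hy
  rwa [inv_inv] at this

/-- translations -/
theorem translate [Finite A] [Finite G] {X C : Subgroup A} (el : El X)
    (card : Nat.card X = 16)
    (zX : z ∈ X)
    (tr : ∀ v ∈ X, v ≠ 1 → ∃ k : A, Nrm k X ∧ k * z * k⁻¹ = v) (nX : ∀ a ∈ SA, Nrm a X)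
    (hC : ∀ a, Cen a X → a ∈ C) (cC : Nat.card C ≤ 32) {x : G} (nx : Nrm x (X.map φ))
    (xt : x * t * x⁻¹ = t * φ z) :
    ∀ v ∈ X, ∃ f, Cen f (X.map φ) ∧ f * t * f⁻¹ = t * φ v := by
  have hk : ∀ k : A, Nrm k X → φ k ∈ NN t (X.map φ) := fun k hk =>
    ⟨nrm_map s hk, 1, one_mem _, by rw [conj_t s, mul_one]⟩
  have hxN : x ∈ NN t (X.map φ) := ⟨nx, φ z, ⟨z, zX, rfl⟩, xt⟩
  have main := grow (t := t) (X := X.map φ) (N := NN t (X.map φ)) (S := dbl s SA) (S0 := dbl s C)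
    (by rw [card_map_of_injective s.inj]; exact card) (el_map s el) le_rfl
    (by
      rintro _ ⟨v, hv, rfl⟩
      by_cases v1 : v = 1
      · exact ⟨1, one_mem _, by rw [v1, map_one]; group⟩
      · obtain ⟨k, hkX, e⟩ := tr v hv v1
        refine ⟨φ k * x, mul_mem (hk k hkX) hxN, ?_⟩
        calc φ k * x * t * (φ k * x)⁻¹ = φ k * (x * t * x⁻¹) * (φ k)⁻¹ := by group
          _ = t * φ v := by rw [xt, ← e]; exact (conj_key s (Or.inl rfl) z).2)
    (by
      rintro _ ⟨v, hv, rfl⟩ hv1 _ ⟨w, hw, rfl⟩ hw1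
      have v1 : v ≠ 1 := fun e => hv1 (by rw [e, map_one])
      have w1 : w ≠ 1 := fun e => hw1 (by rw [e, map_one])
      obtain ⟨k, hkX, e⟩ := tr v hv v1
      obtain ⟨k', hkX', e'⟩ := tr w hw w1
      refine ⟨φ (k' * k⁻¹), hk _ (hkX'.mul hkX.inv), s.comm _, ?_⟩
      rw [← e, ← e', ← map_inv, ← map_mul, ← map_mul]
      congr 1
      group)
    (by
      intro g hg
      refine ⟨nrm_of_mem s nX hg, 1, one_mem _, ?_⟩
      rw [comm_t s hg]; group)
    (fun g hg => comm_t s hg) (pgroup_dbl s h.two)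
    (fun g hg hc => cen_of s hC (comm_t s hg) hc)
    (by rw [card_dbl, card_dbl, h.cardSA]; omega)
  intro v hv
  obtain ⟨f, -, h1, h2⟩ := main (φ v) ⟨v, hv, rfl⟩
  exact ⟨f, h1, h2⟩

/-- an element over `z` normalises `T` -/
theorem comm_T [Finite A] {X C : Subgroup A} (nX : ∀ a ∈ SA, Nrm a X)
    (hC : ∀ a, Cen a X → a ∈ C) {f : G} (cf : Cen f (X.map φ)) (ft : f * t * f⁻¹ = t * φ z) :
    ∀ g ∈ dbl s SA, f⁻¹ * g * f * g⁻¹ ∈ dbl s C := by
  intro g hg
  have hgt := comm_t s hg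
  have c1 : Cen (g * f * g⁻¹) (X.map φ) := cf.gconj (nrm_of_mem s nX hg)
  have e1 : g * (t * φ z) * g⁻¹ = t * φ z := by
    obtain ⟨a, ha, ea⟩ := hg
    rw [(conj_key s ea z).2, h.z_central a ha, mul_inv_cancel_right]
  have e2 : f⁻¹ * (t * φ z) * f = t := by rw [← ft]; group
  have e3 : (f⁻¹ * (g * f * g⁻¹)) * t * (f⁻¹ * (g * f * g⁻¹))⁻¹ = t := by
    have h4 : g⁻¹ * t * g = t := by rw [mul_assoc, ← hgt]; group
    calc (f⁻¹ * (g * f * g⁻¹)) * t * (f⁻¹ * (g * f * g⁻¹))⁻¹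
        = f⁻¹ * g * f * (g⁻¹ * t * g) * f⁻¹ * g⁻¹ * f := by group
      _ = f⁻¹ * (g * (f * t * f⁻¹) * g⁻¹) * f := by rw [h4]; group
      _ = t := by rw [ft, e1, e2]
  have e4 : (f⁻¹ * (g * f * g⁻¹)) * t = t * (f⁻¹ * (g * f * g⁻¹)) := by
    rwa [mul_inv_eq_iff_eq_mul] at e3
  have h5 := cen_of s hC e4 (cf.ginv.gmul c1)
  have e6 : f⁻¹ * g * f * g⁻¹ = f⁻¹ * (g * f * g⁻¹) := by group
  rw [e6]
  exact h5

theorem inv_over {X : Subgroup A} (zX : z ∈ X) {f : G} (cf : Cen f (X.map φ))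
    (ft : f * t * f⁻¹ = t * φ z) : f⁻¹ * t * f⁻¹⁻¹ = t * φ z := by
  have e1 : f⁻¹ * φ z * f = φ z := by
    rw [mul_assoc, ← cf (φ z) ⟨z, zX, rfl⟩]; group
  have e2 : t = (f⁻¹ * t * f) * φ z := by
    calc t = f⁻¹ * (f * t * f⁻¹) * f := by group
      _ = (f⁻¹ * t * f) * (f⁻¹ * φ z * f) := by rw [ft]; group
      _ = (f⁻¹ * t * f) * φ z := by rw [e1]
  have zz : φ z * φ z = 1 := by rw [← map_mul, h.zz, map_one]
  rw [inv_inv]
  calc f⁻¹ * t * f = (f⁻¹ * t * f) * φ z * φ z := by rw [mul_assoc _ (φ z), zz, mul_one]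
    _ = t * φ z := by rw [← e2]

theorem comm_T' [Finite A] {X C : Subgroup A} (zX : z ∈ X) (nX : ∀ a ∈ SA, Nrm a X)
    (hC : ∀ a, Cen a X → a ∈ C) {f : G} (cf : Cen f (X.map φ)) (ft : f * t * f⁻¹ = t * φ z) :
    ∀ g ∈ dbl s SA, f * g * f⁻¹ * g⁻¹ ∈ dbl s C := by
  have := comm_T h s nX hC cf.ginv (inv_over h s zX cf ft)
  simpa only [inv_inv] using this

theorem nrm_T [Finite A] {X C : Subgroup A} (zX : z ∈ X) (nX : ∀ a ∈ SA, Nrm a X)
    (hC : ∀ a, Cen a X → a ∈ C) (CS : C ≤ SA) {f : G} (cf : Cen f (X.map φ))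
    (ft : f * t * f⁻¹ = t * φ z) : Nrm f (dbl s SA) := by
  refine nrm_of_two ?_ ?_
  · intro g hg
    have h1 := mul_mem (dbl_mono s CS (comm_T' h s zX nX hC cf ft g hg)) hg
    rwa [inv_mul_cancel_right] at h1
  · intro g hg
    have h1 := mul_mem (dbl_mono s CS (comm_T h s nX hC cf ft g hg)) hg
    rwa [inv_mul_cancel_right] at h1

/-- `⟨t⟩ × φ(P)` is the only elementary abelian subgroup of `T` of order at least 64 -/
theorem el64 [Finite A] {F : Subgroup G} (hF : F ≤ dbl s SA) (el : El F) (h64 : 64 ≤ Nat.card F) :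
    F = dbl s P := by
  -- add `t`
  let F' : Subgroup G :=
    { carrier := {g | g ∈ F ∨ t * g ∈ F}
      one_mem' := Or.inl F.one_mem
      mul_mem' := by
        rintro a b (ha | ha) (hb | hb)
        · exact Or.inl (F.mul_mem ha hb)
        · right
          have h1 := F.mul_mem ha hb
          have h2 : a * (t * b) = t * (a * b) := by
            rw [← mul_assoc, comm_t s (hF ha), mul_assoc]
          rwa [h2] at h1
        · right
          have h1 := F.mul_mem ha hb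
          rwa [mul_assoc] at h1
        · left
          have h1 := F.mul_mem ha hb
          have h3 : t * (t * a) = a := tt_mul s a
          have h2 : (t * a) * (t * b) = a * b := by
            have h4 : (t * a) * t = t * (t * a) := comm_t s (hF ha)
            calc (t * a) * (t * b) = ((t * a) * t) * b := by group
              _ = a * b := by rw [h4, h3]
          rwa [h2] at h1
      inv_mem' := by
        rintro a (ha | ha)
        · exact Or.inl (F.inv_mem ha)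
        · right
          have h1 := F.inv_mem ha
          have h4 : (t * a) * t = t * (t * a) := comm_t s (hF ha)
          have h2 : (t * a)⁻¹ = t * a⁻¹ := by
            rw [mul_inv_rev, t_inv s]
            have h5 : a * t = t * a := by
              rw [tt_mul s] at h4
              calc a * t = (t * a * t) * t := by rw [h4]
                _ = t * a * (t * t) := by group
                _ = t * a := by rw [s.tt, mul_one]
            calc a⁻¹ * t = a⁻¹ * (t * a) * a⁻¹ := by group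
              _ = a⁻¹ * (a * t) * a⁻¹ := by rw [h5]
              _ = t * a⁻¹ := by group
          rwa [h2] at h1 }
  have htT : ∀ g, t * g ∈ dbl s SA → g ∈ dbl s SA := fun g hg => by
    have := mul_mem (t_mem s SA) hg
    rwa [tt_mul s] at this
  have hF' : ∀ g ∈ F', g ∈ dbl s SA := by
    rintro g (hg | hg)
    · exact hF hg
    · exact htT g (hF hg)
  have hcF : ∀ g ∈ F', g * t = t * g := fun g hg => comm_t s (hF' g hg)
  have ht : t ∈ F' := Or.inr (by rw [s.tt]; exact F.one_mem)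
  have hFF : F ≤ F' := fun g hg => Or.inl hg
  have elF' : El F' := by
    rintro g hg
    rcases hg with hg | hg
    · exact el g hg
    · have h1 := el _ hg
      have h2 : g * t = t * g := hcF g (Or.inr hg)
      calc g * g = g * (t * t) * g := by rw [s.tt, mul_one]
        _ = (g * t) * (t * g) := by group
        _ = (t * g) * (t * g) := by rw [h2]
        _ = 1 := h1
  have e1 := eq_dbl s hcF ht
  have hfin : Finite F' := by
    have : Finite (dbl s SA) := Nat.finite_of_card_ne_zero (by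
      rw [card_dbl, h.cardSA]; norm_num)
    exact Finite.of_injective (fun g : F' => (⟨g, hF' g g.2⟩ : dbl s SA)) (fun a b hab =>
      Subtype.ext (congrArg (fun x : dbl s SA => (x : G)) hab))
  have c1 : Nat.card F ≤ Nat.card F' := Subgroup.card_le_of_le hFF
  have c2 : Nat.card F' = 2 * Nat.card (F'.comap φ) := by
    conv_lhs => rw [e1]
    exact card_dbl s _
  have hP : F'.comap φ = P := by
    apply h.el32
    · intro a ha
      exact (phi_mem s).1 (hF' _ ha)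
    · intro a ha
      apply s.inj
      rw [map_mul, map_one]
      exact elF' _ ha
    · omega
  have e2 : F' = dbl s P := by rw [e1, hP]
  have c3 : Nat.card F' = 64 := by rw [e2, card_dbl, h.cardP]
  rw [← e2]
  exact Subgroup.eq_of_le_of_card_ge hFF (by omega)

/-- an element normalising `T` normalises `⟨t⟩ × φ(P)` -/
theorem nrm_64 [Finite A] {g : G} (hg : Nrm g (dbl s SA)) : Nrm g (dbl s P) := by
  have key : ∀ g : G, Nrm g (dbl s SA) → (dbl s P).map (MulAut.conj g).toMonoidHom = dbl s P := by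
    intro g hg
    apply el64 h s
    · rintro _ ⟨a, ha, rfl⟩
      exact (hg a).2 (dbl_mono s h.PS ha)
    · rintro _ ⟨a, ha, rfl⟩
      have := el_dbl s h.elP a ha
      rw [← map_mul, this, map_one]
    · rw [card_map_of_injective (MulAut.conj g).injective, card_dbl, h.cardP]
  refine nrm_of_two ?_ ?_
  · intro y hy
    have h1 : g * y * g⁻¹ ∈ (dbl s P).map (MulAut.conj g).toMonoidHom := ⟨y, hy, rfl⟩
    rwa [key g hg] at h1
  · intro y hy
    have h1 : g⁻¹ * y * g⁻¹⁻¹ ∈ (dbl s P).map (MulAut.conj g⁻¹).toMonoidHom := ⟨y, hy, rfl⟩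
    rwa [key g⁻¹ hg.inv, inv_inv] at h1

/-- an element of `C(V)` over `z` normalises `W` -/
theorem nrm_W [Finite A] {x : G} (hx : Swap SA z s x) {f : G} (cf : Cen f (V.map φ))
    (ft : f * t * f⁻¹ = t * φ z) : Nrm f (W.map φ) := by
  have nP := nrm_64 h s (nrm_T h s h.zV h.nV h.CV h.VS cf ft)
  have key : ∀ f : G, Cen f (V.map φ) → f * t * f⁻¹ = t * φ z → Nrm f (dbl s P) →
      ∀ y ∈ W.map φ, f * y * f⁻¹ ∈ W.map φ := by
    rintro f cf ft nP _ ⟨w, hw, rfl⟩
    have h1 := comm_T' h s h.zV h.nV h.CV cf ft (φ w) ((phi_mem s).2 (h.WS hw))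
    have h2 : f * φ w * f⁻¹ ∈ dbl s P := (nP _).2 ((phi_mem s).2 (h.WP hw))
    have h3 : f * φ w * f⁻¹ * (φ w)⁻¹ ∈ dbl s P :=
      mul_mem h2 (inv_mem ((phi_mem s).2 (h.WP hw)))
    obtain ⟨v, hv, e⟩ := h1
    have hvP : v ∈ P := by
      rcases e with e | e
      · rw [e] at h3; exact (phi_mem s).1 h3
      · rw [e] at h3; exact (tphi_mem s).1 h3
    have hvW := h.VP v hv hvP
    have e0 : f * φ w * f⁻¹ = (f * φ w * f⁻¹ * (φ w)⁻¹) * φ w := by group
    rcases e with e | e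
    · exact ⟨v * w, W.mul_mem hvW hw, by rw [e0, e, map_mul]⟩
    · exfalso
      have e' : f * φ w * f⁻¹ = t * φ (v * w) := by rw [e0, e, map_mul, mul_assoc]
      have hvw := W.mul_mem hvW hw
      obtain ⟨k, hk⟩ := D_tK h s hx (h.WK hvw) (h.elW _ hvw)
      apply not_D h s hx.nz (h.WK hw) (h.elW w hw) (f⁻¹ * k)
      calc f⁻¹ * k * t * (f⁻¹ * k)⁻¹ = f⁻¹ * (k * t * k⁻¹) * f := by group
        _ = f⁻¹ * (f * φ w * f⁻¹) * f := by rw [hk, e']
        _ = φ w := by group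
  refine nrm_of_two (key f cf ft nP) ?_
  intro y hy
  have := key f⁻¹ cf.ginv (inv_over h s h.zV cf ft) nP.inv y hy
  rwa [inv_inv] at this

end

end Cfsg.Agent.OddHalf.MMOut

end
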