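import Cfsg.Agent.OddHalf.MM.Glue
import Cfsg.Agent.OddHalf.MMOut.Trans
import Cfsg.Agent.OddHalf.MMOut.FreeInv
import Cfsg.Agent.OddHalf.MM.Elem
import Cfsg.Agent.KFacts.MM.Cent
import Cfsg.Agent.J4Type.Aut22
import Cfsg.Agent.OddHalf.MM.Main
import Cfsg.Agent.KFacts.MM.Main
import Cfsg.Agent.KFacts.M23.OutOne
import Cfsg.Agent.KFacts.MM.OutAut
import Cfsg.Agent.OddHalf.MMOut.Sheet
import Cfsg.Agent.KFacts.MM.OutC
import Cfsg.Agent.OddHalf.MMOut.Lay
import Cfsg.Agent.OddHalf.MMOut.EndM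
import Cfsg.Agent.OddHalf.MMOut.All

-- merged: Cfsg.Agent.OddHalf.MMOut.GlueOut
section

/-!
# ODD half, D8, `M22`: the outer cases (helper253)

`Full M`: conjugation is an isomorphism of `A` onto `Aut(M)`. `exists_setting`: if `C(t)` contains an involution `b`
outside `⟨t⟩ K`, then `MM.Setting t φ` for some `φ : A →* G` extending `K ≅ M`. `exists_swap`: the swapping element `x` of
`Position` for the Sylow 2-subgroup `⟨t⟩ × φ(SA)`. `Four t φ`: the case in which `C(t)/K` is cyclic of order 4.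
`trichotomy`: the three cases.
-/

set_option autoImplicit false

namespace Cfsg.Agent.OddHalf.MMOut.GlueOut

open Subgroup Cfsg Cfsg.Agent.OddHalf.Front.FE Cfsg.Agent.OddHalf.MM Cfsg.Agent.OddHalf.MM.Glue

universe u

/-- conjugation is an isomorphism of `A` onto `Aut(M)` -/
structure Full {A : Type*} [Group A] (M : Subgroup A) : Prop where
  normal : M.Normal
  inj : ∀ a : A, (∀ m ∈ M, a * m = m * a) → a = 1
  surj : ∀ α : MulAut M, ∃ a : A, ∀ m : M, ((α m : M) : A) = a * m * a⁻¹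

variable {G : Type u} [Group G] {K : Subgroup G} {t : G}

/-- `t ∉ K` -/
theorem tK (P : Start K t t) : t ∉ K := fun h => P.t1 (P.cen t h fun y hy => P.Kt y hy)

/-- the subgroup `K⟨b⟩` -/
def KB (K : Subgroup G) (b : G) (hb : b ∈ normalizer (K : Set G)) (hbb : b * b = 1) : Subgroup G where
  carrier := {g | g ∈ K ∨ g * b ∈ K}
  one_mem' := Or.inl K.one_mem
  mul_mem' := by
    have hbi : b⁻¹ = b := inv_eq_of_mul_eq_one_right hbb
    have hconj : ∀ x ∈ K, b * x * b ∈ K := by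
      intro x hx
      have h := (mem_normalizer_iff.1 hb x).1 hx
      rwa [hbi] at h
    rintro x y (hx | hx) (hy | hy)
    · exact Or.inl (K.mul_mem hx hy)
    · right
      rw [mul_assoc]
      exact K.mul_mem hx hy
    · right
      have h := K.mul_mem hx (hconj y hy)
      have e : x * b * (b * y * b) = x * y * b := by
        calc x * b * (b * y * b) = x * (b * b) * y * b := by group
          _ = x * y * b := by rw [hbb, mul_one]
      rwa [e] at h
    · left
      have h := K.mul_mem hx (hconj _ hy)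
      have e : x * b * (b * (y * b) * b) = x * y := by
        calc x * b * (b * (y * b) * b) = x * (b * b) * y * (b * b) := by group
          _ = x * y := by rw [hbb, mul_one, mul_one]
      rwa [e] at h
  inv_mem' := by
    have hbi : b⁻¹ = b := inv_eq_of_mul_eq_one_right hbb
    rintro x (hx | hx)
    · exact Or.inl (K.inv_mem hx)
    · right
      have h := (mem_normalizer_iff.1 hb _).1 (K.inv_mem hx)
      have e : b * (x * b)⁻¹ * b⁻¹ = x⁻¹ * b := by
        rw [mul_inv_rev, hbi]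
        calc b * (b * x⁻¹) * b = (b * b) * x⁻¹ * b := by group
          _ = x⁻¹ * b := by rw [hbb, one_mul]
      rwa [e] at h

theorem mem_KB {b : G} {hb : b ∈ normalizer (K : Set G)} {hbb : b * b = 1} {g : G} :
    g ∈ KB K b hb hbb ↔ g ∈ K ∨ g * b ∈ K := Iff.rfl

section Hom

variable {A : Type*} [Group A] {M : Subgroup A} (e : M ≃* K)

/-- `y` induces on `K` the conjugation by `a` -/
def Ind (a : A) (y : G) : Prop := ∀ m m' : M, (m' : A) = a * m * a⁻¹ → y * e m = e m' * y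

variable {e}

theorem Ind.mul {a a' : A} {y y' : G} (F : Full M) (h : Ind e a y) (h' : Ind e a' y') :
    Ind e (a * a') (y * y') := by
  intro m m' hm
  have hN := F.normal
  have h1 := h' m ⟨a' * m * a'⁻¹, hN.conj_mem _ m.2 a'⟩ rfl
  have h2 := h ⟨a' * m * a'⁻¹, hN.conj_mem _ m.2 a'⟩ m' (by rw [hm]; group)
  rw [mul_assoc, h1, ← mul_assoc, h2, mul_assoc]

theorem Ind.inv {a : A} {y : G} (h : Ind e a y) : Ind e a⁻¹ y⁻¹ := by
  intro m m' hm
  have h1 := h m' m (by rw [hm]; group)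
  have h2 : (e m : G) = y * e m' * y⁻¹ := by rw [h1, mul_inv_cancel_right]
  rw [h2]; group

/-- elements inducing the identity -/
theorem Ind.cent {y : G} (h : Ind e 1 y) : ∀ x ∈ K, x * y = y * x := by
  intro x hx
  have h1 := h (e.symm ⟨x, hx⟩) (e.symm ⟨x, hx⟩) (by group)
  rw [e.apply_symm_apply] at h1
  exact h1.symm

theorem Ind.of_mem (m : M) : Ind e (m : A) (e m : G) := by
  intro m1 m' hm
  have h1 : m' = m * m1 * m⁻¹ := Subtype.ext hm
  rw [h1, map_mul, map_mul, map_inv]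
  push_cast
  group

/-- the automorphism of `K` induced by `a ∈ A` -/
noncomputable def au (F : Full M) (e : M ≃* K) (a : A) : MulAut K :=
  haveI := F.normal
  tr e.symm (MulAut.conjNormal a)

theorem au_apply (F : Full M) (a : A) (m m' : M) (hm : (m' : A) = a * m * a⁻¹) :
    au F e a (e m) = e m' := by
  have := F.normal
  show e (MulAut.conjNormal a (e.symm (e m))) = e m'
  rw [e.symm_apply_apply]
  congr 1
  apply Subtype.ext
  rw [MulAut.conjNormal_apply, hm]

/-- an element of `C(t)` inducing the automorphism -/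
theorem ind_of_eq (F : Full M) {a : A} {y : G} (hy : ∀ x : K, ((au F e a x : K) : G) = y * x * y⁻¹) :
    Ind e a y := by
  intro m m' hm
  have h1 := hy (e m)
  rw [au_apply F a m m' hm] at h1
  rw [h1, inv_mul_cancel_right]

end Hom

section Setting

variable {A : Type*} [Group A] {M : Subgroup A} {SK : Subgroup K} {z : K} {T : Subgroup G}

/-- **the split case** -/
theorem exists_setting (F : Full M) (e : M ≃* K) (B : Base SK z) (P : Position K t SK z T) {b : G}
    (hbt : b * t = t * b) (hb : b ∉ zpowers t ⊔ K) (hbb : b * b = 1) :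
    ∃ φ : A →* G, Setting t φ ∧ ∀ m : M, φ m = e m := by
  have st := P.facts.toStart
  have hbN := st.nK b hbt
  have hbi : b⁻¹ = b := inv_eq_of_mul_eq_one_right hbb
  have htK := tK st
  -- `t ∉ K⟨b⟩`
  have htB : t ∉ KB K b hbN hbb := by
    rintro (h | h)
    · exact htK h
    · apply hb
      have h1 : b = t * (t * b) := by rw [← mul_assoc, st.tt, one_mul]
      rw [h1]
      exact mul_mem ((le_sup_left : zpowers t ≤ _) (mem_zpowers t)) ((le_sup_right : K ≤ _) h)
  have hcomm : ∀ x ∈ KB K b hbN hbb, x * t = t * x := by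
    rintro x (h | h)
    · exact st.Kt x h
    · have h1 := st.Kt _ h
      have c1 : Commute (x * b) t := h1
      have c2 : Commute b t := hbt
      have c3 := c1.mul_left c2.inv_left
      rw [mul_inv_cancel_right] at c3
      exact c3
  -- existence
  have hex : ∀ a : A, ∃ y ∈ KB K b hbN hbb, Ind e a y := by
    intro a
    by_cases hin : Inn (au F e a)
    · obtain ⟨k, hk⟩ := hin
      refine ⟨k, Or.inl k.2, ind_of_eq F fun x => ?_⟩
      rw [hk, MulAut.conj_apply]
      rfl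
    · have hβ : ¬ Inn (K.normalizerMonoidHom ⟨b, hbN⟩) := fun h => hb (mem_of_inn' st hbt h)
      obtain ⟨k, hk⟩ := B.out _ _ hin hβ
      rw [mul_inv_eq_iff_eq_mul] at hk
      refine ⟨k * b, Or.inr ?_, ind_of_eq F fun x => ?_⟩
      · rw [mul_assoc, hbb, mul_one]; exact k.2
      · rw [hk, MulAut.mul_apply, MulAut.conj_apply]
        push_cast
        rw [D8.GlueE.nmh_apply]
        group
  -- uniqueness
  have huniq : ∀ (a : A) (y y' : G), y ∈ KB K b hbN hbb → y' ∈ KB K b hbN hbb → Ind e a y → Ind e a y' →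
      y = y' := by
    intro a y y' hy hy' h h'
    have h1 := (Ind.inv h).mul F h'
    rw [inv_mul_cancel] at h1
    have h2 := Ind.cent h1
    have h3 : y⁻¹ * y' ∈ KB K b hbN hbb := mul_mem (inv_mem hy) hy'
    rcases P.Q2 _ (hcomm _ h3) h2 with h4 | h4
    · exact inv_mul_eq_one.1 h4
    · exact absurd (h4 ▸ h3) htB
  choose f hf1 hf2 using hex
  let φ : A →* G :=
    { toFun := f
      map_one' := by
        refine huniq 1 _ _ (hf1 1) (one_mem _) (hf2 1) ?_
        intro m m' hm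
        have : m' = m := Subtype.ext (by rw [hm]; group)
        rw [this, one_mul, mul_one]
      map_mul' := fun a a' => huniq _ _ _ (hf1 _) (mul_mem (hf1 _) (hf1 _)) (hf2 _) ((hf2 a).mul F (hf2 a')) }
  have hφ : ∀ a, φ a = f a := fun _ => rfl
  refine ⟨φ, ?_, ?_⟩
  · exact
      { tt := st.tt
        t1 := st.t1
        inj := by
          intro a a' haa
          have h1 : Ind e (a⁻¹ * a') (f a * (f a')⁻¹)⁻¹ → a = a' := by
            intro h1
            rw [show f a = f a' from haa, mul_inv_cancel, inv_one] at h1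
            have h2 : a⁻¹ * a' = 1 := by
              apply F.inj
              intro m hm
              have hN := F.normal
              have h3 := h1 ⟨m, hm⟩ ⟨(a⁻¹ * a') * m * (a⁻¹ * a')⁻¹, hN.conj_mem _ hm _⟩ rfl
              rw [one_mul, mul_one] at h3
              have h4 := e.injective (Subtype.ext h3)
              have h5 : m = a⁻¹ * a' * m * (a⁻¹ * a')⁻¹ := congrArg Subtype.val h4
              rw [eq_mul_inv_iff_mul_eq] at h5
              exact h5.symm
            exact inv_mul_eq_one.1 h2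
          apply h1
          rw [show f a = f a' from haa, mul_inv_cancel, inv_one]
          have h2 := (Ind.inv (hf2 a)).mul F (hf2 a')
          rwa [show f a = f a' from haa, inv_mul_cancel] at h2
        comm := fun a => hcomm _ (hf1 a)
        tK := fun a h => htB (h ▸ hf1 a)
        cent := by
          intro g hg
          have hgN := st.nK g hg
          obtain ⟨a, ha⟩ := F.surj (tr e (K.normalizerMonoidHom ⟨g, hgN⟩))
          refine ⟨a, ?_⟩
          have h1 : Ind e a g := by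
            intro m m' hm
            have h2 := ha m
            rw [← hm] at h2
            have h3 : tr e (K.normalizerMonoidHom ⟨g, hgN⟩) m = m' := Subtype.ext h2
            rw [tr_apply, MulEquiv.symm_apply_eq] at h3
            rw [← h3, D8.GlueE.nmh_apply, inv_mul_cancel_right]
          have h2 := (Ind.inv (hf2 a)).mul F h1
          rw [inv_mul_cancel] at h2
          have h3 := Ind.cent h2
          have h4 : (f a)⁻¹ * g * t = t * ((f a)⁻¹ * g) := by
            have c1 : Commute (f a) t := hcomm _ (hf1 a)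
            have c2 : Commute g t := hg
            exact c1.inv_left.mul_left c2
          rcases P.Q2 _ h4 h3 with h5 | h5
          · left
            exact (inv_mul_eq_one.1 h5).symm
          · right
            rw [inv_mul_eq_iff_eq_mul] at h5
            rw [h5]
            exact hcomm _ (hf1 a) }
  · intro m
    exact huniq m _ _ (hf1 m) (Or.inl (e m).2) (hf2 m) (Ind.of_mem m)

/-- `⟨t⟩ × φ(SA)` is a maximal 2-subgroup of `C(t)` -/
theorem dbl_max [Finite G] {φ : A →* G} (s : Setting t φ) {SA : Subgroup A}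
    (max : ∀ Q : Subgroup A, IsPGroup 2 Q → SA ≤ Q → Q = SA) {R : Subgroup G} (hR : IsPGroup 2 R)
    (hle : dbl s SA ≤ R) (hRt : ∀ x ∈ R, x * t = t * x) : R = dbl s SA := by
  apply le_antisymm _ hle
  have htR : t ∈ R := hle (t_mem s SA)
  have h1 : R.comap φ = SA := by
    apply max
    · exact hR.comap_of_injective φ s.inj
    · intro a ha
      exact hle ((phi_mem s).2 ha)
  intro x hx
  obtain ⟨a, ha | ha⟩ := s.cent x (hRt x hx)
  · refine ⟨a, ?_, Or.inl ha⟩
    rw [← h1, mem_comap, ← ha]; exact hx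
  · refine ⟨a, ?_, Or.inr ha⟩
    rw [← h1, mem_comap]
    have h2 : φ a = t * x := by rw [ha, ← mul_assoc, s.tt, one_mul]
    rw [h2]; exact R.mul_mem htR hx

/-- Sylow's theorem in `C(t)` -/
theorem exists_conj_mem [Finite G] (P : Position K t SK z T) {R : Subgroup G} (hR : IsPGroup 2 R)
    (hRt : ∀ x ∈ R, x * t = t * x) : ∃ c : G, c * t = t * c ∧ ∀ x ∈ R, c * x * c⁻¹ ∈ T := by
  obtain ⟨TS, hTS⟩ := P.facts.exists_sylow
  have h1 : IsPGroup 2 (R.subgroupOf (centralizer ({t} : Set G))) :=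
    hR.comap_of_injective _ (subtype_injective _)
  obtain ⟨Q, hQ⟩ := h1.exists_le_sylow
  obtain ⟨g, hg⟩ := MulAction.exists_smul_eq (centralizer ({t} : Set G)) Q TS
  refine ⟨g, mem_centralizer_singleton_iff.1 g.2, fun x hx => ?_⟩
  have hxC : x ∈ centralizer ({t} : Set G) := mem_centralizer_singleton_iff.2 (hRt x hx)
  have h2 : (⟨x, hxC⟩ : centralizer ({t} : Set G)) ∈ Q := hQ (mem_subgroupOf.2 hx)
  have h3 : g * (⟨x, hxC⟩ : centralizer ({t} : Set G)) * g⁻¹ ∈ (TS : Subgroup (centralizer ({t} : Set G))) := by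
    rw [← hg, Sylow.coe_subgroup_smul, mem_pointwise_smul_iff_inv_smul_mem]
    have h4 : (MulAut.conj g)⁻¹ • (g * (⟨x, hxC⟩ : centralizer ({t} : Set G)) * g⁻¹) = ⟨x, hxC⟩ := by
      rw [← map_inv, MulAut.smul_def, MulAut.conj_apply]
      group
    rw [h4]
    exact h2
  rw [hTS, mem_subgroupOf] at h3
  exact h3

/-- the swapping element for a maximal 2-subgroup `R` of `C(t)` -/
theorem swap_gen [Finite G] (P : Position K t SK z T) {R : Subgroup G} (hR : IsPGroup 2 R)
    (hRt : ∀ x ∈ R, x * t = t * x)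
    (hmax : ∀ Q : Subgroup G, IsPGroup 2 Q → R ≤ Q → (∀ x ∈ Q, x * t = t * x) → Q = R) {ζ : G}
    (hcen : ∀ y ∈ R, y ∈ K → (∀ x ∈ R, x * y = y * x) → y = 1 ∨ y = ζ) :
    ∃ x, Nrm x R ∧ x * t * x⁻¹ = t * ζ ∧ x * ζ * x⁻¹ = ζ ∧ ∀ g, g * t * g⁻¹ ≠ ζ := by
  obtain ⟨c, hct, hc⟩ := exists_conj_mem P hR hRt
  have hcit : c⁻¹ * t = t * c⁻¹ := Front.Cyclic.inv_comm hct
  -- `T^c = R`
  have hT1 : T.map (MulAut.conj c⁻¹).toMonoidHom = R := by
    apply hmax _ (P.facts.pT.map _)
    · intro x hx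
      refine ⟨c * x * c⁻¹, hc x hx, ?_⟩
      show c⁻¹ * (c * x * c⁻¹) * c⁻¹⁻¹ = x
      group
    · rintro _ ⟨x, hx, rfl⟩
      show c⁻¹ * x * c⁻¹⁻¹ * t = t * (c⁻¹ * x * c⁻¹⁻¹)
      have c1 : Commute c⁻¹ t := hcit
      have c2 : Commute x t := P.facts.tc x hx
      exact (c1.mul_left c2).mul_left c1.inv_left
  have hT : ∀ y, c⁻¹ * y * c ∈ R ↔ y ∈ T := by
    intro y
    rw [← hT1]
    constructor
    · rintro ⟨x, hx, hxy⟩
      have hxy' : c⁻¹ * x * c⁻¹⁻¹ = c⁻¹ * y * c := hxy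
      have : x = y := by
        calc x = c * (c⁻¹ * x * c⁻¹⁻¹) * c⁻¹ := by group
          _ = y := by rw [hxy']; group
      exact this ▸ hx
    · intro hy
      refine ⟨y, hy, ?_⟩
      show c⁻¹ * y * c⁻¹⁻¹ = c⁻¹ * y * c
      group
  -- the image of `z`
  have hz : c⁻¹ * (z : G) * c = ζ := by
    have h1 : c⁻¹ * (z : G) * c ∈ R := (hT _).2 P.facts.zT
    have h2 : c⁻¹ * (z : G) * c ∈ K := Front.Cyclic.conjK' P.facts.toStart0 hct z.2
    rcases hcen _ h1 h2 (by
      intro a ha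
      have h5 := P.facts.zc _ (hc a ha)
      calc a * (c⁻¹ * z * c) = c⁻¹ * ((c * a * c⁻¹) * z) * c := by group
        _ = c⁻¹ * z * c * a := by rw [h5]; group) with h4 | h4
    · exfalso
      apply P.facts.z1
      have : (z : G) = c * (c⁻¹ * z * c) * c⁻¹ := by group
      rw [this, h4]; group
    · exact h4
  obtain ⟨S, x, -, -, -, hxN, -, hxt, hxz⟩ := P.swap
  refine ⟨c⁻¹ * x * c, ?_, ?_, ?_, ?_⟩
  · intro y
    have e1 : c⁻¹ * x * c * y * (c⁻¹ * x * c)⁻¹ = c⁻¹ * (x * (c * y * c⁻¹) * x⁻¹) * c := by group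
    have e2 : y = c⁻¹ * (c * y * c⁻¹) * c := by group
    rw [e1, hT]
    conv_rhs => rw [e2, hT]
    exact (mem_normalizer_iff.1 hxN _).symm
  · have e1 : c * t * c⁻¹ = t := by rw [hct, mul_inv_cancel_right]
    calc c⁻¹ * x * c * t * (c⁻¹ * x * c)⁻¹ = c⁻¹ * (x * (c * t * c⁻¹) * x⁻¹) * c := by group
      _ = c⁻¹ * (t * z) * c := by rw [e1, hxt]
      _ = (c⁻¹ * t) * z * c := by group
      _ = t * (c⁻¹ * z * c) := by rw [hcit]; group
      _ = t * ζ := by rw [hz]
  · rw [← hz]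
    calc c⁻¹ * x * c * (c⁻¹ * z * c) * (c⁻¹ * x * c)⁻¹ = c⁻¹ * (x * z * x⁻¹) * c := by group
      _ = c⁻¹ * z * c := by rw [hxz]
  · intro g hg
    apply P.nc (c * g)
    calc c * g * t * (c * g)⁻¹ = c * (g * t * g⁻¹) * c⁻¹ := by group
      _ = z := by rw [hg, ← hz]; group

/-- **the swapping element** for `⟨t⟩ × φ(SA)` -/
theorem exists_swap [Finite G] {KA SA V W Q : Subgroup A} {zA : A} {φ : A →* G}
    (h : Sheet KA SA V W Q zA) (s : Setting t φ) (hK : KA.map φ = K) (P : Position K t SK z T) :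
    ∃ x, Swap SA zA s x := by
  have : Finite A := Finite.of_injective φ s.inj
  obtain ⟨x, h1, h2, h3, h4⟩ := swap_gen P (pgroup_dbl s h.two) (fun x hx => comm_t s hx)
    (fun Q hQ hle hQt => dbl_max s h.max hQ hle hQt) (ζ := φ zA) (by
      intro y hy hyK hyc
      obtain ⟨a, ha, rfl⟩ := (le_of_eq hK.symm) hyK
      rw [SetLike.mem_coe] at ha
      have haS : a ∈ SA := (phi_mem s).1 hy
      rcases h.cen a haS (fun b hb => s.inj (by
        rw [map_mul, map_mul]
        exact hyc _ ((phi_mem s).2 hb))) with h5 | h5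
      · left; rw [h5, map_one]
      · right; rw [h5])
  exact ⟨x, h1, h2, h3, h4⟩

end Setting

theorem conj_injective {X : Type*} [Group X] (hX : center X = ⊥) :
    Function.Injective (MulAut.conj : X →* MulAut X) := by
  rw [← MonoidHom.ker_eq_bot_iff, eq_bot_iff]
  intro x hx
  rw [← hX, mem_center_iff]
  intro y
  have h1 : (MulAut.conj x : MulAut X) y = y := by rw [MonoidHom.mem_ker.1 hx]; rfl
  rw [MulAut.conj_apply, mul_inv_eq_iff_eq_mul] at h1
  exact h1.symm

/-- `Full` for the automorphism group of a group with trivial centre -/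
theorem full_mulAut {X : Type*} [Group X] (hX : center X = ⊥) : Full (MulAut.conj : X →* MulAut X).range where
  normal := Front.OfSheet.inn_normal X
  inj := by
    intro α hα
    have hinj : Function.Injective (MulAut.conj : X →* MulAut X) := conj_injective hX
    ext x
    have h1 := hα (MulAut.conj x) ⟨x, rfl⟩
    have h2 : MulAut.conj (α x) = MulAut.conj x := by
      rw [← mul_inv_eq_iff_eq_mul] at h1
      rw [← h1]
      ext y
      simp [MulAut.conj_apply, MulAut.mul_apply, MulAut.inv_def]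
    rw [hinj h2]
    rfl
  surj := by
    intro β
    have hinj : Function.Injective (MulAut.conj : X →* MulAut X) := conj_injective hX
    let e : X ≃* (MulAut.conj : X →* MulAut X).range := MonoidHom.ofInjective hinj
    refine ⟨(e.trans β).trans e.symm, ?_⟩
    rintro ⟨_, x, rfl⟩
    have h1 : (⟨MulAut.conj x, x, rfl⟩ : (MulAut.conj : X →* MulAut X).range) = e x := rfl
    rw [h1]
    have h2 : ((e.trans β).trans e.symm) x = e.symm (β (e x)) := rfl
    have h3 : β (e x) = e (((e.trans β).trans e.symm) x) := by rw [h2, e.apply_symm_apply]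
    rw [h3]
    show MulAut.conj (((e.trans β).trans e.symm) x) = _
    ext y
    have h4 : ((e x : (MulAut.conj : X →* MulAut X).range) : MulAut X) = MulAut.conj x := rfl
    simp [h4, MulAut.conj_apply, MulAut.mul_apply, MulAut.inv_def]

end Cfsg.Agent.OddHalf.MMOut.GlueOut

end

-- merged: Cfsg.Agent.OddHalf.MMOut.ZFour
section

/-!
# ODD half, D8, `K = M22`, outer case of type `Z4` (helper409)

`C_G(t) = ⟨b⟩ φ(K)` with `b² = t`, `b` acts on `K` as `α`, `α = 1` on `W`. `x` normalises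
`T = ⟨b⟩ φ(SK)` and `t^x = t φ(z)`. The involutions of `T` which are conjugate to `φ(z)` are those of
`φ(SK)`, so `x` normalises `φ(SK)`; `b^x` centralises `φ(W)^x ∈ {φ(V), φ(W)}`: no.
-/

set_option autoImplicit false

namespace Cfsg.Agent.OddHalf.MMOut

open Cfsg.Agent.OddHalf.MM
open FI (cj mem_cj card_cj)

/-- **type `Z4`** -/
theorem zfour {K : Type*} [Group K] {SK V W : Subgroup K} {z c : K} (h : MM.Sheet SK V W z c)
    {G : Type*} [Group G] {t b x : G} {φ : K →* G} (inj : Function.Injective φ)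
    (comm : ∀ k, φ k * t = t * φ k) (tK : ∀ k, φ k ≠ t) (bb : b * b = t) (tt : t * t = 1)
    (α : K → K) (bα : ∀ k, b * φ k * b⁻¹ = φ (α k)) (αW : ∀ w ∈ W, α w = w)
    (αV : ∀ k : K, ¬ ∀ v ∈ V, α (k * v * k⁻¹) = v)
    (T : Subgroup G) (hT : ∀ g ∈ T, ∃ s ∈ SK, g = φ s ∨ g = t * φ s ∨ g = b * φ s ∨
      g = t * (b * φ s))
    (ST : ∀ s ∈ SK, φ s ∈ T) (bT : b ∈ T) (xT : ∀ g ∈ T, x * g * x⁻¹ ∈ T)
    (hxt : x * t * x⁻¹ = t * φ z) (nz : ∀ g : G, g * t * g⁻¹ ≠ φ z) : False := by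
  have bt : b * t = t * b := by rw [← bb, mul_assoc]
  have ti : t⁻¹ = t := inv_eq_of_mul_eq_one_right tt
  have bφ : ∀ k, b * φ k = φ (α k) * b := fun k => by rw [← bα k]; group
  -- squares
  have sqb : ∀ s, b * φ s * (b * φ s) = t * φ (α s * s) := by
    intro s
    calc b * φ s * (b * φ s) = φ (α s) * b * (b * φ s) := by rw [bφ]
      _ = φ (α s) * (b * b) * φ s := by group
      _ = φ (α s) * t * φ s := by rw [bb]
      _ = t * φ (α s * s) := by rw [comm, map_mul]; group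
  have sqtb : ∀ s, t * (b * φ s) * (t * (b * φ s)) = t * φ (α s * s) := by
    intro s
    have e : b * φ s * t = t * (b * φ s) := by
      calc b * φ s * t = b * (φ s * t) := by group
        _ = (b * t) * φ s := by rw [comm]; group
        _ = t * (b * φ s) := by rw [bt]; group
    calc t * (b * φ s) * (t * (b * φ s)) = t * (b * φ s * t) * (b * φ s) := by group
      _ = (t * t) * (b * φ s * (b * φ s)) := by rw [e]; group
      _ = t * φ (α s * s) := by rw [tt, one_mul, sqb]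
  have sqt : ∀ s, t * φ s * (t * φ s) = φ (s * s) := by
    intro s
    calc t * φ s * (t * φ s) = t * (φ s * t) * φ s := by group
      _ = (t * t) * (φ s * φ s) := by rw [comm]; group
      _ = φ (s * s) := by rw [tt, one_mul, map_mul]
  have ntφ : ∀ k, t * φ k ≠ 1 := by
    intro k e
    apply tK k⁻¹
    rw [map_inv]
    exact (eq_inv_of_mul_eq_one_left e).symm
  -- step 1
  have st1 : ∀ s ∈ SK, s * s = 1 → ∃ s' ∈ SK, x * φ s * x⁻¹ = φ s' := by
    intro s hs ss
    by_cases s1 : s = 1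
    · exact ⟨1, SK.one_mem, by rw [s1, map_one]; group⟩
    obtain ⟨g, hg⟩ := h.inv s ss s1
    have yy : x * φ s * x⁻¹ * (x * φ s * x⁻¹) = 1 := by
      calc x * φ s * x⁻¹ * (x * φ s * x⁻¹) = x * (φ s * φ s) * x⁻¹ := by group
        _ = 1 := by rw [← map_mul, ss, map_one]; group
    -- `x φ(s) x⁻¹` is not a conjugate of `t`
    have hn : ∀ u : G, u * t * u⁻¹ ≠ x * φ s * x⁻¹ := by
      intro u hu
      apply nz ((φ g)⁻¹ * x⁻¹ * u)
      calc (φ g)⁻¹ * x⁻¹ * u * t * ((φ g)⁻¹ * x⁻¹ * u)⁻¹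
          = (φ g)⁻¹ * x⁻¹ * (u * t * u⁻¹) * x * φ g := by group
        _ = (φ g)⁻¹ * φ s * φ g := by rw [hu]; group
        _ = φ z := by rw [hg, map_mul, map_mul, map_inv]; group
    obtain ⟨s', hs', e | e | e | e⟩ := hT _ (xT _ (ST s hs))
    · exact ⟨s', hs', e⟩
    · exfalso
      by_cases s1' : s' = 1
      · exact hn 1 (by rw [e, s1', map_one]; group)
      · have ss' : s' * s' = 1 := by
          apply inj
          rw [map_one, ← sqt, ← e, yy]
        obtain ⟨g', hg'⟩ := h.inv s' ss' s1'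
        apply hn (φ g' * x)
        rw [e, hg']
        calc φ g' * x * t * (φ g' * x)⁻¹ = φ g' * (x * t * x⁻¹) * (φ g')⁻¹ := by group
          _ = (φ g' * t) * φ z * (φ g')⁻¹ := by rw [hxt]; group
          _ = t * φ (g' * z * g'⁻¹) := by rw [comm, map_mul, map_mul, map_inv]; group
    · exfalso
      rw [e, sqb] at yy
      exact ntφ _ yy
    · exfalso
      rw [e, sqtb] at yy
      exact ntφ _ yy
  -- step 2
  have mul2 : ∀ a a' : K, (∃ s' ∈ SK, x * φ a * x⁻¹ = φ s') → (∃ s' ∈ SK, x * φ a' * x⁻¹ = φ s') →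
      ∃ s' ∈ SK, x * φ (a * a') * x⁻¹ = φ s' := by
    rintro a a' ⟨s, hs, e⟩ ⟨s', hs', e'⟩
    refine ⟨s * s', SK.mul_mem hs hs', ?_⟩
    calc x * φ (a * a') * x⁻¹ = (x * φ a * x⁻¹) * (x * φ a' * x⁻¹) := by rw [map_mul]; group
      _ = φ (s * s') := by rw [e, e', map_mul]
  have st2 : ∀ s ∈ SK, ∃ s' ∈ SK, x * φ s * x⁻¹ = φ s' := by
    intro s hs
    obtain ⟨v, hv, w, hw, e | e⟩ := h.gen s hs
    · rw [e]
      exact mul2 _ _ (st1 v (h.VS hv) (h.elV v hv)) (st1 w (h.WS hw) (h.elW w hw))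
    · rw [e]
      exact mul2 _ _ (mul2 _ _ (st1 v (h.VS hv) (h.elV v hv)) (st1 w (h.WS hw) (h.elW w hw)))
        (st1 c h.cS h.cc)
  -- step 3
  let E : Subgroup K := (cj x (W.map φ)).comap φ
  have hE : ∀ k, k ∈ E ↔ x⁻¹ * φ k * x ∈ W.map φ := fun k => by
    show φ k ∈ cj x (W.map φ) ↔ _
    rw [mem_cj]
  have hEW : ∀ w ∈ W, ∃ e ∈ E, x * φ w * x⁻¹ = φ e := by
    intro w hw
    obtain ⟨s', -, e⟩ := st2 w (h.WS hw)
    refine ⟨s', ?_, e⟩
    rw [hE, ← e]
    exact ⟨w, hw, by group⟩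
  have hEmap : E.map φ = cj x (W.map φ) := by
    ext y
    constructor
    · rintro ⟨e, he, rfl⟩
      exact he
    · intro hy
      rw [mem_cj] at hy
      obtain ⟨w, hw, hwy⟩ := hy
      obtain ⟨e, he, hxe⟩ := hEW w hw
      refine ⟨e, he, ?_⟩
      rw [← hxe, hwy]; group
  have cE : Nat.card E = 16 := by
    have h1 : Nat.card (E.map φ) = Nat.card E :=
      (Nat.card_congr (E.equivMapOfInjective φ inj).toEquiv).symm
    have h2 : Nat.card (W.map φ) = Nat.card W :=
      (Nat.card_congr (W.equivMapOfInjective φ inj).toEquiv).symm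
    rw [← h1, hEmap, card_cj, h2, h.cardW]
  have eE : El E := by
    intro e he
    rw [hE] at he
    obtain ⟨w, hw, hwe⟩ := he
    apply inj
    have h1 : φ e = x * φ w * x⁻¹ := by rw [hwe]; group
    rw [map_mul, h1, map_one]
    calc x * φ w * x⁻¹ * (x * φ w * x⁻¹) = x * (φ w * φ w) * x⁻¹ := by group
      _ = 1 := by rw [← map_mul, h.elW w hw, map_one]; group
  have ES : E ≤ SK := by
    intro e he
    rw [hE] at he
    obtain ⟨w, hw, hwe⟩ := he
    obtain ⟨s', hs', e'⟩ := st2 w (h.WS hw)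
    have h1 : φ e = φ s' := by rw [← e', hwe]; group
    rw [inj h1]; exact hs'
  -- step 4
  have b2 : x * b * x⁻¹ * (x * b * x⁻¹) = t * φ z := by
    calc x * b * x⁻¹ * (x * b * x⁻¹) = x * (b * b) * x⁻¹ := by group
      _ = t * φ z := by rw [bb, hxt]
  have bW : ∀ w ∈ W, b * φ w = φ w * b := fun w hw => by rw [bφ, αW w hw]
  have hcE : ∀ e ∈ E, x * b * x⁻¹ * φ e = φ e * (x * b * x⁻¹) := by
    intro e he
    rw [hE] at he
    obtain ⟨w, hw, hwe⟩ := he
    have h1 : φ e = x * φ w * x⁻¹ := by rw [hwe]; group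
    rw [h1]
    calc x * b * x⁻¹ * (x * φ w * x⁻¹) = x * (b * φ w) * x⁻¹ := by group
      _ = x * φ w * x⁻¹ * (x * b * x⁻¹) := by rw [bW w hw]; group
  have eV : ∀ s, Cen s V → s * s = 1 := fun s hs => h.elV s (h.CV s hs)
  have eW : ∀ s, Cen s W → s * s = 1 := fun s hs => h.elW s (h.CW s hs)
  have hEc := h.el16 E ES eE (le_of_eq cE.symm)
  have sqE : ∀ s, Cen s E → s * s = 1 := by
    intro s hs
    rcases hEc with h1 | h1
    · rw [h1] at hs; exact eV s hs
    · rw [h1] at hs; exact eW s hs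
  -- the outer elements
  have outer : ∀ s, (∀ e ∈ E, b * φ s * φ e = φ e * (b * φ s)) → t * φ (α s * s) ≠ t * φ z := by
    intro s hs e0
    rcases hEc with h1 | h1
    · rw [h1] at hs
      apply αV s
      intro v hv
      apply inj
      have h2 := hs v hv
      calc φ (α (s * v * s⁻¹)) = b * φ (s * v * s⁻¹) * b⁻¹ := (bα _).symm
        _ = (b * φ s * φ v) * (b * φ s)⁻¹ := by rw [map_mul, map_mul, map_inv]; group
        _ = φ v := by rw [h2]; group
    · rw [h1] at hs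
      have h2 : Cen s W := by
        intro w hw
        apply inj
        rw [map_mul, map_mul]
        have h3 := hs w hw
        have h4 : b * (φ s * φ w) = b * (φ w * φ s) := by
          calc b * (φ s * φ w) = b * φ s * φ w := by group
            _ = (φ w * b) * φ s := by rw [h3]; group
            _ = b * (φ w * φ s) := by rw [← bW w hw]; group
        exact mul_left_cancel h4
      have h3 := h.CW s h2
      rw [αW s h3, h.elW s h3] at e0
      exact h.z1 (inj (mul_left_cancel e0)).symm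
  obtain ⟨s, hs, e | e | e | e⟩ := hT _ (xT _ bT)
  · have h1 : Cen s E := by
      intro y hy
      apply inj
      rw [map_mul, map_mul, ← e]; exact hcE y hy
    rw [e, ← map_mul, sqE s h1, map_one] at b2
    exact ntφ _ b2.symm
  · have h1 : Cen s E := by
      intro y hy
      apply inj
      rw [map_mul, map_mul]
      have h2 := hcE y hy
      rw [e] at h2
      have h3 : t * (φ s * φ y) = t * (φ y * φ s) := by
        calc t * (φ s * φ y) = t * φ s * φ y := by group
          _ = (φ y * t) * φ s := by rw [h2]; group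
          _ = t * (φ y * φ s) := by rw [comm]; group
      exact mul_left_cancel h3
    rw [e, sqt, sqE s h1, map_one] at b2
    exact ntφ _ b2.symm
  · refine outer s (fun y hy => ?_) ?_
    · rw [← e]; exact hcE y hy
    · rw [← sqb, ← e]; exact b2
  · refine outer s (fun y hy => ?_) ?_
    · have h2 := hcE y hy
      rw [e] at h2
      have h3 : t * (b * φ s * φ y) = t * (φ y * (b * φ s)) := by
        calc t * (b * φ s * φ y) = t * (b * φ s) * φ y := by group
          _ = (φ y * t) * (b * φ s) := by rw [h2]; group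
          _ = t * (φ y * (b * φ s)) := by rw [comm]; group
      exact mul_left_cancel h3
    · rw [← sqtb, ← e]; exact b2

end Cfsg.Agent.OddHalf.MMOut

end

-- merged: Cfsg.Agent.KFacts.MM.GlueK
section

/-!
# K-facts for the glue of `M22`, `M23` (helper316)

* `out` : two outer automorphisms of `M22` differ by an inner one;
* `inner_of_fix` : an automorphism of `M22` fixing `V` elementwise is the conjugation by an element of `V`;
* `syl` : an outer automorphism of `M22` moves some element of the Sylow 2-subgroup `S`;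
* `z_second22`, `z_second23` : `z` lies in the second derived subgroup of its centraliser in `M22`, `M23`.
-/

set_option autoImplicit false

namespace Cfsg.Agent.KFacts.MM.GlueK

open Cfsg Cfsg.Agent.KFacts.MM.El Cfsg.Agent.KFacts.MM.Data Cfsg.Agent.KFacts.MM.Sub
open Cfsg.Agent.KFacts.MM.Int Cfsg.Agent.KFacts.MM.El16 Cfsg.Agent.KFacts.MM.Cent
open Cfsg.Agent.SporadicA.GolayBase Cfsg.Agent.SporadicA.GolayPerm Cfsg.Agent.SporadicA.M24Frames
open Cfsg.Agent.OddHalf.MM (Nrm Cen El)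
open Cfsg.Agent.J4Type.Aut22 (D22 mem_D22_iff M22_le_D22 mem_M22_iff_D22 exists_conj)

/-- the conjugation by an element of `M22` -/
theorem eq_conj {α : MulAut Spor.M22} {k : Spor.M22}
    (h : ∀ m : Spor.M22, (α m : Equiv.Perm GolayPt) = k * m * (k : Equiv.Perm GolayPt)⁻¹) :
    α = MulAut.conj k := by
  apply MulEquiv.ext
  intro m
  apply Subtype.ext
  rw [h, MulAut.conj_apply]
  rfl

/-- `Out(M22)` is of order at most 2 -/
theorem out (α β : MulAut Spor.M22) (hα : ∀ k : Spor.M22, α ≠ MulAut.conj k)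
    (hβ : ∀ k : Spor.M22, β ≠ MulAut.conj k) : ∃ k : Spor.M22, α * β⁻¹ = MulAut.conj k := by
  obtain ⟨g, hg, h1⟩ := exists_conj α
  obtain ⟨h, hh, h2⟩ := exists_conj β
  have key : ∀ (γ : MulAut Spor.M22) (x : Equiv.Perm GolayPt), x ∈ D22 →
      (∀ m : Spor.M22, (γ m : Equiv.Perm GolayPt) = x * m * x⁻¹) →
      (∀ k : Spor.M22, γ ≠ MulAut.conj k) → x none = some 0 ∧ x (some 0) = none := by
    intro γ x hx hγ hn
    rcases ((mem_D22_iff x).1 hx).2 with h3 | h3
    · exact absurd (eq_conj (k := ⟨x, (mem_M22_iff_D22 x).2 ⟨hx, h3.1⟩⟩) hγ) (hn _)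
    · exact h3
  have g1 := key α g hg h1 hα
  have g2 := key β h hh h2 hβ
  have hgh : g * h⁻¹ ∈ Spor.M22 := by
    rw [mem_M22_iff_D22]
    refine ⟨D22.mul_mem hg (D22.inv_mem hh), ?_⟩
    rw [Equiv.Perm.mul_apply]
    have h4 : h⁻¹ none = some 0 := by
      rw [Equiv.Perm.inv_eq_iff_eq]
      exact g2.2.symm
    rw [h4, g1.2]
  refine ⟨⟨g * h⁻¹, hgh⟩, eq_conj fun m => ?_⟩
  have h5 : (m : Equiv.Perm GolayPt) = h * (β⁻¹ m : Spor.M22) * h⁻¹ := by
    rw [← h2]
    congr 1
    exact (β.apply_symm_apply m).symm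
  rw [MulAut.mul_apply, h1]
  have h6 : ((β⁻¹ m : Spor.M22) : Equiv.Perm GolayPt) = h⁻¹ * m * h := by
    rw [h5]
    group
  rw [h6]
  show g * (h⁻¹ * m * h) * g⁻¹ = g * h⁻¹ * m * (g * h⁻¹)⁻¹
  group

/-- an automorphism fixing `V` elementwise is the conjugation by an element of `V` -/
theorem inner_of_fix (α : MulAut Spor.M22)
    (h : ∀ s : Spor.M22, (s : Equiv.Perm GolayPt) ∈ V → α s = s) :
    ∃ k : Spor.M22, (k : Equiv.Perm GolayPt) ∈ V ∧ α = MulAut.conj k := by
  obtain ⟨g, hg, h1⟩ := exists_conj α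
  have hc : Cen g V := by
    intro x hx
    have h2 := h1 ⟨x, V_le22 hx⟩
    rw [h ⟨x, V_le22 hx⟩ hx] at h2
    have h3 : x = g * x * g⁻¹ := h2
    exact (eq_mul_inv_iff_mul_eq.1 h3).symm
  have hV := CV ((mem_D22_iff g).1 hg).1 hc
  exact ⟨⟨g, V_le22 hV⟩, hV, eq_conj h1⟩

/-- an outer automorphism moves an element of the Sylow 2-subgroup -/
theorem syl (α : MulAut Spor.M22) (hα : ∀ k : Spor.M22, α ≠ MulAut.conj k) :
    ∃ s : Spor.M22, (s : Equiv.Perm GolayPt) ∈ S ∧ α s ≠ s := by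
  by_contra hcon
  push Not at hcon
  obtain ⟨k, -, hk⟩ := inner_of_fix α fun s hs => hcon s (V_le hs)
  exact hα k hk

/-- an automorphism fixing the Sylow 2-subgroup elementwise is the conjugation by an element of the
centre of the Sylow 2-subgroup -/
theorem conj_of_fix (α : MulAut Spor.M22)
    (h : ∀ s : Spor.M22, (s : Equiv.Perm GolayPt) ∈ S → α s = s) :
    ∃ k : Spor.M22, α = MulAut.conj k ∧ ((k : Equiv.Perm GolayPt) = 1 ∨ (k : Equiv.Perm GolayPt) = z) := by
  obtain ⟨k, hkV, hk⟩ := inner_of_fix α fun s hs => h s (V_le hs)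
  refine ⟨k, hk, cen _ (V_le hkV) fun s hs => ?_⟩
  have h1 := h ⟨s, S_le22 hs⟩ hs
  rw [hk, MulAut.conj_apply] at h1
  have h2 : (k : Equiv.Perm GolayPt) * s * (k : Equiv.Perm GolayPt)⁻¹ = s := congrArg Subtype.val h1
  rw [mul_inv_eq_iff_eq_mul] at h2
  exact h2.symm

/-! ### The second derived subgroup of the centraliser of `z` -/

/-- `z = [[a, b], [a, d]]`, `a`, `b`, `d` in `C(z)`; the inverses -/
def aP : ℕ := 980353053615928949671394918088095840
def aQ : ℕ := 963346899445373020599264805269837344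
def bP : ℕ := 967561403164393526473300751239124512
def bQ : ℕ := 970400811686981614125994007180392544
def eP : ℕ := 961360439503047023498727979389224000

/-- `M22` in `C(z)` -/
def okC (P : ℕ) : Bool := ok22 P && weq [P, zP] [zP, P]

theorem of_okC {P : ℕ} (h : okC P = true) : isPerm P = true ∧ pm P ∈ Spor.M22 ∧ pm P * z = z * pm P := by
  unfold okC at h
  rw [Bool.and_eq_true] at h
  obtain ⟨h1, h2⟩ := mem_of_ok22 h.1
  refine ⟨h1, h2, ?_⟩
  have h3 := pr_of_weq (okl2 h1 permz) (okl2 permz h1) h.2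
  rwa [pr_two, pr_two] at h3

theorem okC_a : okC aP = true := by decide +kernel
theorem okC_b : okC bP = true := by decide +kernel
theorem okC_e : okC eP = true := by decide +kernel

theorem inv_a : (pm aP)⁻¹ = pm aQ := by
  have h := pr_of_weq (l := [aQ, aP]) (m := []) (by decide +kernel) rfl (by decide +kernel)
  rw [pr_two, pr_nil] at h
  exact inv_eq_of_mul_eq_one_left h

theorem inv_b : (pm bP)⁻¹ = pm bQ := by
  have h := pr_of_weq (l := [bQ, bP]) (m := []) (by decide +kernel) rfl (by decide +kernel)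
  rw [pr_two, pr_nil] at h
  exact inv_eq_of_mul_eq_one_left h

theorem inv_a' : (pm aQ)⁻¹ = pm aP := by rw [← inv_a, inv_inv]

theorem inv_b' : (pm bQ)⁻¹ = pm bP := by rw [← inv_b, inv_inv]

theorem inv_e : (pm eP)⁻¹ = pm eP := by
  have h := pr_of_weq (l := [eP, eP]) (m := []) (by decide +kernel) rfl (by decide +kernel)
  rw [pr_two, pr_nil] at h
  exact inv_eq_of_mul_eq_one_left h

open scoped commutatorElement in
theorem z_eq : ⁅⁅pm aP, pm bP⁆, ⁅pm aP, pm eP⁆⁆ = z := by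
  have h := pr_of_weq (l := [aP, bP, aQ, bQ, aP, eP, aQ, eP, bP, aP, bQ, aQ, eP, aP, eP, aQ]) (m := [zP])
    (by decide +kernel) (by decide +kernel) (by decide +kernel)
  rw [pr_one] at h
  show _ = pm zP
  rw [← h]
  simp only [pr_cons, pr_nil, commutatorElement_def, mul_inv_rev, inv_a, inv_b, inv_a', inv_b', inv_e,
    mul_one, mul_assoc]

open scoped commutatorElement in
/-- general form -/
theorem z_second {H : Subgroup (Equiv.Perm GolayPt)} (hH : Spor.M22 ≤ H) (zH : z ∈ H) :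
    (⟨z, zH⟩ : H) ∈ ⁅⁅Subgroup.centralizer ({(⟨z, zH⟩ : H)} : Set H),
      Subgroup.centralizer ({(⟨z, zH⟩ : H)} : Set H)⁆,
      ⁅Subgroup.centralizer ({(⟨z, zH⟩ : H)} : Set H),
      Subgroup.centralizer ({(⟨z, zH⟩ : H)} : Set H)⁆⁆ := by
  have hm : ∀ {P : ℕ} (h : okC P = true), (⟨pm P, hH (of_okC h).2.1⟩ : H) ∈
      Subgroup.centralizer ({(⟨z, zH⟩ : H)} : Set H) := by
    intro P h
    rw [Subgroup.mem_centralizer_singleton_iff]
    exact Subtype.ext (of_okC h).2.2
  have e : (⟨z, zH⟩ : H) = ⁅⁅(⟨pm aP, hH (of_okC okC_a).2.1⟩ : H), (⟨pm bP, hH (of_okC okC_b).2.1⟩ : H)⁆,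
      ⁅(⟨pm aP, hH (of_okC okC_a).2.1⟩ : H), (⟨pm eP, hH (of_okC okC_e).2.1⟩ : H)⁆⁆ := by
    apply Subtype.ext
    exact z_eq.symm
  have h1 := Subgroup.commutator_mem_commutator
    (Subgroup.commutator_mem_commutator (hm okC_a) (hm okC_b))
    (Subgroup.commutator_mem_commutator (hm okC_a) (hm okC_e))
  rw [← e] at h1
  exact h1

theorem z22 : z ∈ Spor.M22 := V_le22 zV

theorem z23 : z ∈ Spor.M23 := M22_le23 z22

theorem z_second22 : (⟨z, z22⟩ : Spor.M22) ∈ ⁅⁅Subgroup.centralizer ({(⟨z, z22⟩ : Spor.M22)} : Set Spor.M22),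
      Subgroup.centralizer ({(⟨z, z22⟩ : Spor.M22)} : Set Spor.M22)⁆,
      ⁅Subgroup.centralizer ({(⟨z, z22⟩ : Spor.M22)} : Set Spor.M22),
      Subgroup.centralizer ({(⟨z, z22⟩ : Spor.M22)} : Set Spor.M22)⁆⁆ :=
  z_second le_rfl z22

theorem z_second23 : (⟨z, z23⟩ : Spor.M23) ∈ ⁅⁅Subgroup.centralizer ({(⟨z, z23⟩ : Spor.M23)} : Set Spor.M23),
      Subgroup.centralizer ({(⟨z, z23⟩ : Spor.M23)} : Set Spor.M23)⁆,
      ⁅Subgroup.centralizer ({(⟨z, z23⟩ : Spor.M23)} : Set Spor.M23),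
      Subgroup.centralizer ({(⟨z, z23⟩ : Spor.M23)} : Set Spor.M23)⁆⁆ :=
  z_second (fun _ h => M22_le23 h) z23

end Cfsg.Agent.KFacts.MM.GlueK

end

-- merged: Cfsg.Agent.OddHalf.MM.Rows
section

/-!
# ODD half, D8: the rows `M22` (clean case) and `M23` (helper253)

`base22`, `base23`: the K-facts of the front end. `m23`: the row `M23`. `clean22`: the case `C(t) = ⟨t⟩ K` of the row
`M22`.
-/

set_option autoImplicit false

namespace Cfsg.Agent.OddHalf.MM.Rows

open Subgroup Cfsg Cfsg.Agent.OddHalf.Front.FE Cfsg.Agent.OddHalf.MM.Glue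

universe u

/-- **the sheet of `M22`** with explicit data -/
theorem sheet22 : Sheet (KFacts.MM.Sub.S.subgroupOf Spor.M22) (KFacts.MM.Sub.V.subgroupOf Spor.M22)
    (KFacts.MM.Sub.W.subgroupOf Spor.M22) (⟨KFacts.MM.Sub.z, KFacts.MM.GlueK.z22⟩ : Spor.M22)
    ⟨KFacts.MM.Sub.c, KFacts.MM.Cent.c_mem22⟩ :=
  KFacts.MM.Main.sheet_of (K := Spor.M22) le_rfl SporadicA.MathieuRecog.M22_le (m := 3465) (by decide)
    (by rw [SporadicA.MathieuRecog.card_M22]; norm_num) KFacts.MM.InvM22.inv22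

theorem sheet23 : Sheet (KFacts.MM.Sub.S.subgroupOf Spor.M23) (KFacts.MM.Sub.V.subgroupOf Spor.M23)
    (KFacts.MM.Sub.W.subgroupOf Spor.M23) (⟨KFacts.MM.Sub.z, KFacts.MM.GlueK.z23⟩ : Spor.M23)
    ⟨KFacts.MM.Sub.c, SporadicA.MathieuRecog.M22_le KFacts.MM.Cent.c_mem22⟩ :=
  KFacts.MM.Main.sheet_of (K := Spor.M23) SporadicA.MathieuRecog.M22_le le_rfl (m := 79695) (by decide)
    (by rw [SporadicA.MathieuRecog.card_M23]; norm_num) KFacts.MM.InvM22.inv23

/-- `z` is not central, from a sheet -/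
theorem nz_of {K : Type*} [Group K] {SK V W : Subgroup K} {z c : K} (h : Sheet SK V W z c) :
    ∃ d : K, d * z ≠ z * d := by
  obtain ⟨d, -, -, hd⟩ := h.del
  refine ⟨d, fun h1 => hd ?_⟩
  rw [h1, mul_inv_cancel_right]

theorem base22 : Base (KFacts.MM.Sub.S.subgroupOf Spor.M22)
    (⟨KFacts.MM.Sub.z, KFacts.MM.GlueK.z22⟩ : Spor.M22) where
  two := sheet22.two
  max := sheet22.max
  z1 := sheet22.z1
  zS := sheet22.VS sheet22.zV
  zc := fun s hs => Subtype.ext (KFacts.MM.Int.z_central s hs)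
  cen := sheet22.cen
  zD := KFacts.MM.GlueK.z_second22
  nz := nz_of sheet22
  out := by
    intro α β hα hβ
    exact KFacts.MM.GlueK.out α β (fun k h => hα ⟨k, h⟩) (fun k h => hβ ⟨k, h⟩)
  syl := by
    intro α _ hfix
    by_contra hα
    obtain ⟨s, hs, hne⟩ := KFacts.MM.GlueK.syl α (fun k h => hα ⟨k, h⟩)
    exact hne (hfix s hs)

theorem base23 : Base (KFacts.MM.Sub.S.subgroupOf Spor.M23)
    (⟨KFacts.MM.Sub.z, KFacts.MM.GlueK.z23⟩ : Spor.M23) :=
  Base.of_inn (fun α => KFacts.M23.OutOne.exists_conj α) sheet23.two sheet23.max sheet23.z1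
    (sheet23.VS sheet23.zV) (fun s hs => Subtype.ext (KFacts.MM.Int.z_central s hs)) sheet23.cen KFacts.MM.GlueK.z_second23 (nz_of sheet23)

/-- the clean case of the rows -/
theorem clean {M : Type*} [Group M] {SK V W : Subgroup M} {z c : M} (h : Sheet SK V W z c)
    {G : Type u} [Group G] (hG : Iface.Ctx G) {K : Subgroup G} {t : G} {T : Subgroup G} (e : M ≃* K)
    (P : Position K t (SK.map e.toMonoidHom) (e z) T) (hin : ∀ g : G, g * t = t * g → g ∈ zpowers t ⊔ K) :
    False := by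
  have := hG.fin
  exact kill (index_ne_two hG) h (setting P hin e)

/-- **the row `M23`** -/
theorem m23 : D8.Rows.Row.{u} (fun K _ => Spor.IsoM23 K) := by
  intro G _ hG K hK hC hiso
  obtain ⟨e⟩ := hiso
  obtain ⟨t, T, P⟩ := position hG hK hC (base23.of_equiv e.symm)
  apply clean sheet23 hG e.symm P
  intro g hg
  apply mem_of_inn' P.facts.toStart hg
  rw [← inn_tr e.symm]
  exact KFacts.M23.OutOne.exists_conj _

end Cfsg.Agent.OddHalf.MM.Rows

end

-- merged: Cfsg.Agent.KFacts.MM.OutSheet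
section

/-!
# The sheet of `M22:2` from the facts on a Sylow 2-subgroup (helper969)

`SFacts SA` : the ambient facts on a Sylow 2-subgroup `SA` of `D22 = M22:2`.
`sheet_of` : `SFacts SA` gives the sheet over every `ι : A →* Perm GolayPt`, injective with range `D22`.
`sheet_mulAut` : the sheet for `A = MulAut K`, `K` isomorphic to `M22`.
-/

set_option autoImplicit false
set_option Elab.async false

namespace Cfsg.Agent.KFacts.MM.OutSheet

open Cfsg Cfsg.Agent.KFacts.MM.El Cfsg.Agent.KFacts.MM.Data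
open Cfsg.Agent.KFacts.MM.Sub Cfsg.Agent.KFacts.MM.Int
open Cfsg.Agent.KFacts.MM.El16 Cfsg.Agent.KFacts.MM.Cent Cfsg.Agent.KFacts.MM.OutP
open Cfsg.Agent.KFacts.MM.OutI
open Cfsg.Agent.J4Type.Aut22 (D22 mem_D22_iff M22_le_D22 mem_M22_iff_D22 card_D22)
open Cfsg.Agent.OddHalf.MM (Nrm Cen El)
open Cfsg.Agent.OddHalf.MMOut (Sheet)
open Subgroup

/-- the ambient facts on a Sylow 2-subgroup of `M22:2` -/
structure SFacts (SA : Subgroup (Equiv.Perm GolayPt)) : Prop where
  le : SA ≤ D22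
  two : IsPGroup 2 SA
  card : Nat.card SA = 256
  VS : V ≤ SA
  PS : P ≤ SA
  nV : ∀ s ∈ SA, Nrm s V
  nW : ∀ s ∈ SA, Nrm s W
  cen : ∀ y ∈ SA, (∀ s ∈ SA, s * y = y * s) → y = 1 ∨ y = z
  self16 : ∀ E : Subgroup (Equiv.Perm GolayPt), E ≤ SA → El E → Nat.card E = 16 →
    (∀ s ∈ SA, Nrm s E) → (∀ s ∈ SA, Cen s E → s ∈ E) → E = V ∨ b ∈ E
  bD : ∀ c ∈ D22, c * z = z * c → ∀ d ∈ D22, d * z = z * d →
    b * (c * d * c⁻¹ * d⁻¹) = c * d * c⁻¹ * d⁻¹ * b
  cD : ∀ v ∈ V, (∀ c ∈ D22, c * z = z * c → ∀ d ∈ D22, d * z = z * d →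
    v * (c * d * c⁻¹ * d⁻¹) = c * d * c⁻¹ * d⁻¹ * v) → v = 1 ∨ v = z
  el32 : ∀ E : Subgroup (Equiv.Perm GolayPt), E ≤ SA → El E → 32 ≤ Nat.card E → E = P
  stab : ∀ r ∈ W, (∀ k ∈ D22, Nrm k W → k * z = z * k → k * r = r * k) → r = 1 ∨ r = z
  nS : ∀ k ∈ D22, Nrm k SA → (∀ x ∈ V, x ∈ W → k * x = x * k) → ∃ v ∈ V, ∃ w ∈ P, k = v * w

section main

variable {A : Type*} [Group A] {ι : A →* Equiv.Perm GolayPt} {SA : Subgroup (Equiv.Perm GolayPt)}

/-- the elements of the commutator subgroup of `C(z)` -/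
theorem comm_ext (hin : Function.Injective ι) (hr : ι.range = D22) {z' : A} (hz : ι z' = z) {y : A} :
    (∀ x ∈ ⁅centralizer ({z'} : Set A), centralizer ({z'} : Set A)⁆, y * x = x * y) ↔
      ∀ c ∈ D22, c * z = z * c → ∀ d ∈ D22, d * z = z * d →
        ι y * (c * d * c⁻¹ * d⁻¹) = c * d * c⁻¹ * d⁻¹ * ι y := by
  constructor
  · intro h c hc hcz d hd hdz
    obtain ⟨c', rfl⟩ := lift hr hc
    obtain ⟨d', rfl⟩ := lift hr hd
    have h1 : c' ∈ centralizer ({z'} : Set A) := by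
      rw [mem_centralizer_singleton_iff]
      apply hin
      rw [map_mul, map_mul, hz]
      exact hcz
    have h2 : d' ∈ centralizer ({z'} : Set A) := by
      rw [mem_centralizer_singleton_iff]
      apply hin
      rw [map_mul, map_mul, hz]
      exact hdz
    have h3 := h _ (commutator_mem_commutator h1 h2)
    have h4 := congrArg ι h3
    rw [commutatorElement_def] at h4
    simp only [map_mul, map_inv] at h4
    exact h4
  · intro h x hx
    have h1 : ⁅centralizer ({z'} : Set A), centralizer ({z'} : Set A)⁆ ≤ centralizer ({y} : Set A) := by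
      rw [commutator_le]
      intro c hc d hd
      rw [mem_centralizer_singleton_iff] at hc hd
      rw [mem_centralizer_singleton_iff]
      apply hin
      rw [commutatorElement_def]
      simp only [map_mul, map_inv]
      refine (h (ι c) (mem_D hr c) ?_ (ι d) (mem_D hr d) ?_).symm
      · rw [← hz, ← map_mul, ← map_mul, hc]
      · rw [← hz, ← map_mul, ← map_mul, hd]
    have h2 := h1 hx
    rw [mem_centralizer_singleton_iff] at h2
    exact h2.symm

theorem card_map' (hin : Function.Injective ι) (E : Subgroup A) : Nat.card (E.map ι) = Nat.card E :=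
  (Nat.card_congr (E.equivMapOfInjective ι hin).toEquiv).symm

theorem map_le {E : Subgroup A} {U : Subgroup (Equiv.Perm GolayPt)} (h : E ≤ U.comap ι) : E.map ι ≤ U := by
  rintro _ ⟨x, hx, rfl⟩
  exact h hx

theorem el_map {E : Subgroup A} (h : El E) : El (E.map ι) := by
  rintro _ ⟨x, hx, rfl⟩
  rw [← map_mul, h x hx, map_one]

/-- the sheet over `ι` -/
theorem sheet_of (hin : Function.Injective ι) (hr : ι.range = D22) (h : SFacts SA) {z' : A}
    (hz : ι z' = z) :
    Sheet ((Spor.M22).comap ι) (SA.comap ι) (V.comap ι) (W.comap ι) (P.comap ι) z' where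
  idx := idx hr
  two := h.two.comap_of_injective ι hin
  max := by
    intro Q hQ hle
    have : Finite A := Finite.of_injective ι hin
    symm
    apply eq_of_le_of_card_ge hle
    obtain ⟨n, hn⟩ := IsPGroup.iff_card.1 hQ
    have hA : Nat.card A = 2 ^ 8 * 3465 := by
      have h1 := Nat.card_congr (MonoidHom.ofInjective hin).toEquiv
      rw [h1, hr, card_D22]
      norm_num
    have h1 : 2 ^ n ∣ 2 ^ 8 * 3465 := by
      rw [← hn, ← hA]
      exact card_subgroup_dvd_card Q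
    have h2 : 2 ^ n ∣ 2 ^ 8 := by
      apply Nat.Coprime.dvd_of_dvd_mul_right _ h1
      exact Nat.Coprime.pow_left n (by norm_num)
    rw [hn, card_comap hin hr h.le, h.card]
    exact Nat.le_of_dvd (by norm_num) h2
  cardSA := by rw [card_comap hin hr h.le, h.card]
  VK := fun x hx => V_le22 hx
  WK := fun x hx => W_le22 hx
  VS := fun x hx => h.VS hx
  PS := fun x hx => h.PS hx
  WP := fun x hx => W_le_P hx
  PK := fun w hw hK => PK hw hK
  cardV := by rw [card_comap hin hr V_leD, cardV]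
  cardW := by rw [card_comap hin hr W_leD, cardW]
  cardP := by rw [card_comap hin hr P_le, cardP]
  cardVW := by
    rw [← comap_inf, card_comap hin hr (inf_le_left.trans V_leD), cardVW]
  elV := fun x hx => hin (by rw [map_mul, map_one]; exact elV _ hx)
  elP := fun x hx => hin (by rw [map_mul, map_one]; exact elP _ hx)
  nV := fun s hs => (nrm_comap hr V_leD s).2 (h.nV _ hs)
  nW := fun s hs => (nrm_comap hr W_leD s).2 (h.nW _ hs)
  zV := by rw [mem_comap, hz]; exact zV
  zW := by rw [mem_comap, hz]; exact zW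
  z1 := by
    rintro rfl
    rw [map_one] at hz
    exact z1 hz.symm
  cVW := by
    intro v hv hvW w hw e
    exact cVW _ hv hvW _ hw (by rw [← map_mul, e, map_mul])
  cen := by
    intro y hy hc
    rcases h.cen (ι y) hy (by
      intro s hs
      obtain ⟨s', rfl⟩ := lift hr (h.le hs)
      rw [← map_mul, ← map_mul, hc s' hs]) with h1 | h1
    · left
      apply hin
      rw [h1, map_one]
    · right
      apply hin
      rw [h1, hz]
  inv := by
    intro k hk h2 h1
    obtain ⟨g, hg, e⟩ := InvM22.inv22 (ι k) hk (by rw [← map_mul, h2, map_one])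
      (fun e => h1 (hin (by rw [e, map_one])))
    obtain ⟨g', rfl⟩ := lift22 hr hg
    refine ⟨g', hin ?_⟩
    rw [map_mul, map_mul, map_inv, hz]
    exact e
  invO := by
    intro a ha h2
    obtain ⟨g, hg, w, hw, hwW, e⟩ := OutT.invO (mem_D hr a) ha (by rw [← map_mul, h2, map_one])
    obtain ⟨g', rfl⟩ := lift22 hr hg
    obtain ⟨w', rfl⟩ := lift hr (P_le hw)
    refine ⟨g', w', hw, hwW, hin ?_⟩
    rw [map_mul, map_mul, map_inv]
    exact e
  trV := by
    intro v hv h1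
    obtain ⟨k, hk, hN, e⟩ := Tr.trV (ι v) hv (fun e => h1 (hin (by rw [e, map_one])))
    obtain ⟨k', rfl⟩ := lift22 hr hk
    refine ⟨k', (nrm_comap hr V_leD k').2 hN, hin ?_⟩
    rw [map_mul, map_mul, map_inv, hz]
    exact e
  trW := by
    intro v hv h1
    obtain ⟨k, hk, hN, e⟩ := Tr.trW (ι v) hv (fun e => h1 (hin (by rw [e, map_one])))
    obtain ⟨k', rfl⟩ := lift22 hr hk
    refine ⟨k', (nrm_comap hr W_leD k').2 hN, hin ?_⟩
    rw [map_mul, map_mul, map_inv, hz]
    exact e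
  CV := fun k hk => CV ((mem_D22_iff _).1 (mem_D hr k)).1 ((cen_comap hin hr V_leD k).1 hk)
  CW := fun k hk => CW' (mem_D hr k) ((cen_comap hin hr W_leD k).1 hk)
  self16 := by
    obtain ⟨b', hb⟩ := lift hr b_D22
    refine ⟨b', ?_, ?_, ?_, ?_, ?_⟩
    · rw [mem_comap, hb]
      exact h.PS b_mem
    · rintro rfl
      rw [map_one] at hb
      exact b_not_M22 (hb ▸ one_mem _)
    · rintro rfl
      rw [hz] at hb
      exact b_not_M22 (hb ▸ V_le22 zV)
    · rw [comm_ext hin hr hz, hb]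
      exact h.bD
    · intro E hE hel h16 hn hc
      have hE' : E.map ι ≤ SA := map_le hE
      have h1 : (E.map ι).comap ι = E := comap_map_eq_self_of_injective hin E
      rcases h.self16 (E.map ι) hE' (el_map hel) (by rw [card_map' hin, h16]) (by
        intro s hs
        obtain ⟨s', rfl⟩ := lift hr (h.le hs)
        rw [← nrm_comap hr (hE'.trans h.le), h1]
        exact hn s' hs) (by
        intro s hs hsc
        obtain ⟨s', rfl⟩ := lift hr (h.le hs)
        rw [← cen_comap hin hr (hE'.trans h.le), h1] at hsc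
        exact ⟨s', hc s' hs hsc, rfl⟩) with h2 | h2
      · left
        rw [← h1, h2]
      · right
        obtain ⟨x, hx, e⟩ := h2
        rw [← hb] at e
        rw [← hin e]
        exact hx
  cD := by
    intro v hv hc
    rw [comm_ext hin hr hz] at hc
    rcases h.cD (ι v) hv hc with h1 | h1
    · left
      apply hin
      rw [h1, map_one]
    · right
      apply hin
      rw [h1, hz]
  el32 := by
    intro E hE hel h32
    have h1 : (E.map ι).comap ι = E := comap_map_eq_self_of_injective hin E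
    rw [← h1, h.el32 (E.map ι) (map_le hE) (el_map hel) (by rwa [card_map' hin])]
  sq := by
    intro r hr' hk
    rcases Tr.sq (ι r) hr' (by
      intro k hkM hN hkz
      obtain ⟨k', rfl⟩ := lift22 hr hkM
      have h1 := hk k' ((nrm_comap hr V_leD k').2 hN) (hin (by rw [map_mul, map_mul, hz]; exact hkz))
      rcases h1 with h1 | h1
      · left
        rw [← map_inv, ← map_mul, ← map_mul, h1]
      · right
        rw [← map_inv, ← map_mul, ← map_mul, h1, map_mul, hz]) with h1 | h1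
    · left
      apply hin
      rw [h1, map_one]
    · right
      apply hin
      rw [h1, hz]
  stab := by
    intro r hr' hk
    rcases h.stab (ι r) hr' (by
      intro k hkD hN hkz
      obtain ⟨k', rfl⟩ := lift hr hkD
      have h1 := hk k' ((nrm_comap hr W_leD k').2 hN) (hin (by rw [map_mul, map_mul, hz]; exact hkz))
      rw [← map_mul, ← map_mul, h1]) with h1 | h1
    · left
      apply hin
      rw [h1, map_one]
    · right
      apply hin
      rw [h1, hz]
  nS := by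
    intro k hN hC
    obtain ⟨v, hv, w, hw, e⟩ := h.nS (ι k) (mem_D hr k) ((nrm_comap hr h.le k).1 hN) (by
      intro x hxV hxW
      obtain ⟨x', rfl⟩ := lift hr (V_leD hxV)
      rw [← map_mul, ← map_mul, hC x' hxV hxW])
    obtain ⟨v', rfl⟩ := lift hr (V_leD hv)
    obtain ⟨w', rfl⟩ := lift hr (P_le hw)
    exact ⟨v', hv, w', hw, hin (by rw [e, map_mul])⟩
  del := by
    obtain ⟨d, hd, h1, h2, h3⟩ := Tr.del
    obtain ⟨d', rfl⟩ := lift22 hr hd
    refine ⟨d', (nrm_comap hr V_leD d').2 h1, (nrm_comap hr W_leD d').2 h2, ?_⟩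
    intro e
    apply h3
    rw [← hz, ← map_inv, ← map_mul, ← map_mul, e]
  zD := by
    obtain ⟨v, hv, w, hw, e⟩ := z_comm
    obtain ⟨v', rfl⟩ := lift hr (V_leD hv)
    obtain ⟨w', rfl⟩ := lift hr (W_leD hw)
    have hvz : v' ∈ centralizer ({z'} : Set A) := by
      rw [mem_centralizer_singleton_iff]
      apply hin
      rw [map_mul, map_mul, hz]
      exact z_central _ (V_le hv)
    have hwz : w' ∈ centralizer ({z'} : Set A) := by
      rw [mem_centralizer_singleton_iff]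
      apply hin
      rw [map_mul, map_mul, hz]
      exact z_central _ (W_le hw)
    have h1 : v' * w' * v'⁻¹ * w'⁻¹ ∈ ⁅centralizer ({z'} : Set A), centralizer ({z'} : Set A)⁆ :=
      commutator_mem_commutator hvz hwz
    have h2 : z' = v' * w' * v'⁻¹ * w'⁻¹ := by
      apply hin
      rw [hz, map_mul, map_mul, map_mul, map_inv, map_inv]
      exact e.symm
    rwa [← h2] at h1
  s5 := s5 hr
  invL := by
    intro a hN hP h2
    obtain ⟨w, hw, k1, k2, k3, k4, b0, hb0, hb1, hb2⟩ := OutM.invL (mem_D hr a)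
      ((nrm_comap hr W_leD a).1 hN) hP (by rw [← map_mul]; exact h2)
    obtain ⟨w', rfl⟩ := lift22 hr hw
    obtain ⟨b', rfl⟩ := lift hr (P_le hb0)
    refine ⟨w', hw, hin (by rw [map_mul, map_one]; exact k1), (nrm_comap hr W_leD w').2 k2, ?_, ?_,
      b', hb0, hb1, hin (by rw [map_mul, map_mul]; exact hb2)⟩
    · rw [mem_comap, map_mul, map_inv]
      exact k3
    · intro x hx e
      obtain ⟨u, hu, e'⟩ := k4 (ι x) hx (by rw [← map_mul, e, map_mul])
      obtain ⟨u', rfl⟩ := lift hr (W_leD hu)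
      refine ⟨u', hu, hin ?_⟩
      rw [map_mul, map_mul, map_mul, map_inv, map_inv]
      exact e'
  odd := by
    intro u hu hW
    obtain ⟨d, hd, k1, k2, k3, k4⟩ := OutM.odd hu hW
    obtain ⟨d', rfl⟩ := lift22 hr hd
    refine ⟨d', (nrm_comap hr W_leD d').2 k1, ?_, hin (by rw [map_mul, map_mul]; exact k3), ?_⟩
    · rwa [orderOf_injective ι hin] at k2
    · intro x hx e
      rcases k4 (ι x) hx (by rw [← map_mul, e, map_mul]) with h1 | h1
      · left
        apply hin
        rw [h1, map_one]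
      · right
        exact hin h1
  five := by
    obtain ⟨r, hr1, κ, hκ, k1, k2, k3, k4⟩ := OutM.five
    obtain ⟨r', rfl⟩ := lift22 hr hr1
    obtain ⟨κ', rfl⟩ := lift22 hr hκ
    refine ⟨r', κ', ?_, (nrm_comap hr W_leD r').2 k2, (nrm_comap hr W_leD κ').2 k3, hin ?_⟩
    · rwa [orderOf_injective ι hin] at k1
    · rw [map_mul, map_mul, map_mul, map_inv]
      exact k4

/-- the sheet for `A = MulAut K` -/
theorem sheet_mulAut (h : SFacts SA) {K : Type*} [Group K] (hK : Spor.IsoM22 K) :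
    ∃ (S' V' W' P' : Subgroup (MulAut K)) (z' : MulAut K),
      Sheet (MulAut.conj : K →* MulAut K).range S' V' W' P' z' := by
  obtain ⟨ι, hin, hr, hc⟩ := OutAut.exists_iota hK
  obtain ⟨z', hz⟩ := lift hr (V_leD zV)
  rw [← hc]
  exact ⟨_, _, _, _, _, sheet_of hin hr h hz⟩

end main

end Cfsg.Agent.KFacts.MM.OutSheet

end

-- merged: Cfsg.Agent.KFacts.MM.OutEnd
section

/-!
# The sheet of `M22:2` (helper969)

`sfacts` : the ambient facts on the Sylow 2-subgroup `SA` of `D22 = M22:2`;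
`sheet` : for every group `K` isomorphic to `M22` the structure `MMOut.Sheet` holds for `A = MulAut K`
and the inner automorphisms.
-/

set_option autoImplicit false

namespace Cfsg.Agent.KFacts.MM.OutEnd

open Cfsg Cfsg.Agent.KFacts.MM.El Cfsg.Agent.KFacts.MM.Data
open Cfsg.Agent.KFacts.MM.Sub Cfsg.Agent.KFacts.MM.Int
open Cfsg.Agent.KFacts.MM.El16 Cfsg.Agent.KFacts.MM.Cent Cfsg.Agent.KFacts.MM.OutP
open Cfsg.Agent.KFacts.MM.OutS Cfsg.Agent.KFacts.MM.OutSheet
open Cfsg.Agent.J4Type.Aut22 (D22 mem_D22_iff M22_le_D22 mem_M22_iff_D22 card_D22)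
open Cfsg.Agent.OddHalf.MM (Nrm Cen El)

theorem z_central_SA : ∀ s ∈ SA, s * z = z * s := by
  rintro s (hs | hs)
  · exact z_central s hs
  · have h1 := z_central _ hs
    have e : s = s * b * b⁻¹ := by group
    rw [e, mul_assoc (s * b), b_inv, b_comm_z, ← mul_assoc (s * b), h1, mul_assoc]

theorem stab : ∀ r ∈ W, (∀ k ∈ D22, Nrm k W → k * z = z * k → k * r = r * k) → r = 1 ∨ r = z :=
  fun r hr h => cen_SA r (S_le (W_le hr)) fun s hs =>
    h s (SA_le hs) (nrm_of (SA_W s hs)) (z_central_SA s hs)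

theorem sfacts : SFacts SA where
  le := SA_le
  two := isPGroup_SA
  card := card_SA
  VS := fun _ hx => S_le (V_le hx)
  PS := P_le_SA
  nV := fun s hs => nrm_of (SA_V s hs)
  nW := fun s hs => nrm_of (SA_W s hs)
  cen := cen_SA
  self16 := fun E hE hel h16 hN hC => self16 E hE hel h16 (fun s hs x hx => (hN s hs x).2 hx) hC
  bD := fun _ hc hcz _ hd hdz => OutC.comm_b hc hd hcz hdz
  cD := fun _ hv h => OutC.cD hv fun x hx y hy hxz hyz => h x hx hxz y hy hyz
  el32 := el32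
  stab := stab
  nS := fun _ hk hN hC => OutC.nSA hk hN hC

/-- **the sheet of `M22:2`** -/
theorem sheet {K : Type*} [Group K] (hK : Spor.IsoM22 K) :
    ∃ (SA V W P : Subgroup (MulAut K)) (z : MulAut K),
      OddHalf.MMOut.Sheet (MulAut.conj : K →* MulAut K).range SA V W P z :=
  sheet_mulAut sfacts hK

end Cfsg.Agent.KFacts.MM.OutEnd

end

-- merged: Cfsg.Agent.OddHalf.MMOut.Trans2
section

/-!
# ODD half, D8, `M22` outer case: translations over `V` and `W`, and the element `y`, part 2 (helper908)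
-/

set_option autoImplicit false
set_option linter.unusedSectionVars false

namespace Cfsg.Agent.OddHalf.MMOut

open Subgroup Cfsg.Agent.OddHalf.MM

variable {A G : Type*} [Group A] [Group G] {K SA V W P : Subgroup A} {z : A} {t : G} {φ : A →* G}

section

variable (h : Sheet K SA V W P z) (s : Setting t φ)
include h s

/-- `x` normalises `φ([C(z), C(z)])` -/
theorem swap_D {x : G} (hx : Swap SA z s x) {d : A}
    (hd : d ∈ ⁅centralizer ({z} : Set A), centralizer ({z} : Set A)⁆) :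
    ∃ d' ∈ ⁅centralizer ({z} : Set A), centralizer ({z} : Set A)⁆, x * φ d * x⁻¹ = φ d' := by
  set H : Subgroup A := centralizer ({z} : Set A) with hH
  have zz : φ z * φ z = 1 := by rw [← map_mul, h.zz, map_one]
  have key : ∀ g, g ∈ dbl s H → x * g * x⁻¹ ∈ dbl s H := by
    rintro g ⟨a, ha, e⟩
    have haz : a * z = z * a := mem_centralizer_singleton_iff.1 ha
    have g1 : g * t = t * g := comm_t s ⟨a, Subgroup.mem_top a, e⟩
    have g2 : g * φ z = φ z * g := by
      have := (conj_key s e z).1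
      rw [haz, mul_inv_cancel_right, mul_inv_eq_iff_eq_mul] at this
      exact this
    have ti : x⁻¹ * t * x = t * φ z := by
      have e1 : x⁻¹ * φ z * x = φ z := by
        calc x⁻¹ * φ z * x = x⁻¹ * (x * φ z * x⁻¹) * x := by rw [hx.xz]
          _ = φ z := by group
      have e2 : t = (x⁻¹ * t * x) * φ z := by
        calc t = x⁻¹ * (x * t * x⁻¹) * x := by group
          _ = (x⁻¹ * t * x) * (x⁻¹ * φ z * x) := by rw [hx.xt]; group
          _ = (x⁻¹ * t * x) * φ z := by rw [e1]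
      calc x⁻¹ * t * x = (x⁻¹ * t * x) * φ z * φ z := by rw [mul_assoc _ (φ z), zz, mul_one]
        _ = t * φ z := by rw [← e2]
    have zi : x⁻¹ * φ z * x = φ z := by
      calc x⁻¹ * φ z * x = x⁻¹ * (x * φ z * x⁻¹) * x := by rw [hx.xz]
        _ = φ z := by group
    have h1 : (x * g * x⁻¹) * t = t * (x * g * x⁻¹) := by
      have : g * (t * φ z) = (t * φ z) * g := by
        rw [← mul_assoc, g1, mul_assoc, g2, ← mul_assoc]
      calc (x * g * x⁻¹) * t = x * (g * (x⁻¹ * t * x)) * x⁻¹ := by group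
        _ = x * ((x⁻¹ * t * x) * g) * x⁻¹ := by rw [ti, this]
        _ = t * (x * g * x⁻¹) := by group
    have h2 : (x * g * x⁻¹) * φ z = φ z * (x * g * x⁻¹) := by
      calc (x * g * x⁻¹) * φ z = x * (g * (x⁻¹ * φ z * x)) * x⁻¹ := by group
        _ = x * ((x⁻¹ * φ z * x) * g) * x⁻¹ := by rw [zi, g2]
        _ = φ z * (x * g * x⁻¹) := by group
    obtain ⟨b, hb⟩ := s.cent _ h1
    refine ⟨b, ?_, hb⟩
    rw [hH, mem_centralizer_singleton_iff]
    apply s.inj
    have h3 := (conj_key s hb z).1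
    rw [mul_inv_eq_iff_eq_mul, h2, ← mul_inv_eq_iff_eq_mul, mul_inv_cancel_right] at h3
    have h4 := s.inj h3
    rw [map_mul, map_mul, ← map_mul, ← map_mul]
    congr 1
    calc b * z = b * z * b⁻¹ * b := by group
      _ = z * b := by rw [← h4]
  have h5 : φ d ∈ ⁅dbl s H, dbl s H⁆ := by
    rw [commutator_dbl]; exact ⟨d, hd, rfl⟩
  have h6 : x * φ d * x⁻¹ ∈ (⁅dbl s H, dbl s H⁆).map (MulAut.conj x).toMonoidHom := ⟨φ d, h5, rfl⟩
  rw [map_commutator] at h6
  have h7 : (dbl s H).map (MulAut.conj x).toMonoidHom ≤ dbl s H := by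
    rintro _ ⟨g, hg, rfl⟩
    exact key g hg
  have h8 := commutator_mono h7 h7 h6
  rw [commutator_dbl] at h8
  obtain ⟨d', hd', e⟩ := h8
  exact ⟨d', hd', e.symm⟩

/-- `x` normalises `⟨t⟩ × φ(V)` -/
theorem swap_V [Finite A] {x : G} (hx : Swap SA z s x) : Nrm x (dbl s V) := by
  set F : Subgroup G := (dbl s V).map (MulAut.conj x).toMonoidHom with hF
  have hFm : ∀ g, g ∈ F ↔ ∃ y ∈ dbl s V, x * y * x⁻¹ = g := fun g => Iff.rfl
  have hFT : ∀ g ∈ F, g ∈ dbl s SA := by
    rintro _ ⟨y, hy, rfl⟩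
    exact (hx.xT y).2 (dbl_mono s h.VS hy)
  have zz : φ z * φ z = 1 := by rw [← map_mul, h.zz, map_one]
  have ht : t ∈ F := by
    refine (hFm t).2 ⟨t * φ z, (tphi_mem s).2 h.zV, ?_⟩
    calc x * (t * φ z) * x⁻¹ = (x * t * x⁻¹) * (x * φ z * x⁻¹) := by group
      _ = t := by rw [hx.xt, hx.xz, mul_assoc, zz, mul_one]
  have e1 := eq_dbl s (fun g hg => comm_t s (hFT g hg)) ht
  set E : Subgroup A := F.comap φ with hE
  have hEm : ∀ a, a ∈ E ↔ φ a ∈ F := fun a => Iff.rfl
  have cE : Nat.card E = 16 := by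
    have h1 : Nat.card F = 32 := by
      rw [hF, card_map_of_injective (MulAut.conj x).injective, card_dbl, h.cardV]
    rw [e1, card_dbl] at h1
    omega
  have hES : E ≤ SA := fun a ha => (phi_mem s).1 (hFT _ ha)
  have elE : El E := by
    intro a ha
    apply s.inj
    rw [map_mul, map_one]
    obtain ⟨y, hy, e⟩ := (hFm _).1 ((hEm a).1 ha)
    rw [← e]
    calc x * y * x⁻¹ * (x * y * x⁻¹) = x * (y * y) * x⁻¹ := by group
      _ = 1 := by rw [el_dbl s h.elV y hy]; group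
  -- for `a ∈ SA` the element `x⁻¹ φ(a) x` lies in `T`
  have ha' : ∀ a ∈ SA, x⁻¹ * φ a * x ∈ dbl s SA := fun a ha => by
    have := (hx.xT.inv (φ a)).2 ((phi_mem s).2 ha)
    rwa [inv_inv] at this
  have nE : ∀ a ∈ SA, Nrm a E := by
    have key : ∀ a ∈ SA, ∀ b ∈ E, a * b * a⁻¹ ∈ E := by
      intro a ha b hb
      obtain ⟨y, hy, e⟩ := (hFm _).1 ((hEm b).1 hb)
      refine (hEm _).2 ((hFm _).2 ⟨(x⁻¹ * φ a * x) * y * (x⁻¹ * φ a * x)⁻¹,
        (nrm_dbl_of_mem s h.nV (ha' a ha) y).2 hy, ?_⟩)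
      rw [map_mul, map_mul, map_inv, ← e]; group
    intro a ha
    refine nrm_of_two (key a ha) ?_
    intro b hb
    have := key a⁻¹ (SA.inv_mem ha) b hb
    rwa [inv_inv] at this
  have sE : ∀ a ∈ SA, Cen a E → a ∈ E := by
    intro a ha hc
    refine (hEm a).2 ((hFm _).2 ⟨x⁻¹ * φ a * x, ?_, by group⟩)
    apply cen_of s h.CV (comm_t s (ha' a ha))
    rintro _ ⟨v, hv, rfl⟩
    have h1 : x * φ v * x⁻¹ ∈ F := (hFm _).2 ⟨φ v, (phi_mem s).2 hv, rfl⟩
    rw [e1] at h1
    obtain ⟨b, hb, eb⟩ := h1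
    have h2 : φ a * (x * φ v * x⁻¹) = (x * φ v * x⁻¹) * φ a := by
      have hab : φ a * φ b = φ b * φ a := by rw [← map_mul, ← map_mul, hc b hb]
      rcases eb with eb | eb
      · rw [eb, hab]
      · rw [eb, ← mul_assoc, s.comm, mul_assoc, hab, ← mul_assoc]
    calc x⁻¹ * φ a * x * φ v = x⁻¹ * (φ a * (x * φ v * x⁻¹)) * x := by group
      _ = x⁻¹ * ((x * φ v * x⁻¹) * φ a) * x := by rw [h2]
      _ = φ v * (x⁻¹ * φ a * x) := by group
  obtain ⟨b1, hb1, b11, b1z, b1c, b1E⟩ := h.self16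
  rcases b1E E hES elE cE nE sE with h1 | h1
  · -- `E = V`
    rw [h1] at e1
    refine nrm_of_two ?_ ?_
    · intro y hy
      rw [← e1]; exact (hFm _).2 ⟨y, hy, rfl⟩
    · intro y hy
      rw [← e1] at hy
      obtain ⟨y', hy', e⟩ := (hFm _).1 hy
      have : x⁻¹ * y * x = y' := by rw [← e]; group
      rwa [this]
  · exfalso
    obtain ⟨y, ⟨v, hv, ev⟩, e⟩ := (hFm _).1 ((hEm b1).1 h1)
    have hvD : ∀ d ∈ ⁅centralizer ({z} : Set A), centralizer ({z} : Set A)⁆, v * d = d * v := by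
      intro d hd
      obtain ⟨d', hd', ed⟩ := swap_D h s hx hd
      have h2 : φ b1 * φ d' = φ d' * φ b1 := by rw [← map_mul, ← map_mul, b1c d' hd']
      rw [← e, ← ed] at h2
      have h3 : y * φ d = φ d * y := by
        calc y * φ d = x⁻¹ * (x * y * x⁻¹ * (x * φ d * x⁻¹)) * x := by group
          _ = x⁻¹ * (x * φ d * x⁻¹ * (x * y * x⁻¹)) * x := by rw [h2]
          _ = φ d * y := by group
      have h4 := (conj_key s ev d).1
      rw [h3, mul_inv_cancel_right] at h4
      have h5 := s.inj h4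
      calc v * d = v * d * v⁻¹ * v := by group
        _ = d * v := by rw [← h5]
    rcases h.cD v hv hvD with rfl | rfl
    · rcases ev with rfl | rfl
      · apply b11
        apply s.inj
        rw [← e, map_one]; group
      · rw [map_one, mul_one, hx.xt] at e
        exact phi_ne s _ _ e.symm
    · rcases ev with rfl | rfl
      · rw [hx.xz] at e
        exact b1z (s.inj e).symm
      · apply s.tK b1
        rw [← e]
        calc x * (t * φ v) * x⁻¹ = (x * t * x⁻¹) * (x * φ v * x⁻¹) := by group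
          _ = t := by rw [hx.xt, hx.xz, mul_assoc, zz, mul_one]

/-- **translations over `V`** -/
theorem trans_V [Finite A] [Finite G] {x : G} (hx : Swap SA z s x) :
    ∀ v ∈ V, ∃ f, Cen f (V.map φ) ∧ f * t * f⁻¹ = t * φ v :=
  translate h s h.elV h.cardV h.zV h.trV h.nV h.CV (by rw [h.cardV]; norm_num)
    (nrm_map_of_dbl h s hx h.VK h.elV (swap_V h s hx)) hx.xt

/-- **translations over `W`** -/
theorem trans_W [Finite A] [Finite G] {x : G} (hx : Swap SA z s x) :
    ∀ v ∈ W, ∃ f, Cen f (W.map φ) ∧ f * t * f⁻¹ = t * φ v := by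
  obtain ⟨f, cf, ft⟩ := trans_V h s hx z h.zV
  exact translate h s h.elW h.cardW h.zW h.trW h.nW h.CW (by rw [h.cardP])
    (nrm_W h s hx cf ft) ft

/-- squares of elements over `z` -/
theorem sq_tmul {b : G} (cb : Cen b (V.map φ)) (bt : b * t * b⁻¹ = t * φ z) {r : A}
    (hr : b * b = φ r) {v : A} (hv : v ∈ V) :
    b * φ v * (b * φ v) = φ r ∧ b * (t * φ v) * (b * (t * φ v)) = φ (z * r) := by
  have c1 : b * φ v = φ v * b := cb _ ⟨v, hv, rfl⟩
  have vv : φ v * φ v = 1 := by rw [← map_mul, h.elV v hv, map_one]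
  constructor
  · calc b * φ v * (b * φ v) = φ v * b * (b * φ v) := by rw [c1]
      _ = φ v * (b * b) * φ v := by group
      _ = φ v * (b * (b * φ v)) := by group
      _ = φ v * (b * (φ v * b)) := by rw [c1]
      _ = φ v * (b * φ v) * b := by group
      _ = (φ v * φ v) * (b * b) := by rw [c1]; group
      _ = φ r := by rw [vv, hr, one_mul]
  · have c2 : t * φ v = φ v * t := t_comm s v
    calc b * (t * φ v) * (b * (t * φ v)) = b * (t * φ v) * (b * (φ v * t)) := by rw [c2]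
      _ = b * t * (φ v * (b * φ v)) * t := by group
      _ = b * t * ((φ v * φ v) * b) * t := by rw [c1]; group
      _ = (b * t * b⁻¹) * (b * b) * t := by rw [vv]; group
      _ = t * (φ z * φ r * t) := by rw [bt, hr]; group
      _ = t * (φ (z * r) * t) := by rw [map_mul]
      _ = φ (z * r) := by rw [← t_comm s, tt_mul s]

/-- elements over the same point -/
theorem same_over {X C : Subgroup A} (hC : ∀ a, Cen a X → a ∈ C) {b b' : G} (cb : Cen b (X.map φ))
    (cb' : Cen b' (X.map φ)) (e : b * t * b⁻¹ = b' * t * b'⁻¹) : ∃ g ∈ dbl s C, b' = b * g := by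
  refine ⟨b⁻¹ * b', ?_, by group⟩
  apply cen_of s hC _ (cb.ginv.gmul cb')
  have h1 : b⁻¹ * b' * t * (b⁻¹ * b')⁻¹ = t := by
    calc b⁻¹ * b' * t * (b⁻¹ * b')⁻¹ = b⁻¹ * (b' * t * b'⁻¹) * b := by group
      _ = t := by rw [← e]; group
  rwa [mul_inv_eq_iff_eq_mul] at h1

/-- **the element `y`** -/
theorem exists_y [Finite A] [Finite G] {x : G} (hx : Swap SA z s x) :
    ∃ y, y * y = 1 ∧ Cen y (V.map φ) ∧ Cen y (W.map φ) ∧ y * t * y⁻¹ = t * φ z := by
  obtain ⟨b, cb, bt⟩ := trans_V h s hx z h.zV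
  obtain ⟨b', cb', bt'⟩ := trans_W h s hx z h.zW
  have nk : Nrm (b⁻¹ * b') (dbl s SA) :=
    (nrm_T h s h.zV h.nV h.CV h.VS cb bt).inv.mul (nrm_T h s h.zW h.nW h.CW h.PS cb' bt')
  have kt : b⁻¹ * b' * t = t * (b⁻¹ * b') := by
    have h1 : b⁻¹ * b' * t * (b⁻¹ * b')⁻¹ = t := by
      calc b⁻¹ * b' * t * (b⁻¹ * b')⁻¹ = b⁻¹ * (b' * t * b'⁻¹) * b := by group
        _ = b⁻¹ * (b * t * b⁻¹) * b := by rw [bt', bt]
        _ = t := by group
    rwa [mul_inv_eq_iff_eq_mul] at h1
  obtain ⟨a, ea⟩ := s.cent _ kt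
  have na : Nrm a SA := by
    intro c
    rw [← phi_mem s (H := SA), ← phi_mem s (H := SA) (a := c), ← nk (φ c), (conj_key s ea c).1]
  have ca : ∀ c ∈ V, c ∈ W → a * c = c * a := by
    intro c hc hcW
    have h1 : (b⁻¹ * b') * φ c = φ c * (b⁻¹ * b') := by
      rw [mul_assoc, cb' _ ⟨c, hcW, rfl⟩, ← mul_assoc, cb.ginv _ ⟨c, hc, rfl⟩, mul_assoc]
    have h2 := (conj_key s ea c).1
    rw [h1, mul_inv_cancel_right] at h2
    have h3 := s.inj h2
    calc a * c = a * c * a⁻¹ * a := by group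
      _ = c * a := by rw [← h3]
  obtain ⟨v, hv, w, hw, rfl⟩ := h.nS a na ca
  -- `b1 = b' w⁻¹`
  have hb1 : ∃ τ : G, (τ = 1 ∨ τ = t) ∧ b' * (φ w)⁻¹ = b * (τ * φ v) := by
    rcases ea with ea | ea
    · refine ⟨1, Or.inl rfl, ?_⟩
      calc b' * (φ w)⁻¹ = b * (b⁻¹ * b') * (φ w)⁻¹ := by group
        _ = b * (1 * φ v) := by rw [ea, map_mul]; group
    · refine ⟨t, Or.inr rfl, ?_⟩
      calc b' * (φ w)⁻¹ = b * (b⁻¹ * b') * (φ w)⁻¹ := by group
        _ = b * (t * φ v) := by rw [ea, map_mul]; group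
  obtain ⟨τ, hτ, e1⟩ := hb1
  set b1 := b' * (φ w)⁻¹ with hb1def
  have cτ : Cen τ (V.map φ) ∧ τ * t = t * τ := by
    rcases hτ with rfl | rfl
    · exact ⟨Cen.one _, by rw [one_mul, mul_one]⟩
    · exact ⟨cen_t s V, rfl⟩
  have cV1 : Cen b1 (V.map φ) := by
    rw [e1]
    exact cb.gmul (cτ.1.gmul (Cen.of_mem (el_map s h.elV) ⟨v, hv, rfl⟩))
  have cW1 : Cen b1 (W.map φ) := by
    have h1 : Cen (φ w) (W.map φ) := by
      rintro _ ⟨c, hc, rfl⟩
      rw [← map_mul, ← map_mul, h.elP.gcomm hw (h.WP hc)]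
    exact cb'.gmul h1.ginv
  have t1 : b1 * t * b1⁻¹ = t * φ z := by
    have h1 : (φ w)⁻¹ * t * φ w = t := by rw [mul_assoc, t_comm s]; group
    calc b1 * t * b1⁻¹ = b' * ((φ w)⁻¹ * t * φ w) * b'⁻¹ := by rw [hb1def]; group
      _ = t * φ z := by rw [h1, bt']
  -- its square
  have zz : φ z * φ z = 1 := by rw [← map_mul, h.zz, map_one]
  have c2 : b1 * b1 * t = t * (b1 * b1) := by
    have h1 : b1 * b1 * t * (b1 * b1)⁻¹ = t := by
      calc b1 * b1 * t * (b1 * b1)⁻¹ = b1 * (b1 * t * b1⁻¹) * b1⁻¹ := by group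
        _ = b1 * (t * φ z) * b1⁻¹ := by rw [t1]
        _ = (b1 * t * b1⁻¹) * (b1 * φ z * b1⁻¹) := by group
        _ = t * (φ z * φ z) := by
          rw [t1, cV1 _ ⟨z, h.zV, rfl⟩]; group
        _ = t := by rw [zz, mul_one]
    rwa [mul_inv_eq_iff_eq_mul] at h1
  obtain ⟨r, hr, er⟩ := cen_of s h.CV c2 (cV1.gmul cV1)
  have er' : b1 * b1 = φ r := by
    rcases er with er | er
    · exact er
    · exfalso
      have h1 : b1 * (t * φ r) = (t * φ r) * b1 := by rw [← er]; group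
      have h2 : b1 * φ r = φ r * b1 := cV1 _ ⟨r, hr, rfl⟩
      have h3 : b1 * t = t * b1 := by
        calc b1 * t = b1 * (t * φ r) * (φ r)⁻¹ := by group
          _ = t * (φ r * b1) * (φ r)⁻¹ := by rw [h1]; group
          _ = t * b1 := by rw [← h2]; group
      rw [h3, mul_inv_cancel_right] at t1
      have h4 : φ z = 1 := by
        have := t1.symm; simpa using this
      exact h.z1 (s.inj (by rw [h4, map_one]))
  have hrz : r = 1 ∨ r = z := by
    apply h.sq r hr
    intro k hk hkz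
    have c3 : Cen (φ k * b1 * (φ k)⁻¹) (V.map φ) := cV1.gconj (nrm_map s hk)
    have hkz' : k * z * k⁻¹ = z := by rw [hkz, mul_inv_cancel_right]
    have t3 : (φ k * b1 * (φ k)⁻¹) * t * (φ k * b1 * (φ k)⁻¹)⁻¹ = t * φ z := by
      have h1 : (φ k)⁻¹ * t * φ k = t := by rw [mul_assoc, t_comm s]; group
      calc (φ k * b1 * (φ k)⁻¹) * t * (φ k * b1 * (φ k)⁻¹)⁻¹
          = φ k * (b1 * ((φ k)⁻¹ * t * φ k) * b1⁻¹) * (φ k)⁻¹ := by group
        _ = t * φ z := by
          rw [h1, t1, (conj_key s (Or.inl rfl) z).2, hkz']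
    obtain ⟨g, ⟨v', hv', eg⟩, e⟩ := same_over h s h.CV cV1 c3 (by rw [t1, t3])
    have h5 := sq_tmul h s cV1 t1 er' hv'
    have h6 : φ k * b1 * (φ k)⁻¹ * (φ k * b1 * (φ k)⁻¹) = φ (k * r * k⁻¹) := by
      calc φ k * b1 * (φ k)⁻¹ * (φ k * b1 * (φ k)⁻¹) = φ k * (b1 * b1) * (φ k)⁻¹ := by group
        _ = φ (k * r * k⁻¹) := by rw [er']; simp
    rw [e] at h6
    rcases eg with rfl | rfl
    · left
      exact s.inj (by rw [← h6, h5.1])
    · right
      exact s.inj (by rw [← h6, h5.2, h.elV.gcomm h.zV hr])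
  rcases hrz with rfl | rfl
  · exact ⟨b1, by rw [er', map_one], cV1, cW1, t1⟩
  · refine ⟨b1 * t, ?_, cV1.gmul (cen_t s V), cW1.gmul (cen_t s W), ?_⟩
    · have h5 := (sq_tmul h s cV1 t1 er' (v := 1) V.one_mem).2
      rw [map_one, mul_one, h.zz, map_one] at h5
      exact h5
    · calc b1 * t * t * (b1 * t)⁻¹ = b1 * t * b1⁻¹ := by group
        _ = _ := t1

end

end Cfsg.Agent.OddHalf.MMOut

end

-- merged: Cfsg.Agent.OddHalf.MMOut.Five
section

/-!
# ODD half, D8, `M22` outer case: the lifts over `W`, the twist, the two patterns (helper908)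
-/

set_option autoImplicit false
set_option linter.unusedSectionVars false

namespace Cfsg.Agent.OddHalf.MMOut

open Subgroup Cfsg.Agent.OddHalf.MM

variable {A G : Type*} [Group A] [Group G] {K SA V W P : Subgroup A} {z : A} {t : G} {φ : A →* G}

/-- an element over `w ∈ W`: `f ∈ C(W)`, `t^f = t w` -/
def Over (t : G) (φ : A →* G) (W : Subgroup A) (w : A) (f : G) : Prop :=
  Cen f (W.map φ) ∧ f * t * f⁻¹ = t * φ w

section

variable (h : Sheet K SA V W P z) (s : Setting t φ)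
include h s

theorem over_mul {u v : A} {f g : G} (hu : v ∈ W) (hf : Over t φ W u f) (hg : Over t φ W v g) :
    Over t φ W (u * v) (f * g) := by
  refine ⟨hf.1.gmul hg.1, ?_⟩
  calc f * g * t * (f * g)⁻¹ = f * (g * t * g⁻¹) * f⁻¹ := by group
    _ = f * (t * φ v) * f⁻¹ := by rw [hg.2]
    _ = (f * t * f⁻¹) * (f * φ v * f⁻¹) := by group
    _ = t * φ (u * v) := by
      rw [hf.2, hf.1 _ ⟨v, hu, rfl⟩, mul_inv_cancel_right, map_mul, mul_assoc]

theorem over_conj {u k : A} {f : G} (hk : Nrm k W) (hf : Over t φ W u f) :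
    Over t φ W (k * u * k⁻¹) (φ k * f * (φ k)⁻¹) := by
  refine ⟨hf.1.gconj (nrm_map s hk), ?_⟩
  have h1 : (φ k)⁻¹ * t * φ k = t := by rw [mul_assoc, t_comm s]; group
  calc φ k * f * (φ k)⁻¹ * t * (φ k * f * (φ k)⁻¹)⁻¹
      = φ k * (f * ((φ k)⁻¹ * t * φ k) * f⁻¹) * (φ k)⁻¹ := by group
    _ = _ := by rw [h1, hf.2, (conj_key s (Or.inl rfl) u).2]

/-- lifts of the elements of `W` which are involutions -/
theorem lift_W {y : G} (yy : y * y = 1) (yW : Cen y (W.map φ)) (yt : y * t * y⁻¹ = t * φ z) :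
    ∀ w ∈ W, ∃ y, Over t φ W w y ∧ y * y = 1 := by
  intro w hw
  by_cases w1 : w = 1
  · refine ⟨1, ⟨Cen.one _, ?_⟩, by group⟩
    rw [w1, map_one]; group
  · obtain ⟨k, hk, e⟩ := h.trW w hw w1
    refine ⟨φ k * y * (φ k)⁻¹, ?_, ?_⟩
    · have := over_conj h s hk (u := z) ⟨yW, yt⟩
      rwa [e] at this
    · calc φ k * y * (φ k)⁻¹ * (φ k * y * (φ k)⁻¹) = φ k * (y * y) * (φ k)⁻¹ := by group
        _ = 1 := by rw [yy]; group

/-- **one half**: `Half t V` -/
theorem half_V [Finite A] {y : G} (yy : y * y = 1) (yV : Cen y (V.map φ))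
    (yt : y * t * y⁻¹ = t * φ z) : Half t (V.map φ) where
  tt := s.tt
  t1 := s.t1
  card := by rw [card_map_of_injective s.inj]; exact h.cardV
  el := el_map s h.elV
  comm := by
    rintro _ ⟨v, -, rfl⟩
    exact s.comm v
  tV := by
    rintro ⟨v, -, e⟩
    exact s.tK v e
  cent := by
    intro g hg hc
    obtain ⟨v, hv, e⟩ := cen_of s h.CV hg hc
    exact ⟨φ v, ⟨v, hv, rfl⟩, e⟩
  ex := by
    rintro _ ⟨v, hv, rfl⟩
    by_cases v1 : v = 1
    · exact ⟨1, Cen.one _, by rw [v1, map_one]; group⟩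
    · obtain ⟨k, hk, e⟩ := h.trV v hv v1
      refine ⟨φ k * y * (φ k)⁻¹, yV.gconj (nrm_map s hk), ?_⟩
      have h1 : (φ k)⁻¹ * t * φ k = t := by rw [mul_assoc, t_comm s]; group
      calc φ k * y * (φ k)⁻¹ * t * (φ k * y * (φ k)⁻¹)⁻¹
          = φ k * (y * ((φ k)⁻¹ * t * φ k) * y⁻¹) * (φ k)⁻¹ := by group
        _ = t * φ v := by rw [h1, yt, (conj_key s (Or.inl rfl) z).2, e]
  sq := by
    rintro _ ⟨v, hv, rfl⟩ b cb bt
    by_cases v1 : v = 1
    · left
      rw [v1, map_one, mul_one, mul_inv_eq_iff_eq_mul] at bt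
      exact el_dbl s h.elV _ (cen_of s h.CV bt cb)
    · obtain ⟨k, hk, e⟩ := h.trV v hv v1
      -- move to `z`
      have hk' := hk.inv
      have c1 : Cen ((φ k)⁻¹ * b * φ k) (V.map φ) := by
        have := cb.gconj (nrm_map s hk')
        rwa [map_inv, inv_inv] at this
      have h1 : φ k * t * (φ k)⁻¹ = t := conj_t s k
      have hz : k⁻¹ * v * k = z := by rw [← e]; group
      have t1 : ((φ k)⁻¹ * b * φ k) * t * ((φ k)⁻¹ * b * φ k)⁻¹ = t * φ z := by
        have h2 := (conj_key s (g := (φ k)⁻¹) (Or.inl (map_inv φ k).symm) v).2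
        rw [inv_inv, inv_inv, hz] at h2
        calc (φ k)⁻¹ * b * φ k * t * ((φ k)⁻¹ * b * φ k)⁻¹
            = (φ k)⁻¹ * (b * (φ k * t * (φ k)⁻¹) * b⁻¹) * φ k := by group
          _ = t * φ z := by rw [h1, bt, h2]
      obtain ⟨g, ⟨v', hv', eg⟩, e1⟩ := same_over h s h.CV yV c1 (by rw [yt, t1])
      have h5 := sq_tmul h s yV yt (r := 1) (by rw [yy, map_one]) hv'
      have h6 : b * b = φ k * (((φ k)⁻¹ * b * φ k) * ((φ k)⁻¹ * b * φ k)) * (φ k)⁻¹ := by group
      rw [e1] at h6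
      rcases eg with rfl | rfl
      · left
        rw [h6, h5.1, map_one]; group
      · right
        rw [h6, h5.2, mul_one, ← e]
        simp

/-- the lifts of two different elements of `V ∩ W` commute -/
theorem good_pair [Finite A] {y : G} (yy : y * y = 1) (yV : Cen y (V.map φ)) (yW : Cen y (W.map φ))
    (yt : y * t * y⁻¹ = t * φ z) :
    ∃ u ∈ W, ∃ v ∈ W, u ≠ 1 ∧ v ≠ 1 ∧ u ≠ v ∧ ∃ a c : G, Over t φ W u a ∧ a * a = 1 ∧
      Over t φ W v c ∧ c * c = 1 ∧ a * c = c * a := by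
  obtain ⟨d, dV, dW, dz⟩ := h.del
  have hV := half_V h s yy yV yt
  have dz' : φ d * φ z * (φ d)⁻¹ ≠ φ z := by
    intro e
    apply dz
    apply s.inj
    rw [map_mul, map_mul, map_inv, e]
  have z1 : φ z ≠ 1 := fun e => h.z1 (s.inj (by rw [e, map_one]))
  have hg := goodV (W := W.map φ) hV (el_map s h.elW)
    (by rw [card_map_of_injective s.inj]; exact h.cardW)
    (by rintro _ ⟨w, -, rfl⟩; exact s.comm w)
    (by
      rw [← map_inf_eq (f := φ) V W s.inj, card_map_of_injective s.inj]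
      exact h.cardVW)
    ⟨z, h.zV, rfl⟩ ⟨z, h.zW, rfl⟩ z1
    (by rintro _ ⟨w, hw, rfl⟩; exact nrm_map s (h.nV w (h.WS hw)))
    (by rintro _ ⟨v, hv, rfl⟩; exact nrm_map s (h.nW v (h.VS hv)))
    (by
      rintro _ ⟨v, hv, rfl⟩ hvW _ ⟨w, hw, rfl⟩ e
      refine ⟨w, h.cVW v hv (fun h' => hvW ⟨v, h', rfl⟩) w hw (s.inj ?_), rfl⟩
      rw [map_mul, map_mul, e])
    yy yV yW yt (nrm_map s dV) (nrm_map s dW) (s.comm d) dz'
  have hdy : (φ d * y * (φ d)⁻¹) * t * (φ d * y * (φ d)⁻¹)⁻¹ = t * φ (d * z * d⁻¹) := by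
    have h1 : (φ d)⁻¹ * t * φ d = t := by rw [mul_assoc, t_comm s]; group
    calc φ d * y * (φ d)⁻¹ * t * (φ d * y * (φ d)⁻¹)⁻¹
        = φ d * (y * ((φ d)⁻¹ * t * φ d) * y⁻¹) * (φ d)⁻¹ := by group
      _ = _ := by rw [h1, yt, (conj_key s (Or.inl rfl) z).2]
  have hsq : φ d * y * (φ d)⁻¹ * (φ d * y * (φ d)⁻¹) = 1 := by
    calc φ d * y * (φ d)⁻¹ * (φ d * y * (φ d)⁻¹) = φ d * (y * y) * (φ d)⁻¹ := by group
      _ = 1 := by rw [yy]; group
  have hzd : d * z * d⁻¹ ∈ V := (dV z).2 h.zV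
  have hz1 : d * z * d⁻¹ ≠ 1 := by
    intro e
    apply h.z1
    calc z = d⁻¹ * (d * z * d⁻¹) * d := by group
      _ = 1 := by rw [e]; group
  have notC : ∀ {g : G} {v : A}, v ≠ 1 → g * t * g⁻¹ = t * φ v → ¬ (g * t = t * g) := by
    intro g v v1 e e'
    rw [e', mul_inv_cancel_right] at e
    apply v1
    apply s.inj
    rw [map_one]
    simpa using e.symm
  refine ⟨z, h.zW, d * z * d⁻¹, (dW z).2 h.zW, h.z1, hz1, Ne.symm dz, y, φ d * y * (φ d)⁻¹,
    ⟨yW, yt⟩, yy, ⟨yW.gconj (nrm_map s dW), hdy⟩, hsq, ?_⟩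
  apply hg
  · exact ⟨⟨yV, φ z, ⟨z, h.zV, rfl⟩, yt⟩, yy, fun e => absurd e (notC h.z1 yt)⟩
  · exact ⟨⟨yV.gconj (nrm_map s dV), _, ⟨_, hzd, rfl⟩, hdy⟩, hsq, fun e => absurd e (notC hz1 hdy)⟩

/-- `C_{C(t)}(W) = ⟨t⟩ × P` -/
theorem over_one {f : G} (hf : Over t φ W 1 f) : f ∈ dbl s P := by
  apply cen_of s h.CW _ hf.1
  have := hf.2
  rwa [map_one, mul_one, mul_inv_eq_iff_eq_mul] at this

theorem over_inv {u : A} (hu : u ∈ W) {f : G} (hf : Over t φ W u f) : Over t φ W u f⁻¹ := by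
  have uu : φ u * φ u = 1 := by rw [← map_mul, h.elW u hu, map_one]
  refine ⟨hf.1.ginv, ?_⟩
  have e1 : f⁻¹ * φ u * f = φ u := by
    rw [mul_assoc, ← hf.1 (φ u) ⟨u, hu, rfl⟩]; group
  have e2 : t = (f⁻¹ * t * f) * φ u := by
    calc t = f⁻¹ * (f * t * f⁻¹) * f := by group
      _ = (f⁻¹ * t * f) * (f⁻¹ * φ u * f) := by rw [hf.2]; group
      _ = (f⁻¹ * t * f) * φ u := by rw [e1]
  calc f⁻¹ * t * f⁻¹⁻¹ = (f⁻¹ * t * f) * φ u * φ u := by
        rw [mul_assoc _ (φ u), uu, mul_one, inv_inv]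
    _ = t * φ u := by rw [← e2]

/-- elements over the same `u` differ by an element of `⟨t⟩ × P` -/
theorem over_same {u : A} {f g : G} (hf : Over t φ W u f) (hg : Over t φ W u g) :
    ∃ e ∈ dbl s P, g = f * e :=
  same_over h s h.CW hf.1 hg.1 (by rw [hf.2, hg.2])

/-- elements over `u ∈ W` normalise `⟨t⟩ × P` -/
theorem over_dbl {u : A} (hu : u ∈ W) {f : G} (hf : Over t φ W u f) {g : G} (hg : g ∈ dbl s P) :
    f * g * f⁻¹ ∈ dbl s P := by
  have cg : Cen g (W.map φ) := by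
    obtain ⟨p, hp, e⟩ := hg
    have h1 : Cen (φ p) (W.map φ) := by
      rintro _ ⟨c, hc, rfl⟩
      rw [← map_mul, ← map_mul, h.elP.gcomm hp (h.WP hc)]
    rcases e with rfl | rfl
    · exact h1
    · exact (cen_t s W).gmul h1
  have h3 : f⁻¹ * t * f = t * φ u := by
    have := (over_inv h s hu hf).2
    rwa [inv_inv] at this
  have h4 : g * (t * φ u) = (t * φ u) * g := by
    rw [← mul_assoc, comm_t s hg, mul_assoc, cg _ ⟨u, hu, rfl⟩, ← mul_assoc]
  apply cen_of s h.CW _ ((hf.1.gmul cg).gmul hf.1.ginv)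
  calc f * g * f⁻¹ * t = f * (g * (f⁻¹ * t * f)) * f⁻¹ := by group
    _ = f * ((f⁻¹ * t * f) * g) * f⁻¹ := by rw [h3, h4]
    _ = t * (f * g * f⁻¹) := by group

/-- `P - W` is a coset of `W` -/
theorem coset {p q : A} (hp : p ∈ P) (hpW : p ∉ W) (hq : q ∈ P) (hqW : q ∉ W) : p * q ∈ W := by
  apply h.PK _ (P.mul_mem hp hq)
  rw [mul_mem_iff_of_index_two h.idx]
  exact ⟨fun h1 => absurd (h.PK p hp h1) hpW, fun h1 => absurd (h.PK q hq h1) hqW⟩

theorem exists_b [Finite A] : ∃ b ∈ P, b ∉ W := by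
  by_contra hcon
  push Not at hcon
  have h1 : Nat.card P ≤ Nat.card W := Subgroup.card_le_of_le hcon
  rw [h.cardP, h.cardW] at h1
  omega

/-- the action of an element over `u` on `b ∈ P - W` -/
theorem over_b {u : A} (hu : u ∈ W) {f : G} (hf : Over t φ W u f) {b : A} (hb : b ∈ P) (hbW : b ∉ W) :
    ∃ c ∈ W, f * φ b * f⁻¹ = φ (b * c) ∨ f * φ b * f⁻¹ = t * φ (b * c) := by
  obtain ⟨q, hq, e⟩ := over_dbl h s hu hf ((phi_mem s).2 hb)
  have hqW : q ∉ W := by
    intro hqW
    have h1 : f⁻¹ * φ q * f = φ q := by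
      rw [mul_assoc, ← hf.1 (φ q) ⟨q, hqW, rfl⟩]; group
    have h3 : f⁻¹ * t * f = t * φ u := by
      have := (over_inv h s hu hf).2
      rwa [inv_inv] at this
    rcases e with e | e
    · have h4 : φ b = φ q := by
        calc φ b = f⁻¹ * (f * φ b * f⁻¹) * f := by group
          _ = φ q := by rw [e, h1]
      exact hbW (s.inj h4 ▸ hqW)
    · have h4 : φ b = t * φ (u * q) := by
        calc φ b = f⁻¹ * (f * φ b * f⁻¹) * f := by group
          _ = (f⁻¹ * t * f) * (f⁻¹ * φ q * f) := by rw [e]; group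
          _ = t * φ (u * q) := by rw [h3, h1, map_mul, mul_assoc]
      exact phi_ne s _ _ h4
  refine ⟨b⁻¹ * q, ?_, ?_⟩
  · have h1 := coset h s (P.inv_mem hb) (fun h' => hbW (by simpa using W.inv_mem h')) hq hqW
    exact h1
  · rw [mul_inv_cancel_left]; exact e

end

end Cfsg.Agent.OddHalf.MMOut

end

-- merged: Cfsg.Agent.OddHalf.MMOut.Twist
section

/-!
# ODD half, D8, `M22` outer case: the twist (helper908)

`exists_twist`: after replacing `φ` by its twist (`φ` on `K`, `t φ` outside) the elements over `W` centralise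
`φ(P)`.
-/

set_option autoImplicit false
set_option linter.unusedSectionVars false

namespace Cfsg.Agent.OddHalf.MMOut

open Subgroup Cfsg.Agent.OddHalf.MM

variable {A G : Type*} [Group A] [Group G] {K SA V W P : Subgroup A} {z : A} {t : G} {φ : A →* G}

section

variable (h : Sheet K SA V W P z) (s : Setting t φ)
include h s

omit s in
/-- `N(W)` normalises `P` -/
theorem nrm_P {k : A} (hk : Nrm k W) : Nrm k P := by
  have key : ∀ k : A, Nrm k W → ∀ p ∈ P, k * p * k⁻¹ ∈ P := by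
    intro k hk p hp
    apply h.CW
    have : Cen p W := fun w hw => h.elP.gcomm hp (h.WP hw)
    exact this.gconj hk
  refine nrm_of_two (key k hk) ?_
  intro p hp
  have := key k⁻¹ hk.inv p hp
  rwa [inv_inv] at this

omit s in
theorem nrm_PW {k : A} (hk : Nrm k W) {b : A} (hb : b ∈ P) (hbW : b ∉ W) :
    k * b * k⁻¹ ∈ P ∧ k * b * k⁻¹ ∉ W :=
  ⟨(nrm_P h hk b).2 hb, fun h' => hbW ((hk b).1 h')⟩

/-- an element of `⟨t⟩ × P` centralises `φ(P)` -/
theorem cen_dblP {e : G} (he : e ∈ dbl s P) {p : A} (hp : p ∈ P) : e * φ p * e⁻¹ = φ p := by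
  obtain ⟨q, hq, e1⟩ := he
  rw [(conj_key s e1 p).1, h.elP.gcomm hq hp, mul_inv_cancel_right]

/-- conjugation of the action of `f` on `b` by `k ∈ N(W)` -/
theorem act_conj {u : A} {f : G} (hf : Over t φ W u f) {k : A} (hk : Nrm k W) {b : A} (hb : b ∈ P)
    (hbW : b ∉ W) {τ : G} (hτφ : ∀ a, τ * φ a = φ a * τ) {c : A} (hc : c ∈ W)
    (e : f * φ b * f⁻¹ = τ * φ (b * c)) :
    (φ k * f * (φ k)⁻¹) * φ b * (φ k * f * (φ k)⁻¹)⁻¹ = τ * φ (b * (k * c * k⁻¹)) := by
  obtain ⟨h1, h2⟩ := nrm_PW h hk.inv hb hbW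
  rw [inv_inv] at h1 h2
  -- `k⁻¹ b k = b w0`
  obtain ⟨w0, hw0, e0⟩ : ∃ w0 ∈ W, k⁻¹ * b * k = b * w0 := by
    refine ⟨b⁻¹ * (k⁻¹ * b * k), ?_, by group⟩
    exact coset h s (P.inv_mem hb) (fun h' => hbW (by simpa using W.inv_mem h')) h1 h2
  have e1 : (φ k)⁻¹ * φ b * φ k = φ (b * w0) := by
    rw [← e0]; simp
  have e2 : f * φ (b * w0) * f⁻¹ = τ * φ (b * w0 * c) := by
    calc f * φ (b * w0) * f⁻¹ = (f * φ b * f⁻¹) * (f * φ w0 * f⁻¹) := by rw [map_mul]; group
      _ = τ * φ (b * c) * φ w0 := by rw [e, hf.1 _ ⟨w0, hw0, rfl⟩, mul_inv_cancel_right]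
      _ = τ * φ (b * w0 * c) := by
        rw [mul_assoc, ← map_mul]
        congr 2
        rw [mul_assoc, mul_assoc, h.elW.gcomm hc hw0]
  have e3 : k * (b * w0 * c) * k⁻¹ = b * (k * c * k⁻¹) := by
    have : b * w0 = k⁻¹ * b * k := e0.symm
    rw [this]; group
  calc (φ k * f * (φ k)⁻¹) * φ b * (φ k * f * (φ k)⁻¹)⁻¹
      = φ k * (f * ((φ k)⁻¹ * φ b * φ k) * f⁻¹) * (φ k)⁻¹ := by group
    _ = φ k * (τ * φ (b * w0 * c)) * (φ k)⁻¹ := by rw [e1, e2]
    _ = (φ k * τ) * φ (b * w0 * c) * (φ k)⁻¹ := by group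
    _ = τ * φ (k * (b * w0 * c) * k⁻¹) := by
      rw [← hτφ k, map_mul φ (k * (b * w0 * c)) k⁻¹, map_mul φ k, map_inv]; group
    _ = _ := by rw [e3]

/-- all elements over `u` act in the same way on `φ(P)` -/
theorem act_same {u : A} {f g : G} (hf : Over t φ W u f) (hg : Over t φ W u g) {b : A} (hb : b ∈ P) :
    g * φ b * g⁻¹ = f * φ b * f⁻¹ := by
  obtain ⟨e, he, rfl⟩ := over_same h s hf hg
  calc f * e * φ b * (f * e)⁻¹ = f * (e * φ b * e⁻¹) * f⁻¹ := by group
    _ = _ := by rw [cen_dblP h s he hb]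

/-- no element over `W` maps `b` to `t b W` -/
theorem act_pos [Finite A] {u : A} (hu : u ∈ W) {f : G} (hf : Over t φ W u f) {b : A} (hb : b ∈ P)
    (hbW : b ∉ W) : ∃ c ∈ W, f * φ b * f⁻¹ = φ (b * c) := by
  by_contra hcon
  -- negative elements
  have hneg : ∃ c ∈ W, f * φ b * f⁻¹ = t * φ (b * c) := by
    obtain ⟨c, hc, e | e⟩ := over_b h s hu hf hb hbW
    · exact absurd ⟨c, hc, e⟩ hcon
    · exact ⟨c, hc, e⟩
  have u1 : u ≠ 1 := by
    rintro rfl
    apply hcon
    refine ⟨1, W.one_mem, ?_⟩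
    rw [mul_one]
    exact cen_dblP h s (over_one h s hf) hb
  -- every element over `w ≠ 1` is negative
  have hall : ∀ w ∈ W, w ≠ 1 → ∀ g, Over t φ W w g → ∃ c ∈ W, g * φ b * g⁻¹ = t * φ (b * c) := by
    intro w hw w1 g hg
    obtain ⟨k, hk, ek⟩ := h.trW u hu u1
    obtain ⟨k', hk', ek'⟩ := h.trW w hw w1
    have hkk := hk'.mul hk.inv
    have hf' := over_conj h s hkk hf
    have e1 : k' * k⁻¹ * u * (k' * k⁻¹)⁻¹ = w := by rw [← ek, ← ek']; group
    rw [e1] at hf'
    obtain ⟨c, hc, e⟩ := hneg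
    have h2 := act_conj h s hf hkk hb hbW (τ := t) (t_comm s) hc e
    rw [act_same h s hf' hg hb]
    exact ⟨_, (hkk c).2 hc, h2⟩
  -- two of them
  obtain ⟨v, hv, v1, vu⟩ : ∃ v ∈ W, v ≠ 1 ∧ v ≠ u := by
    classical
    by_contra hc
    push Not at hc
    have h1 : (W : Set A) ⊆ (({1, u} : Finset A) : Set A) := by
      intro x hx
      by_cases x1 : x = 1
      · simp [x1]
      · simp [hc x hx x1]
    have h2 := Set.ncard_le_ncard h1 (Finset.finite_toSet _)
    rw [Set.ncard_coe_finset] at h2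
    have h3 : (W : Set A).ncard = 16 := h.cardW
    have h4 : ({1, u} : Finset A).card ≤ 2 := Finset.card_le_two
    omega
  -- an element over `v`
  obtain ⟨k, hk, ek⟩ := h.trW u hu u1
  obtain ⟨k', hk', ek'⟩ := h.trW v hv v1
  have hkk := hk'.mul hk.inv
  have hg := over_conj h s hkk hf
  have e1 : k' * k⁻¹ * u * (k' * k⁻¹)⁻¹ = v := by rw [← ek, ← ek']; group
  rw [e1] at hg
  set g := φ (k' * k⁻¹) * f * (φ (k' * k⁻¹))⁻¹ with hgdef
  have uv1 : u * v ≠ 1 := by
    intro e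
    apply vu
    have := inv_eq_of_mul_eq_one_right e
    rw [h.elW.inv_eq hu] at this
    exact this.symm
  obtain ⟨c1, hc1, n1⟩ := hneg
  obtain ⟨c2, hc2, n2⟩ := hall v hv v1 g hg
  obtain ⟨c3, hc3, n3⟩ := hall (u * v) (W.mul_mem hu hv) uv1 (f * g) (over_mul h s hv hf hg)
  have e2 : f * g * φ b * (f * g)⁻¹ = φ (u * (b * c1) * c2) := by
    calc f * g * φ b * (f * g)⁻¹ = f * (g * φ b * g⁻¹) * f⁻¹ := by group
      _ = f * (t * φ (b * c2)) * f⁻¹ := by rw [n2]
      _ = (f * t * f⁻¹) * (f * φ b * f⁻¹) * (f * φ c2 * f⁻¹) := by rw [map_mul]; group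
      _ = t * φ u * (t * φ (b * c1)) * φ c2 := by
        rw [hf.2, n1, hf.1 _ ⟨c2, hc2, rfl⟩, mul_inv_cancel_right]
      _ = t * (φ u * t) * φ (b * c1) * φ c2 := by group
      _ = t * t * φ u * φ (b * c1) * φ c2 := by rw [s.comm]; group
      _ = φ (u * (b * c1) * c2) := by rw [s.tt, one_mul, map_mul φ (u * (b * c1)), map_mul φ u]
  rw [e2] at n3
  exact phi_ne s _ _ n3

/-- the two possible actions -/
theorem act_cases [Finite A] {y : G} (hy : Over t φ W z y) {b : A} (hb : b ∈ P) (hbW : b ∉ W) :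
    (∀ u ∈ W, ∀ f, Over t φ W u f → f * φ b * f⁻¹ = φ b) ∨
      (∀ u ∈ W, ∀ f, Over t φ W u f → f * φ b * f⁻¹ = φ (b * u)) := by
  obtain ⟨c, hc, e⟩ := act_pos h s h.zW hy hb hbW
  have hconj : ∀ k : A, Nrm k W →
      (φ k * y * (φ k)⁻¹) * φ b * (φ k * y * (φ k)⁻¹)⁻¹ = φ (b * (k * c * k⁻¹)) := by
    intro k hk
    have := act_conj h s hy hk hb hbW (τ := 1) (fun a => by group) hc
      (by rw [e, one_mul])
    rwa [one_mul] at this
  have hcz : c = 1 ∨ c = z := by
    apply h.stab c hc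
    intro k hk hkz
    have h1 := over_conj h s hk hy
    rw [hkz, mul_inv_cancel_right] at h1
    have h2 := act_same h s hy h1 hb
    rw [hconj k hk, e] at h2
    have h3 := mul_left_cancel (s.inj h2)
    calc k * c = k * c * k⁻¹ * k := by group
      _ = c * k := by rw [h3]
  have hgen : ∀ u ∈ W, u ≠ 1 → ∀ f, Over t φ W u f →
      ∃ k : A, k * z * k⁻¹ = u ∧ f * φ b * f⁻¹ = φ (b * (k * c * k⁻¹)) := by
    intro u hu u1 f hf
    obtain ⟨k, hk, ek⟩ := h.trW u hu u1
    have h1 := over_conj h s hk hy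
    rw [ek] at h1
    exact ⟨k, ek, by rw [act_same h s h1 hf hb, hconj k hk]⟩
  rcases hcz with rfl | rfl
  · left
    intro u hu f hf
    by_cases u1 : u = 1
    · subst u1
      exact cen_dblP h s (over_one h s hf) hb
    · obtain ⟨k, -, e1⟩ := hgen u hu u1 f hf
      rw [e1]; simp
  · right
    intro u hu f hf
    by_cases u1 : u = 1
    · subst u1
      rw [mul_one]
      exact cen_dblP h s (over_one h s hf) hb
    · obtain ⟨k, ek, e1⟩ := hgen u hu u1 f hf
      rw [e1, ek]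

end

open Classical in
/-- the twist of `φ` -/
noncomputable def twist (s : Setting t φ) (hK : K.index = 2) : A →* G where
  toFun a := if a ∈ K then φ a else t * φ a
  map_one' := by rw [if_pos K.one_mem, map_one]
  map_mul' a b := by
    have h1 := mul_mem_iff_of_index_two hK (a := a) (b := b)
    by_cases ha : a ∈ K <;> by_cases hb : b ∈ K
    · rw [if_pos ha, if_pos hb, if_pos (h1.2 (by tauto)), map_mul]
    · rw [if_pos ha, if_neg hb, if_neg (by tauto), map_mul, ← mul_assoc, t_comm s, mul_assoc]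
    · rw [if_neg ha, if_pos hb, if_neg (by tauto), map_mul, mul_assoc]
    · rw [if_neg ha, if_neg hb, if_pos (h1.2 (by tauto)), map_mul]
      calc φ a * φ b = t * (t * (φ a * φ b)) := by rw [tt_mul s]
        _ = t * (t * φ a) * φ b := by group
        _ = t * (φ a * t) * φ b := by rw [t_comm s]
        _ = t * φ a * (t * φ b) := by group

theorem twist_pos (s : Setting t φ) (hK : K.index = 2) {a : A} (ha : a ∈ K) :
    twist s hK a = φ a := if_pos ha

theorem twist_neg (s : Setting t φ) (hK : K.index = 2) {a : A} (ha : a ∉ K) :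
    twist s hK a = t * φ a := if_neg ha

theorem twist_cases (s : Setting t φ) (hK : K.index = 2) (a : A) :
    twist s hK a = φ a ∨ twist s hK a = t * φ a := by
  by_cases ha : a ∈ K
  · exact Or.inl (twist_pos s hK ha)
  · exact Or.inr (twist_neg s hK ha)

theorem twist_cases' (s : Setting t φ) (hK : K.index = 2) (a : A) {g : G}
    (hg : g = φ a ∨ g = t * φ a) : g = twist s hK a ∨ g = t * twist s hK a := by
  rcases twist_cases s hK a with e | e <;> rcases hg with rfl | rfl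
  · exact Or.inl e.symm
  · exact Or.inr (by rw [e])
  · exact Or.inr (by rw [e, tt_mul s])
  · exact Or.inl e.symm

theorem twist_setting (s : Setting t φ) (hK : K.index = 2) : Setting t (twist s hK) where
  tt := s.tt
  t1 := s.t1
  inj := by
    intro a b hab
    rcases twist_cases s hK a with e | e <;> rcases twist_cases s hK b with e' | e' <;>
      rw [e, e'] at hab
    · exact s.inj hab
    · exact absurd hab (phi_ne s a b)
    · exact absurd hab.symm (phi_ne s b a)
    · exact s.inj (mul_left_cancel hab)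
  comm := by
    intro a
    rcases twist_cases s hK a with e | e <;> rw [e]
    · exact s.comm a
    · rw [mul_assoc, s.comm]
  tK := by
    intro a
    rcases twist_cases s hK a with e | e <;> rw [e]
    · exact s.tK a
    · intro e'
      have h1 : φ a = 1 := by
        have := mul_left_cancel (a := t) (b := φ a) (c := 1) (by rw [e', mul_one])
        exact this
      have h2 : a = 1 := s.inj (by rw [h1, map_one])
      subst h2
      rw [twist_pos s hK K.one_mem, h1, mul_one] at e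
      exact s.t1 e.symm
  cent := by
    intro g hg
    obtain ⟨k, hk⟩ := s.cent g hg
    exact ⟨k, twist_cases' s hK k hk⟩

theorem twist_dbl (s : Setting t φ) (hK : K.index = 2) (H : Subgroup A) :
    dbl (twist_setting s hK) H = dbl s H := by
  ext g
  constructor
  · rintro ⟨a, ha, e⟩
    refine ⟨a, ha, ?_⟩
    rcases twist_cases s hK a with e1 | e1 <;> rw [e1] at e
    · exact e
    · rcases e with rfl | rfl
      · exact Or.inr rfl
      · exact Or.inl (tt_mul s _)
  · rintro ⟨a, ha, e⟩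
    exact ⟨a, ha, twist_cases' s hK a e⟩

theorem twist_map (s : Setting t φ) (hK : K.index = 2) {H : Subgroup A} (hH : H ≤ K) :
    H.map (twist s hK) = H.map φ := by
  ext g
  constructor
  · rintro ⟨a, ha, rfl⟩
    exact ⟨a, ha, (twist_pos s hK (hH ha)).symm⟩
  · rintro ⟨a, ha, rfl⟩
    exact ⟨a, ha, twist_pos s hK (hH ha)⟩

theorem twist_swap (h : Sheet K SA V W P z) (s : Setting t φ) {x : G} (hx : Swap SA z s x) :
    Swap SA z (twist_setting s h.idx) x where
  xT := by rw [twist_dbl]; exact hx.xT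
  xt := by rw [twist_pos s h.idx h.zK]; exact hx.xt
  xz := by rw [twist_pos s h.idx h.zK]; exact hx.xz
  nz := by rw [twist_pos s h.idx h.zK]; exact hx.nz

theorem twist_over (h : Sheet K SA V W P z) (s : Setting t φ) {u : A} (hu : u ∈ W) {f : G} :
    Over t (twist s h.idx) W u f ↔ Over t φ W u f := by
  unfold Over
  rw [twist_map s h.idx h.WK, twist_pos s h.idx (h.WK hu)]

/-- **the choice of the complement**: the elements over `W` centralise `φ'(P)` -/
theorem exists_twist [Finite A] [Finite G] (h : Sheet K SA V W P z) (s : Setting t φ) {x : G}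
    (hx : Swap SA z s x) : ∃ φ' : A →* G, ∃ s' : Setting t φ', Swap SA z s' x ∧
      ∀ u ∈ W, ∀ f, Over t φ' W u f → Cen f (P.map φ') := by
  obtain ⟨y, yy, yV, yW, yt⟩ := exists_y h s hx
  obtain ⟨b, hb, hbW⟩ := exists_b h s
  have hbK : b ∉ K := fun h' => hbW (h.PK b hb h')
  have hPc : ∀ p ∈ P, p ∈ W ∨ ∃ w ∈ W, p = b * w := by
    intro p hp
    by_cases hpW : p ∈ W
    · exact Or.inl hpW
    · exact Or.inr ⟨b⁻¹ * p, coset h s (P.inv_mem hb)
        (fun h' => hbW (by simpa using W.inv_mem h')) hp hpW, by group⟩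
  rcases act_cases h s ⟨yW, yt⟩ hb hbW with h1 | h1
  · refine ⟨φ, s, hx, ?_⟩
    rintro u hu f hf _ ⟨p, hp, rfl⟩
    have hfb : f * φ b = φ b * f := by
      have := h1 u hu f hf
      rwa [mul_inv_eq_iff_eq_mul] at this
    rcases hPc p hp with hp | ⟨w, hw, rfl⟩
    · exact hf.1 _ ⟨p, hp, rfl⟩
    · rw [map_mul, ← mul_assoc, hfb, mul_assoc, hf.1 _ ⟨w, hw, rfl⟩, mul_assoc]
  · refine ⟨twist s h.idx, twist_setting s h.idx, twist_swap h s hx, ?_⟩
    rintro u hu f hf _ ⟨p, hp, rfl⟩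
    have hf' := (twist_over h s hu).1 hf
    have hfb : f * (t * φ b) = (t * φ b) * f := by
      have h2 := h1 u hu f hf'
      have h3 : f * (t * φ b) * f⁻¹ = t * φ b := by
        calc f * (t * φ b) * f⁻¹ = (f * t * f⁻¹) * (f * φ b * f⁻¹) := by group
          _ = t * (φ u * φ (b * u)) := by rw [hf'.2, h2, mul_assoc]
          _ = t * φ b := by
            rw [← map_mul]
            congr 2
            rw [h.elP.gcomm hb (h.WP hu), ← mul_assoc, h.elW u hu, one_mul]
      rwa [mul_inv_eq_iff_eq_mul] at h3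
    have hfw : ∀ w ∈ W, f * φ w = φ w * f := fun w hw => hf'.1 _ ⟨w, hw, rfl⟩
    rcases hPc p hp with hp | ⟨w, hw, rfl⟩
    · rw [twist_pos s h.idx (h.WK hp)]
      exact hfw p hp
    · rw [map_mul, twist_neg s h.idx hbK, twist_pos s h.idx (h.WK hw), ← mul_assoc, hfb,
        mul_assoc (t * φ b) f, hfw w hw]
      group

end Cfsg.Agent.OddHalf.MMOut

end

-- merged: Cfsg.Agent.OddHalf.MMOut.Pat
section

/-!
# ODD half, D8, `M22` outer case: the conjugates of `t` in `⟨t⟩ × P` and the layer over `W` (helper908)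
-/

set_option autoImplicit false
set_option linter.unusedSectionVars false

namespace Cfsg.Agent.OddHalf.MMOut

open Subgroup Cfsg.Agent.OddHalf.MM

variable {A G : Type*} [Group A] [Group G] {K SA V W P : Subgroup A} {z : A} {t : G} {φ : A →* G}

section

variable (h : Sheet K SA V W P z) (s : Setting t φ)
include h s

/-- the group of all elements over `W` -/
def F3 : Subgroup G where
  carrier := {f | ∃ u ∈ W, Over t φ W u f}
  one_mem' := ⟨1, W.one_mem, Cen.one _, by rw [map_one]; group⟩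
  mul_mem' := by
    rintro f g ⟨u, hu, hf⟩ ⟨v, hv, hg⟩
    exact ⟨u * v, W.mul_mem hu hv, over_mul h s hv hf hg⟩
  inv_mem' := by
    rintro f ⟨u, hu, hf⟩
    exact ⟨u, hu, over_inv h s hu hf⟩

theorem card_F3 [Finite A] (hex : ∀ w ∈ W, ∃ y, Over t φ W w y) : Nat.card (F3 h s) = 1024 := by
  have h1 : F3 h s ≤ NN t (W.map φ) := by
    rintro f ⟨u, hu, hf⟩
    refine ⟨?_, φ u, ⟨u, hu, rfl⟩, hf.2⟩
    refine nrm_of_two ?_ ?_
    · intro w hw
      rw [hf.1 w hw, mul_inv_cancel_right]; exact hw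
    · intro w hw
      rw [mul_assoc, ← hf.1 w hw, inv_mul_cancel_left]; exact hw
  have h2 := card_trans h1 (by
    rintro _ ⟨w, hw, rfl⟩
    obtain ⟨y, hy⟩ := hex w hw
    exact ⟨y, ⟨w, hw, hy⟩, hy.2⟩)
  have h3 : Nat.card {n : F3 h s // (n : G) * t = t * n} = 64 := by
    have h4 : Nat.card (dbl s P) = 64 := by rw [card_dbl, h.cardP]
    rw [← h4]
    refine Nat.card_congr (Equiv.ofBijective
      (fun n => (⟨((n : F3 h s) : G), ?_⟩ : dbl s P)) ⟨?_, ?_⟩)
    · obtain ⟨u, hu, hf⟩ := (n : F3 h s).2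
      exact cen_of s h.CW n.2 hf.1
    · intro a b hab
      exact Subtype.ext (Subtype.ext (congrArg (fun x : dbl s P => (x : G)) hab))
    · rintro ⟨g, hg⟩
      refine ⟨⟨⟨g, 1, W.one_mem, ?_, ?_⟩, comm_t s hg⟩, rfl⟩
      · rintro _ ⟨w, hw, rfl⟩
        have := cen_dblP h s hg (h.WP hw)
        rwa [mul_inv_eq_iff_eq_mul] at this
      · rw [comm_t s hg, map_one]; group
  rw [h2, h3, card_map_of_injective s.inj, h.cardW]

/-- `512` does not divide `|A|` -/
theorem not_dvd [Finite A] : ¬ 512 ∣ Nat.card A := by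
  intro hd
  have : Fact (Nat.Prime 2) := ⟨Nat.prime_two⟩
  obtain ⟨Q, hQ, hle⟩ := Sylow.exists_subgroup_card_pow_prime_le (G := A) (p := 2) (n := 8) (m := 9)
    (by norm_num; exact hd) SA (by rw [h.cardSA]; norm_num) (by norm_num)
  have h1 := h.max Q (IsPGroup.iff_card.2 ⟨9, hQ⟩) hle
  rw [h1, h.cardSA] at hQ
  norm_num at hQ

/-- **no conjugate of `t` in `φ(P)`** -/
theorem not_D_P [Finite A] [Finite G] (nz : ∀ g, g * t * g⁻¹ ≠ φ z)
    (hex : ∀ w ∈ W, ∃ y, Over t φ W w y)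
    (hc : ∀ u ∈ W, ∀ f, Over t φ W u f → Cen f (P.map φ)) :
    ∀ p ∈ P, ∀ g, g * t * g⁻¹ ≠ φ p := by
  intro p hp g e
  by_cases hpW : p ∈ W
  · exact not_D h s nz (h.WK hpW) (h.elW p hpW) g e
  apply not_dvd h s
  -- `g⁻¹ F3 g ≤ C(t)`
  have h1 : (F3 h s).map (MulAut.conj g⁻¹).toMonoidHom ≤ dbl s ⊤ := by
    rintro _ ⟨f, ⟨u, hu, hf⟩, rfl⟩
    rw [mem_dbl_top s]
    have h2 := hc u hu f hf (φ p) ⟨p, hp, rfl⟩
    have ht : t = g⁻¹ * φ p * g := by rw [← e]; group
    show (g⁻¹ * f * g⁻¹⁻¹) * t = t * (g⁻¹ * f * g⁻¹⁻¹)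
    rw [ht]
    calc g⁻¹ * f * g⁻¹⁻¹ * (g⁻¹ * φ p * g) = g⁻¹ * (f * φ p) * g := by group
      _ = g⁻¹ * (φ p * f) * g := by rw [h2]
      _ = _ := by group
  have h2 := Subgroup.card_dvd_of_le h1
  rw [card_map_of_injective (MulAut.conj g⁻¹).injective, card_F3 h s hex, card_dbl,
    Nat.card_congr (Subgroup.topEquiv (G := A)).toEquiv] at h2
  have h3 : 2 * 512 ∣ 2 * Nat.card A := h2
  exact Nat.dvd_of_mul_dvd_mul_left (by norm_num) h3

/-- **the two patterns** -/
theorem pattern {x : G} (hx : Swap SA z s x) (hex : ∀ w ∈ W, ∃ y, Over t φ W w y)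
    (hc : ∀ u ∈ W, ∀ f, Over t φ W u f → Cen f (P.map φ)) :
    (∀ p ∈ P, p ∉ W → ∀ g, g * t * g⁻¹ ≠ t * φ p) ∨ (∀ p ∈ P, ∃ g, g * t * g⁻¹ = t * φ p) := by
  by_contra hcon
  push Not at hcon
  obtain ⟨⟨p, hp, hpW, g, hg⟩, q, hq, hq'⟩ := hcon
  by_cases hqW : q ∈ W
  · obtain ⟨k, hk⟩ := D_tK h s hx (h.WK hqW) (h.elW q hqW)
    exact hq' k hk
  · have hpq := coset h s hp hpW hq hqW
    obtain ⟨f, hf⟩ := hex (p * q) hpq
    apply hq' (f * g)
    have h1 := hc _ hpq f hf (φ p) ⟨p, hp, rfl⟩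
    calc f * g * t * (f * g)⁻¹ = f * (g * t * g⁻¹) * f⁻¹ := by group
      _ = (f * t * f⁻¹) * (f * φ p * f⁻¹) := by rw [hg]; group
      _ = t * φ (p * q) * φ p := by rw [hf.2, h1, mul_inv_cancel_right]
      _ = t * φ q := by
        rw [mul_assoc, ← map_mul]
        congr 2
        rw [h.elP.gcomm hp hq, mul_assoc, h.elP p hp, mul_one]

/-- **the layer data over `W ≤ P`** -/
theorem lay_W [Finite A] [Finite G] {x : G} (hx : Swap SA z s x)
    (hc : ∀ u ∈ W, ∀ f, Over t φ W u f → Cen f (P.map φ)) : Lay t (W.map φ) (P.map φ) := by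
  obtain ⟨y, yy, yV, yW, yt⟩ := exists_y h s hx
  obtain ⟨u, hu, v, hv, u1, v1, huv, a, c, ha, aa, hcv, cc, hac⟩ := good_pair h s yy yV yW yt
  have n1 : ∀ {a : A}, a ≠ 1 → φ a ≠ 1 := fun h1 e => h1 (s.inj (by rw [e, map_one]))
  exact
    { tt := s.tt
      el := el_map s h.elP
      XZ := map_mono h.WP
      comm := by
        rintro _ ⟨p, -, rfl⟩
        exact s.comm p
      tZ := by
        rintro ⟨p, -, e⟩
        exact s.tK p e
      cent := by
        intro g hg hgc
        obtain ⟨p, hp, e⟩ := cen_of s h.CW hg (fun w hw => hgc w (map_mono h.WP hw))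
        exact ⟨φ p, ⟨p, hp, rfl⟩, e⟩
      ex := by
        rintro _ ⟨w, hw, rfl⟩
        obtain ⟨f, hf, ff⟩ := lift_W h s yy yW yt w hw
        exact ⟨f, hc w hw f hf, hf.2, ff⟩
      card := by
        rw [card_map_of_injective s.inj, h.cardW]; norm_num
      good := ⟨φ u, ⟨u, hu, rfl⟩, φ v, ⟨v, hv, rfl⟩, n1 u1, n1 v1, fun e => huv (s.inj e), a, c,
        hc u hu a ha, ha.2, aa, hc v hv c hcv, hcv.2, cc, hac⟩ }

end

end Cfsg.Agent.OddHalf.MMOut

end

-- merged: Cfsg.Agent.OddHalf.MMOut.EndFin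
section

/-!
# ODD half, D8, `M22`, outer case: the end, second part (helper244, text of helper908 [VI])

`Y` = the image of `N(M)` in `Aut(M)`. `C_Y(t) = ⟨t⟩ × S5`, `t^Y ∩ C_Y(t) = t(1 ∪ I(S5))`; TOOL 3 gives
`t ∉ Y'`; the transfer into `N(M)` gives `t ∈ N(M)'` if `G` is perfect.
-/

set_option autoImplicit false

namespace Cfsg.Agent.OddHalf.MMOut

open MM SFive FI Subgroup

variable {G : Type*} [Group G]

namespace EndSheet

theorem mem_nor {M : Subgroup G} {g : G} : g ∈ normalizer (M : Set G) ↔ Nrm g M := by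
  rw [mem_normalizer_iff]
  constructor <;> intro h x <;> exact (h x).symm

theorem cj_of_nrm {M : Subgroup G} {g : G} (h : Nrm g M) : cj g M = M := by
  ext x
  rw [mem_cj, ← h (g⁻¹ * x * g)]
  have e : g * (g⁻¹ * x * g) * g⁻¹ = x := by group
  rw [e]

/-- the image of `N(M)` in `Aut M` -/
abbrev Ya (M : Subgroup G) := (M.normalizerMonoidHom).range

def ps (M : Subgroup G) : normalizer (M : Set G) →* Ya M := (M.normalizerMonoidHom).rangeRestrict

theorem ps_surj (M : Subgroup G) : Function.Surjective (ps M) :=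
  (M.normalizerMonoidHom).rangeRestrict_surjective

theorem ps_eq {M : Subgroup G} {a b : normalizer (M : Set G)} : ps M a = ps M b ↔
    ∀ m ∈ M, (a : G) * m * (a : G)⁻¹ = b * m * (b : G)⁻¹ := by
  constructor
  · intro h m hm
    have h1 := congrArg Subtype.val h
    have h2 := congrArg (fun f : MulAut M => ((f ⟨m, hm⟩ : M) : G)) h1
    exact h2
  · intro h
    apply Subtype.ext
    apply MulEquiv.ext
    intro m
    apply Subtype.ext
    exact h m m.2

theorem ps_one {M : Subgroup G} {a : normalizer (M : Set G)} : ps M a = 1 ↔ Cen (a : G) M := by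
  rw [← map_one (ps M), ps_eq]
  constructor
  · intro h m hm
    have h1 := h m hm
    rw [OneMemClass.coe_one, one_mul, inv_one, mul_one] at h1
    calc (a : G) * m = a * m * (a : G)⁻¹ * a := by group
      _ = m * a := by rw [h1]
  · intro h m hm
    rw [OneMemClass.coe_one, one_mul, inv_one, mul_one, h m hm, mul_inv_cancel_right]

variable [Finite G] {t : G} {X Z N M : Subgroup G} {π : N →* S5}

theorem tNor (h : EndSheet t X Z N M π) : t ∈ normalizer (M : Set G) := mem_nor.2 h.tM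

theorem nNor (h : EndSheet t X Z N M π) : N ≤ normalizer (M : Set G) :=
  fun _ hn => mem_nor.2 (nrm_of_cj (h.NM hn))

theorem exists_theta (h : EndSheet t X Z N M π) : ∃ θ : S5 →* Ya M,
    ∀ n : N, θ (π n) = ps M ⟨n, h.nNor n.2⟩ := by
  let κ : N →* Ya M := (ps M).comp (Subgroup.inclusion h.nNor)
  have hk : π.ker ≤ κ.ker := by
    intro n hn
    rw [MonoidHom.mem_ker] at hn ⊢
    have h1 := (h.ker n).1 hn
    show ps M ⟨n, h.nNor n.2⟩ = 1
    rw [ps_one]
    intro m hm
    exact elc h.elM (h.ZM h1) hm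
  refine ⟨MonoidHom.liftOfSurjective π h.surj ⟨κ, hk⟩, fun n => ?_⟩
  exact MonoidHom.liftOfRightInverse_comp_apply π _ _ ⟨κ, hk⟩ n

theorem hyp (h : EndSheet t X Z N M π) {θ : S5 →* Ya M}
    (hθ : ∀ n : N, θ (π n) = ps M ⟨n, h.nNor n.2⟩) :
    ToolThree.Hyp (ps M ⟨t, h.tNor⟩) θ := by
  have hinj : Function.Injective θ := by
    rw [injective_iff_map_eq_one]
    intro p hp
    obtain ⟨n, rfl⟩ := h.surj p
    rw [hθ, ps_one] at hp
    exact (h.ker n).2 (h.CZ n n.2 (h.cenZ hp))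
  have htt : ps M ⟨t, h.tNor⟩ * ps M ⟨t, h.tNor⟩ = 1 := by
    rw [← map_mul, ← map_one (ps M)]
    exact congrArg _ (Subtype.ext h.tt)
  refine ⟨htt, hinj, ?_, ?_, ?_, ?_, ?_⟩
  · intro p
    obtain ⟨n, rfl⟩ := h.surj p
    rw [hθ, ← map_mul, ← map_mul]
    exact congrArg _ (Subtype.ext (h.cN n n.2))
  · intro p hp
    obtain ⟨n, rfl⟩ := h.surj p
    rw [hθ, ps_eq] at hp
    change ∀ m ∈ M, t * m * t⁻¹ = (n : G) * m * (n : G)⁻¹ at hp
    have h1 : Cen (n : G) Z := by
      intro z hz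
      have h2 := hp z (h.ZM hz)
      have h3 : t * z * t⁻¹ = z := by rw [← h.cZ z hz, mul_inv_cancel_right]
      rw [h3] at h2
      calc (n : G) * z = (n : G) * z * (n : G)⁻¹ * n := by group
        _ = z * n := by rw [← h2]
    have h4 := h.CZ n n.2 h1
    apply h.t_not_cen
    intro m hm
    have h5 := hp m hm
    rw [elc h.elM (h.ZM h4) hm, mul_inv_cancel_right] at h5
    calc t * m = t * m * t⁻¹ * t := by group
      _ = m * t := by rw [h5]
  · intro y hy
    obtain ⟨g, rfl⟩ := ps_surj M y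
    have hg : ps M (g * ⟨t, h.tNor⟩ * g⁻¹) = ps M ⟨t, h.tNor⟩ := by
      rw [map_mul, map_mul, map_inv, hy, mul_inv_cancel_right]
    rw [ps_eq] at hg
    obtain ⟨c, hc, hct⟩ := h.lift_cent (g := (g : G)) hg
    have hcN : Nrm c M := by
      intro m
      constructor
      · intro hm
        have h1 := hc _ hm
        have h2 : c * (c * m * c⁻¹) = c * m := by rw [h1]; group
        rw [← mul_left_cancel h2]; exact hm
      · intro hm
        rw [hc m hm, mul_inv_cancel_right]; exact hm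
    have hcn : c ∈ normalizer (M : Set G) := mem_nor.2 hcN
    have hcg : c * (g : G) ∈ normalizer (M : Set G) := mul_mem hcn g.2
    have hcgM := mem_nor.1 hcg
    have hZ : ∀ x, x ∈ Z ↔ x ∈ M ∧ x * t = t * x :=
      fun x => ⟨fun hx => ⟨h.ZM hx, h.cZ x hx⟩, fun hx => h.fix x hx.1 hx.2⟩
    have e1 : (c * (g : G))⁻¹ * t * (c * g) = t := by
      rw [mul_assoc, ← hct]; group
    have hcgZ : Nrm (c * (g : G)) Z := by
      intro x
      rw [hZ, hZ, hcgM x]
      refine and_congr_right fun _ => ?_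
      constructor
      · intro h1
        calc x * t = (c * (g : G))⁻¹ * ((c * g) * x * (c * g)⁻¹ * ((c * g) * t)) := by group
          _ = (c * (g : G))⁻¹ * ((c * g) * x * (c * g)⁻¹ * (t * (c * g))) := by rw [hct]
          _ = (c * (g : G))⁻¹ * ((c * g) * x * (c * g)⁻¹ * t) * (c * g) := by group
          _ = (c * (g : G))⁻¹ * (t * ((c * g) * x * (c * g)⁻¹)) * (c * g) := by rw [h1]
          _ = ((c * (g : G))⁻¹ * t * (c * g)) * x := by group
          _ = t * x := by rw [e1]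
      · intro h1
        calc (c * (g : G)) * x * (c * g)⁻¹ * t
            = (c * (g : G)) * x * ((c * g)⁻¹ * t * (c * g)) * (c * g)⁻¹ := by group
          _ = (c * (g : G)) * (x * t) * (c * g)⁻¹ := by rw [e1]; group
          _ = (c * (g : G)) * (t * x) * (c * g)⁻¹ := by rw [h1]
          _ = ((c * (g : G)) * t) * x * (c * g)⁻¹ := by group
          _ = t * ((c * (g : G)) * x * (c * g)⁻¹) := by rw [hct]; group
    have hpc : ps M ⟨c, hcn⟩ = 1 := ps_one.2 hc
    have hpg : ps M g = ps M ⟨c * g, hcg⟩ := by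
      have : (⟨c * g, hcg⟩ : normalizer (M : Set G)) = ⟨c, hcn⟩ * g := rfl
      rw [this, map_mul, hpc, one_mul]
    rcases h.nZ _ hct hcgZ with h1 | h1
    · exact ⟨π ⟨_, h1⟩, Or.inl (by rw [hθ, hpg])⟩
    · refine ⟨π ⟨_, h1⟩, Or.inr ?_⟩
      rw [hθ, hpg, ← map_mul]
      congr 1
      apply Subtype.ext
      show c * (g : G) = t * (t * (c * g))
      rw [← mul_assoc, h.tt, one_mul]
  · intro p hp
    by_cases hp1 : p = 1
    · rw [hp1, map_one, mul_one]
    · obtain ⟨w, hw, ww, ⟨g, hg⟩, -⟩ := h.lift p hp hp1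
      have hN : t * (w : G) ∈ normalizer (M : Set G) := mul_mem h.tNor (h.nNor w.2)
      obtain ⟨k, hk, hkt⟩ := h.conj_NM hg (mem_nor.1 hN)
      rw [isConj_iff]
      refine ⟨ps M ⟨k, mem_nor.2 (nrm_of_cj hk)⟩, ?_⟩
      rw [← hw, hθ, ← map_inv, ← map_mul, ← map_mul, ← map_mul]
      exact congrArg _ (Subtype.ext hkt)
  · intro p hp
    obtain ⟨y, hy⟩ := isConj_iff.1 hp
    obtain ⟨g, rfl⟩ := ps_surj M y
    have hpp : p * p = 1 := by
      apply hinj
      rw [map_mul, map_one, ← hy]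
      calc ps M g * ps M ⟨t, h.tNor⟩ * (ps M g)⁻¹ * (ps M g * ps M ⟨t, h.tNor⟩ * (ps M g)⁻¹)
          = ps M g * (ps M ⟨t, h.tNor⟩ * ps M ⟨t, h.tNor⟩) * (ps M g)⁻¹ := by group
        _ = 1 := by rw [htt]; group
    by_cases hp1 : p = 1
    · rw [hp1, map_one] at hy
      have h1 : ps M ⟨t, h.tNor⟩ = 1 := by
        calc ps M ⟨t, h.tNor⟩ = (ps M g)⁻¹ * (ps M g * ps M ⟨t, h.tNor⟩ * (ps M g)⁻¹) * ps M g := by
              group
          _ = 1 := by rw [hy]; group
      exact h.t_not_cen (ps_one.1 h1)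
    · obtain ⟨w, hw, ww, -, hb⟩ := h.lift p hpp hp1
      rw [← hw, hθ, ← map_inv, ← map_mul, ← map_mul, ps_eq] at hy
      exact h.not_conj w.2 ww hb (cj_of_nrm (mem_nor.1 g.2)) hy

/-- **the end** -/
theorem false (h : EndSheet t X Z N M π) (hG : commutator G = ⊤) : False := by
  obtain ⟨θ, hθ⟩ := h.exists_theta
  have h1 := ToolThree.notMem (h.hyp hθ)
  have hTM : TA h.tt h.cN π ≤ normalizer (M : Set G) := by
    intro x hx
    obtain ⟨n, -, rfl | rfl⟩ := h.mem_TA.1 hx
    · exact h.nNor n.2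
    · exact mul_mem h.tNor (h.nNor n.2)
  have h2 := TransferM.mem_commutator hG M t h.tt (TA h.tt h.cN π) h.TA_two
    (fun x hx => h.TA_cent hx) h.t_mem_TA hTM
    (fun g hg => h.unique (k := g) (fun x hx => mem_nor.1 (hg hx)))
  apply h1
  have h3 := Abelianization.commutator_subset_ker (Abelianization.of.comp (ps M)) h2
  rw [MonoidHom.mem_ker, MonoidHom.comp_apply, ← MonoidHom.mem_ker, Abelianization.ker_of] at h3
  exact h3

end EndSheet

end Cfsg.Agent.OddHalf.MMOut

end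

-- merged: Cfsg.Agent.OddHalf.MMOut.EndFill
section

/-!
# ODD half, D8, `M22`, outer case: the end from the layers (helper244)

`kill`: `G` is not perfect if `C_G(t) = ⟨t⟩ × φ(A)`, `A` with the K-facts `Sheet`, the swap, no conjugate of
`t` in `φ(P)` and the growth data `Lay t (φ W) (φ P)`.
-/

set_option autoImplicit false
set_option linter.unusedSectionVars false

namespace Cfsg.Agent.OddHalf.MMOut.Fill

open Subgroup Cfsg.Agent.OddHalf.MM Cfsg.Agent.OddHalf.MMOut SFive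

variable {A G : Type*} [Group A] [Group G] {K SA V W P : Subgroup A} {z : A} {t : G} {φ : A →* G}

/-! ### in `A` -/

section K

variable (h : Sheet K SA V W P z)
include h

theorem memP {a : A} : a ∈ P ↔ Cen a W :=
  ⟨fun ha w hw => h.elP.comm ha (h.WP hw), h.CW a⟩

theorem nrmP {a : A} (ha : Nrm a W) : Nrm a P := by
  apply nrm_of_two
  · intro x hx
    rw [memP h] at hx ⊢
    exact hx.gconj ha
  · intro x hx
    rw [memP h] at hx ⊢
    have := hx.gconj ha.inv
    rwa [inv_inv] at this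

theorem normalK : K.Normal := normal_of_index_eq_two h.idx

theorem nrmW {a : A} (ha : Nrm a P) : Nrm a W := by
  have hK := normalK h
  apply nrm_of_two
  · intro x hx
    exact h.PK _ ((ha x).2 (h.WP hx)) (hK.conj_mem _ (h.WK hx) a)
  · intro x hx
    apply h.PK _ (ha.gconj' (h.WP hx))
    have := hK.conj_mem _ (h.WK hx) a⁻¹
    rwa [inv_inv] at this

theorem P_nor : P ≤ normalizer (W : Set A) := by
  intro p hp
  rw [EndSheet.mem_nor]
  intro x
  have hc := (memP h).1 hp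
  constructor
  · intro hx
    have h1 := hc _ hx
    have h2 : p * (p * x * p⁻¹) = p * x := by rw [h1]; group
    rw [← mul_left_cancel h2]; exact hx
  · intro hx
    rw [hc x hx, mul_inv_cancel_right]; exact hx

variable [Finite A]

/-- `SA` as a Sylow subgroup -/
def syl : Sylow 2 A := ⟨SA, h.two, fun {Q} hQ hle => h.max Q hQ hle⟩

theorem index_odd : ¬ 2 ∣ SA.index := by
  have hf : Fact (Nat.Prime 2) := ⟨Nat.prime_two⟩
  exact (syl h).not_dvd_index

/-- 2-subgroups of `A` are conjugate into `SA` -/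
theorem conj_SA {Q : Subgroup A} (hQ : IsPGroup 2 Q) :
    ∃ a : A, ∀ x ∈ Q, a * x * a⁻¹ ∈ SA := by
  have hf : Fact (Nat.Prime 2) := ⟨Nat.prime_two⟩
  obtain ⟨S, hS⟩ := hQ.exists_le_sylow
  obtain ⟨a, ha⟩ := MulAction.exists_smul_eq A S (syl h)
  refine ⟨a, fun x hx => ?_⟩
  show a * x * a⁻¹ ∈ ((syl h : Sylow 2 A) : Subgroup A)
  rw [← ha, Sylow.coe_subgroup_smul]
  exact Subgroup.smul_mem_pointwise_smul _ (MulAut.conj a) _ (hS hx)

/-- the 2-rank of `A` -/
theorem rankA {E : Subgroup A} (el : El E) : Nat.card E ≤ 32 := by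
  by_contra hlt
  push Not at hlt
  obtain ⟨a, ha⟩ := conj_SA h (EndSheet.el_two el)
  have h1 := h.el32 (E.map (MulAut.conj a).toMonoidHom) (by
    rintro _ ⟨x, hx, rfl⟩
    exact ha x hx) (by
    rintro _ ⟨x, hx, rfl⟩
    show a * x * a⁻¹ * (a * x * a⁻¹) = 1
    calc a * x * a⁻¹ * (a * x * a⁻¹) = a * (x * x) * a⁻¹ := by group
      _ = 1 := by rw [el x hx]; group) (by
    rw [Subgroup.card_map_of_injective (MulAut.conj a).injective]
    omega)
  have h2 : Nat.card (E.map (MulAut.conj a).toMonoidHom) = Nat.card E :=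
    Subgroup.card_map_of_injective (MulAut.conj a).injective
  rw [h1, h.cardP] at h2
  omega

/-- the group `ρ⁻¹(D8)` -/
def R (ρ : normalizer (W : Set A) →* Equiv.Perm (Fin 5)) : Subgroup A :=
  (E5.comap ρ).map (normalizer (W : Set A)).subtype

end K

section

variable (h : Sheet K SA V W P z) [Finite A]
  {ρ : normalizer (W : Set A) →* Equiv.Perm (Fin 5)} (hs : Function.Surjective ρ)
  (hk : ∀ a, ρ a = 1 ↔ (a : A) ∈ P)
include h hs hk

theorem cardR : Nat.card (R (W := W) ρ) = 256 := by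
  have h1 : Nat.card (R (W := W) ρ) = Nat.card (E5.comap ρ) :=
    Subgroup.card_map_of_injective (normalizer (W : Set A)).subtype_injective
  have h2 : Nat.card ρ.ker = 32 := by
    have e : ρ.ker = P.subgroupOf (normalizer (W : Set A)) := by
      ext a
      rw [MonoidHom.mem_ker, hk, mem_subgroupOf]
    rw [e, Nat.card_congr (Subgroup.subgroupOfEquivOfLe (P_nor h)).toEquiv, h.cardP]
  have h3 : Nat.card (normalizer (W : Set A)) = 120 * 32 := by
    rw [Subgroup.card_eq_card_quotient_mul_card_subgroup ρ.ker, h2,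
      Nat.card_congr (QuotientGroup.quotientKerEquivOfSurjective ρ hs).toEquiv]
    congr 1
    exact card_S5
  have h4 := Subgroup.card_mul_index (E5.comap ρ)
  rw [Subgroup.index_comap_of_surjective _ hs, h3] at h4
  have h5 := Subgroup.card_mul_index E5
  rw [card_E, show Nat.card (Equiv.Perm (Fin 5)) = 120 from card_S5] at h5
  have h6 : E5.index = 15 := by omega
  rw [h6] at h4
  omega

theorem P_le_R : P ≤ R (W := W) ρ := by
  intro p hp
  refine ⟨⟨p, P_nor h hp⟩, ?_, rfl⟩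
  show ρ _ ∈ E5
  rw [(hk ⟨p, P_nor h hp⟩).2 hp]
  exact E5.one_mem

theorem R_conj : ∃ a : A, ∀ x ∈ R (W := W) ρ, a * x * a⁻¹ ∈ SA :=
  conj_SA h (IsPGroup.of_card (n := 8) (by rw [cardR h hs hk]; norm_num))

end

/-! ### in `G` -/

/-- the map `N → S5` -/
noncomputable def pi (s : Setting t φ) (ρ : normalizer (W : Set A) →* Equiv.Perm (Fin 5)) :
    (normalizer (W : Set A)).map φ →* S5 :=
  ρ.comp ((normalizer (W : Set A)).equivMapOfInjective φ s.inj).symm.toMonoidHom

theorem pi_mk (s : Setting t φ) (ρ : normalizer (W : Set A) →* Equiv.Perm (Fin 5))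
    (a : normalizer (W : Set A)) (n : (normalizer (W : Set A)).map φ) (hn : (n : G) = φ a) :
    pi s ρ n = ρ a := by
  have e : (normalizer (W : Set A)).equivMapOfInjective φ s.inj a = n := by
    apply Subtype.ext
    rw [hn]; rfl
  show ρ (((normalizer (W : Set A)).equivMapOfInjective φ s.inj).symm n) = ρ a
  rw [← e, MulEquiv.symm_apply_apply]

section

theorem cN (s : Setting t φ) : ∀ n ∈ (normalizer (W : Set A)).map φ, n * t = t * n := by
  rintro _ ⟨a, -, rfl⟩
  exact s.comm a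

theorem TA_eq (s : Setting t φ) (ρ : normalizer (W : Set A) →* Equiv.Perm (Fin 5)) :
    TA s.tt (cN s) (pi s ρ) = dbl s (R (W := W) ρ) := by
  ext g
  unfold TA
  rw [FI.mem_dbl, mem_dbl]
  constructor
  · rintro (⟨n, hn, rfl⟩ | ⟨n, hn, e⟩)
    · obtain ⟨a, ha, e⟩ := n.2
      have hn' : pi s ρ n ∈ E5 := hn
      rw [pi_mk s ρ ⟨a, ha⟩ n e.symm] at hn'
      exact ⟨a, ⟨⟨a, ha⟩, hn', rfl⟩, Or.inl e.symm⟩
    · obtain ⟨a, ha, e'⟩ := n.2
      have hn' : pi s ρ n ∈ E5 := hn
      rw [pi_mk s ρ ⟨a, ha⟩ n e'.symm] at hn'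
      refine ⟨a, ⟨⟨a, ha⟩, hn', rfl⟩, Or.inr ?_⟩
      have e2 : (n : G) = t * g := e
      rw [e', e2, ← mul_assoc, s.tt, one_mul]
  · rintro ⟨_, ⟨a, ha, rfl⟩, rfl | rfl⟩
    · refine Or.inl ⟨⟨φ a, ⟨a, a.2, rfl⟩⟩, ?_, rfl⟩
      show pi s ρ _ ∈ E5
      rw [pi_mk s ρ a _ rfl]
      exact ha
    · refine Or.inr ⟨⟨φ a, ⟨a, a.2, rfl⟩⟩, ?_, ?_⟩
      · show pi s ρ _ ∈ E5
        rw [pi_mk s ρ a _ rfl]
        exact ha
      · show φ a = t * (t * φ a)
        rw [← mul_assoc, s.tt, one_mul]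

end

variable [Finite A] [Finite G]

theorem mem_dbl_map (s : Setting t φ) {H : Subgroup A} {g : G} :
    g ∈ dbl s H ↔ (g ∈ H.map φ ∨ t * g ∈ H.map φ) := by
  rw [mem_dbl]
  constructor
  · rintro ⟨a, ha, rfl | rfl⟩
    · exact Or.inl ⟨a, ha, rfl⟩
    · exact Or.inr ⟨a, ha, by rw [← mul_assoc, s.tt, one_mul]⟩
  · rintro (⟨a, ha, e⟩ | ⟨a, ha, e⟩)
    · exact ⟨a, ha, Or.inl e.symm⟩
    · exact ⟨a, ha, Or.inr (by rw [e, ← mul_assoc, s.tt, one_mul])⟩

/-- uniqueness of `M` -/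
theorem uniqM {X Z M : Subgroup G} (tt : t * t = 1) (cX : 16 ≤ Nat.card X) (cZ : Nat.card Z = 32)
    (elM : El M) (cM : Nat.card M = Nat.card X * 32) (ZM : Z ≤ M) (XM : X ≤ M) (tM : Nrm t M)
    (fix : ∀ m ∈ M, m * t = t * m → m ∈ Z) (onto : ∀ x ∈ X, ∃ m ∈ M, m * t * m⁻¹ = t * x)
    (cen : ∀ g, g * t = t * g → Cen g X → g ∈ Z ∨ t * g ∈ Z)
    (E : Subgroup G) (elE : El E) (hE : ∀ f ∈ E, Cen f X ∧ ∃ x ∈ X, f * t * f⁻¹ = t * x)
    (cE : Nat.card E = Nat.card M) : E = M := by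
  classical
  have ti : t⁻¹ = t := inv_eq_of_mul_eq_one_right tt
  -- each `f ∈ E` lies in `M` or `Mt`
  have key : ∀ f ∈ E, f ∈ M ∨ f * t ∈ M := by
    intro f hf
    obtain ⟨hc, x, hx, e⟩ := hE f hf
    obtain ⟨m, hm, e'⟩ := onto x hx
    have h1 : (m⁻¹ * f) * t = t * (m⁻¹ * f) := by
      have h2 : f * t = m * t * m⁻¹ * f := by rw [e', ← e]; group
      calc m⁻¹ * f * t = m⁻¹ * (f * t) := by group
        _ = m⁻¹ * (m * t * m⁻¹ * f) := by rw [h2]
        _ = t * (m⁻¹ * f) := by group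
    have h2 : Cen (m⁻¹ * f) X := by
      have : Cen m⁻¹ X := fun y hy => elM.comm (M.inv_mem hm) (XM hy)
      exact this.gmul hc
    rcases cen _ h1 h2 with h3 | h3
    · left
      have := M.mul_mem hm (ZM h3)
      rwa [mul_inv_cancel_left] at this
    · right
      have h4 := M.mul_mem hm (ZM h3)
      have h5 : m * (t * (m⁻¹ * f)) = f * t := by
        rw [← h1]; group
      rwa [h5] at h4
  have hle : E ≤ M := by
    by_contra hno
    obtain ⟨f0, hf0, hf0M⟩ := SetLike.not_le_iff_exists.1 hno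
    have h0 : f0 * t ∈ M := (key f0 hf0).resolve_left hf0M
    -- `E ∩ M ≤ Z`
    have h1 : (E ⊓ M : Subgroup G) ≤ Z := by
      rintro e ⟨he, heM⟩
      apply fix e heM
      have a1 := elE.comm he hf0
      have a2 := elM.comm heM h0
      have a3 : f0 * (e * t) = f0 * (t * e) := by
        calc f0 * (e * t) = (f0 * e) * t := by group
          _ = (e * f0) * t := by rw [a1]
          _ = e * (f0 * t) := by group
          _ = (f0 * t) * e := by rw [a2]
          _ = f0 * (t * e) := by group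
      exact mul_left_cancel a3
    have h2 : Nat.card (E ⊓ M : Subgroup G) ≤ 32 := by
      rw [← cZ]; exact Subgroup.card_le_of_le h1
    have hmul : ∀ f : E, (f : G) ∉ M → f0 * (f : G) ∈ (E ⊓ M : Subgroup G) := by
      intro f hf
      refine ⟨E.mul_mem hf0 f.2, ?_⟩
      have h3 : (f : G) * t ∈ M := (key f f.2).resolve_left hf
      have h4 : t * ((f : G) * t) * t⁻¹ ∈ M := (tM _).2 h3
      have h5 := M.mul_mem h0 h4
      have e : f0 * t * (t * ((f : G) * t) * t⁻¹) = f0 * f := by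
        rw [ti]
        calc f0 * t * (t * ((f : G) * t) * t) = f0 * (t * t) * f * (t * t) := by group
          _ = f0 * f := by rw [tt, mul_one, mul_one]
      rwa [e] at h5
    let F : E → (E ⊓ M : Subgroup G) × Bool := fun f =>
      if hf : (f : G) ∈ M then (⟨f, f.2, hf⟩, false) else (⟨f0 * f, hmul f hf⟩, true)
    have hF : Function.Injective F := by
      intro a b hab
      by_cases ha : (a : G) ∈ M <;> by_cases hb : (b : G) ∈ M
      · have h3 : F a = (⟨a, a.2, ha⟩, false) := dif_pos ha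
        have h4 : F b = (⟨b, b.2, hb⟩, false) := dif_pos hb
        rw [h3, h4] at hab
        exact Subtype.ext (congrArg (fun x : (E ⊓ M : Subgroup G) => (x : G)) (Prod.mk.inj hab).1)
      · have h3 : F a = (⟨a, a.2, ha⟩, false) := dif_pos ha
        have h4 : F b = (⟨f0 * b, hmul b hb⟩, true) := dif_neg hb
        rw [h3, h4] at hab
        exact absurd (Prod.mk.inj hab).2 (by simp)
      · have h3 : F a = (⟨f0 * a, hmul a ha⟩, true) := dif_neg ha
        have h4 : F b = (⟨b, b.2, hb⟩, false) := dif_pos hb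
        rw [h3, h4] at hab
        exact absurd (Prod.mk.inj hab).2 (by simp)
      · have h3 : F a = (⟨f0 * a, hmul a ha⟩, true) := dif_neg ha
        have h4 : F b = (⟨f0 * b, hmul b hb⟩, true) := dif_neg hb
        rw [h3, h4] at hab
        exact Subtype.ext (mul_left_cancel
          (congrArg (fun x : (E ⊓ M : Subgroup G) => (x : G)) (Prod.mk.inj hab).1))
    have h3 := Nat.card_le_card_of_injective F hF
    rw [Nat.card_prod, Nat.card_eq_fintype_card (α := Bool), Fintype.card_bool] at h3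
    have h4 : 16 * 32 ≤ Nat.card X * 32 := Nat.mul_le_mul_right _ cX
    rw [cE, cM] at h3
    omega
  exact Subgroup.eq_of_le_of_card_ge hle cE.ge

/-- **the fill** -/
theorem endSheet (h : Sheet K SA V W P z) (s : Setting t φ) {x : G} (hx : Swap SA z s x)
    (cP : ∀ u ∈ P, ∀ g : G, g * t * g⁻¹ ≠ φ u) {X : Subgroup A} (hX : X = W ∨ X = P)
    (hD : ∀ u ∈ P, ∀ g : G, g * t * g⁻¹ = t * φ u → u ∈ X)
    {M : Subgroup G} (L : Layer t (X.map φ) (P.map φ) M)
    {ρ : normalizer (W : Set A) →* Equiv.Perm (Fin 5)} (hs : Function.Surjective ρ)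
    (hk : ∀ a, ρ a = 1 ↔ (a : A) ∈ P) :
    EndSheet t (X.map φ) (P.map φ) ((normalizer (W : Set A)).map φ) M (pi s ρ) := by
  have hXP : X ≤ P := by
    rcases hX with rfl | rfl
    · exact h.WP
    · exact le_rfl
  have hWX : W ≤ X := by
    rcases hX with rfl | rfl
    · exact le_rfl
    · exact h.WP
  have cardZ : Nat.card (P.map φ) = 32 := by
    rw [Subgroup.card_map_of_injective s.inj, h.cardP]
  have cardX : Nat.card (X.map φ) = Nat.card X := Subgroup.card_map_of_injective s.inj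
  have cardX' : Nat.card X = 16 ∨ Nat.card X = 32 := by
    rcases hX with rfl | rfl
    · exact Or.inl h.cardW
    · exact Or.inr h.cardP
  have nX : ∀ a, Nrm a W → Nrm a X := by
    intro a ha
    rcases hX with rfl | rfl
    · exact ha
    · exact nrmP h ha
  have CX : ∀ a, Cen a X → a ∈ P := fun a ha => h.CW a (fun w hw => ha w (hWX hw))
  have cen : ∀ g, g * t = t * g → Cen g (X.map φ) → g ∈ P.map φ ∨ t * g ∈ P.map φ := by
    intro g hg hc
    exact (mem_dbl_map s).1 (cen_of s CX hg hc)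
  have hnat := h.nV
  refine
    { tt := s.tt
      cN := cN s
      tN := ?_
      XZ := Subgroup.map_mono hXP
      ZN := Subgroup.map_mono (P_nor h)
      elZ := el_map s h.elP
      cardZ := cardZ
      cardX := by rw [cardX]; exact cardX'
      ker := ?_
      surj := ?_
      NX := ?_
      CZ := ?_
      nZ := ?_
      rank := ?_
      uniq := ?_
      syl := ?_
      DN := ?_
      DtZ := ?_
      lift := ?_
      elM := L.el
      cardM := by rw [L.card, cardZ]
      ZM := L.ZM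
      tM := L.tM
      fix := L.cT
      onto := L.onto
      uniqM := ?_ }
  · rintro ⟨a, -, e⟩
    exact s.tK a e
  · intro n
    obtain ⟨a, ha, e⟩ := n.2
    rw [pi_mk s ρ ⟨a, ha⟩ n e.symm, hk]
    constructor
    · intro h1
      exact ⟨a, h1, e⟩
    · rintro ⟨b, hb, e'⟩
      have : b = a := s.inj (e'.trans e.symm)
      show a ∈ P
      rw [← this]; exact hb
  · intro p
    obtain ⟨a, rfl⟩ := hs p
    exact ⟨⟨φ a, ⟨a, a.2, rfl⟩⟩, pi_mk s ρ a _ rfl⟩
  · rintro _ ⟨a, ha, rfl⟩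
    exact nrm_map s (nX a (EndSheet.mem_nor.1 ha))
  · rintro _ ⟨a, ha, rfl⟩ hc
    refine ⟨a, ?_, rfl⟩
    apply h.CW
    intro w hw
    apply s.inj
    rw [map_mul, map_mul]
    exact hc _ ⟨w, h.WP hw, rfl⟩
  · intro g hg hN
    obtain ⟨a, e⟩ := s.cent g hg
    have key := fun b => (conj_key s e b).1
    have h1 : Nrm a P := by
      intro b
      have h2 := hN (φ b)
      rw [key b] at h2
      constructor
      · intro h3
        obtain ⟨c, hc, e2⟩ := h2.1 ⟨_, h3, rfl⟩
        rwa [← s.inj e2]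
      · intro h3
        obtain ⟨c, hc, e2⟩ := h2.2 ⟨_, h3, rfl⟩
        rwa [← s.inj e2]
    have h2 : a ∈ normalizer (W : Set A) := EndSheet.mem_nor.2 (nrmW h h1)
    rcases e with rfl | rfl
    · exact Or.inl ⟨a, h2, rfl⟩
    · exact Or.inr ⟨a, h2, by rw [← mul_assoc, s.tt, one_mul]⟩
  · intro E el hc
    let F := FI.dbl s.tt hc
    have h1 : El F := FI.el_dbl s.tt hc el
    have h2 : ∀ g ∈ F, g * t = t * g := fun g hg => FI.cent_dbl s.tt hc hg
    have h3 : t ∈ F := (FI.mem_dbl s.tt hc).2 (Or.inr (by rw [s.tt]; exact E.one_mem))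
    have h4 := eq_dbl s h2 h3
    have h5 : E ≤ F := fun g hg => (FI.mem_dbl s.tt hc).2 (Or.inl hg)
    have h6 : El (F.comap φ) := by
      intro a ha
      apply s.inj
      rw [map_mul, map_one]
      exact h1 _ ha
    have h7 := rankA h h6
    have h8 : Nat.card F = 2 * Nat.card (F.comap φ) := by
      conv_lhs => rw [h4]
      exact card_dbl s _
    have h9 := Subgroup.card_le_of_le h5
    omega
  · intro E hE el c64 g
    rw [TA_eq] at hE
    obtain ⟨a, ha⟩ := R_conj h hs hk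
    have key : ∀ F : Subgroup G, F ≤ dbl s (R (W := W) ρ) → El F → 64 ≤ Nat.card F →
        F.map (MulAut.conj (φ a)).toMonoidHom = dbl s P := by
      intro F hF elF cF
      apply el64 h s
      · rintro _ ⟨y, hy, rfl⟩
        obtain ⟨b, hb, e⟩ := hF hy
        have h1 := conj_key s (a := a) (g := φ a) (Or.inl rfl) b
        show φ a * y * (φ a)⁻¹ ∈ dbl s SA
        rcases e with rfl | rfl
        · rw [h1.1]; exact (phi_mem s).2 (ha b hb)
        · rw [h1.2]; exact (tphi_mem s).2 (ha b hb)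
      · rintro _ ⟨y, hy, rfl⟩
        show φ a * y * (φ a)⁻¹ * (φ a * y * (φ a)⁻¹) = 1
        calc φ a * y * (φ a)⁻¹ * (φ a * y * (φ a)⁻¹) = φ a * (y * y) * (φ a)⁻¹ := by group
          _ = 1 := by rw [elF y hy]; group
      · rw [Subgroup.card_map_of_injective (MulAut.conj (φ a)).injective]
        exact cF
    have h1 := key E hE el c64.ge
    have h2 := key (dbl s P) (dbl_mono s (P_le_R h hs hk)) (el_dbl s h.elP) (by
      rw [card_dbl, h.cardP])
    have h3 : E = dbl s P :=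
      Subgroup.map_injective (MulAut.conj (φ a)).injective (h1.trans h2.symm)
    rw [h3]
    exact mem_dbl_map s
  · rw [TA_eq]
    have e : centralizer ({t} : Set G) = dbl s ⊤ := by
      ext g
      rw [mem_centralizer_singleton_iff, mem_dbl_top s]
    rw [e]
    intro h2
    have h3 := Subgroup.card_mul_index ((dbl s (R (W := W) ρ)).subgroupOf (dbl s ⊤))
    have h4 : dbl s (R (W := W) ρ) ≤ dbl s ⊤ := dbl_mono s le_top
    rw [Nat.card_congr (Subgroup.subgroupOfEquivOfLe h4).toEquiv, card_dbl, card_dbl,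
      cardR h hs hk, Nat.card_congr (Subgroup.topEquiv (G := A)).toEquiv] at h3
    change 2 * 256 * (dbl s (R (W := W) ρ)).relIndex (dbl s ⊤) = _ at h3
    have h5 := Subgroup.card_mul_index SA
    rw [h.cardSA] at h5
    have h6 : (dbl s (R (W := W) ρ)).relIndex (dbl s ⊤) = SA.index := by
      rw [← h5] at h3
      omega
    rw [h6] at h2
    exact index_odd h h2
  · rintro _ ⟨a, -, rfl⟩ g e
    have aa : a * a = 1 := by
      apply s.inj
      rw [map_mul, map_one, ← e]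
      calc g * t * g⁻¹ * (g * t * g⁻¹) = g * (t * t) * g⁻¹ := by group
        _ = 1 := by rw [s.tt]; group
    by_cases aK : a ∈ K
    · exact not_D h s hx.nz aK aa g e
    · obtain ⟨b, w, hw, -, rfl⟩ := h.invO a aK aa
      apply cP w hw ((φ b)⁻¹ * g)
      calc (φ b)⁻¹ * g * t * ((φ b)⁻¹ * g)⁻¹ = (φ b)⁻¹ * (g * t * g⁻¹) * φ b := by group
        _ = φ w := by rw [e]; simp [mul_assoc]
  · rintro _ ⟨u, hu, rfl⟩ g e
    exact ⟨u, hD u hu g e, rfl⟩
  · intro p pp p1
    obtain ⟨a, rfl⟩ := hs p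
    have haW : Nrm (a : A) W := EndSheet.mem_nor.1 a.2
    have haP : (a : A) ∉ P := fun h1 => p1 ((hk a).2 h1)
    have haa : (a : A) * a ∈ P := by
      have : ρ (a * a) = 1 := by rw [map_mul]; exact pp
      exact (hk _).1 this
    obtain ⟨w, hwK, ww, hwW, hwa, hfix, b0, hb0, hb0W, hwb⟩ := h.invL a haW haP haa
    have hw : w ∈ normalizer (W : Set A) := EndSheet.mem_nor.2 hwW
    have hρ : ρ ⟨w, hw⟩ = ρ a := by
      have h1 : ρ (⟨w, hw⟩⁻¹ * a) = 1 := (hk _).2 hwa
      rw [map_mul, map_inv] at h1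
      exact (inv_mul_eq_one.1 h1)
    refine ⟨⟨φ w, ⟨w, hw, rfl⟩⟩, ?_, ?_, ?_, ?_⟩
    · rw [pi_mk s ρ ⟨w, hw⟩ _ rfl, hρ]
    · show φ w * φ w = 1
      rw [← map_mul, ww, map_one]
    · exact D_tK h s hx hwK ww
    · intro hc
      rw [cardX] at hc
      have hXW : X = W := by
        rcases hX with rfl | rfl
        · rfl
        · rw [h.cardP] at hc; omega
      subst hXW
      have hK := normalK h
      refine ⟨?_, ?_, φ b0, ⟨b0, hb0, rfl⟩, ?_, ?_⟩
      · rintro _ ⟨u, hu, rfl⟩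
        refine ⟨w * u * w⁻¹ * u⁻¹, ?_, by simp⟩
        apply h.PK
        · exact P.mul_mem ((nrmP h hwW u).2 hu) (P.inv_mem hu)
        · have h1 : u * w⁻¹ * u⁻¹ ∈ K := hK.conj_mem _ (K.inv_mem hwK) u
          have e : w * u * w⁻¹ * u⁻¹ = w * (u * w⁻¹ * u⁻¹) := by group
          rw [e]; exact K.mul_mem hwK h1
      · rintro _ ⟨u, hu, rfl⟩ hc2
        have h1 : w * u = u * w := by
          apply s.inj
          rw [map_mul, map_mul]; exact hc2
        obtain ⟨v, hv, e⟩ := hfix u hu h1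
        exact ⟨φ v, ⟨v, hv, rfl⟩, by rw [e]; simp⟩
      · rintro ⟨u, hu, e⟩
        exact hb0W (by rwa [← s.inj e])
      · show φ w * φ b0 = φ b0 * φ w
        rw [← map_mul, hwb, map_mul]
  · intro E elE hE cE
    refine uniqM s.tt (by rw [cardX]; rcases cardX' with h1 | h1 <;> omega) cardZ L.el
      (by rw [L.card, cardZ]) L.ZM ?_ L.tM L.cT L.onto cen E elE hE cE
    exact (Subgroup.map_mono hXP).trans L.ZM

/-- **the kill** -/
theorem kill (h : Sheet K SA V W P z) (s : Setting t φ) {x : G} (hx : Swap SA z s x)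
    (cP : ∀ u ∈ P, ∀ g : G, g * t * g⁻¹ ≠ φ u) (L : Lay t (W.map φ) (P.map φ))
    (hG : commutator G = ⊤) : False := by
  obtain ⟨ρ, hs, hk⟩ := h.s5
  by_cases hall : ∃ u ∈ P, u ∉ W ∧ ∃ g : G, g * t * g⁻¹ = t * φ u
  · have L2 := All.all h s L (fun g u hu => cP u hu g) hall
    obtain ⟨M, LM⟩ := L2.exists_layer
    exact (endSheet h s hx cP (Or.inr rfl) (fun u hu _ _ => hu) LM hs hk).false hG
  · obtain ⟨M, LM⟩ := L.exists_layer
    refine (endSheet h s hx cP (Or.inl rfl) (fun u hu g e => ?_) LM hs hk).false hG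
    by_contra hW
    exact hall ⟨u, hu, hW, g, e⟩

end Cfsg.Agent.OddHalf.MMOut.Fill

end

-- merged: Cfsg.Agent.OddHalf.MMOut.KillOut
section

/-!
# ODD half, D8, `M22`: the outer case `C_G(t) = ⟨t⟩ × M22:2` is impossible

`kill_out`: helper908 (translations, twist, layer data), helper409 (growth `Lay`, `goodV`), helper316 (pattern
ALL), helper569 (transfer), helper244 (the end).
-/

set_option autoImplicit false

namespace Cfsg.Agent.OddHalf.MMOut

open Subgroup Cfsg.Agent.OddHalf.MM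

variable {A G : Type*} [Group A] [Group G] {K SA V W P : Subgroup A} {z : A} {t : G} {φ : A →* G}

/-- **the outer case of `M22`** -/
theorem kill_out [Finite A] [Finite G] (hG : commutator G = ⊤) (h : Sheet K SA V W P z)
    (s : Setting t φ) {x : G} (hx : Swap SA z s x) : False := by
  obtain ⟨φ', s', hx', hc⟩ := exists_twist h s hx
  obtain ⟨y, yy, -, yW, yt⟩ := exists_y h s' hx'
  exact Fill.kill h s' hx'
    (not_D_P h s' hx'.nz (fun w hw => by
      obtain ⟨f, hf, -⟩ := lift_W h s' yy yW yt w hw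
      exact ⟨f, hf⟩) hc)
    (lay_W h s' hx' hc) hG

end Cfsg.Agent.OddHalf.MMOut

end

-- merged: Cfsg.Agent.OddHalf.MMOut.Row
section

/-!
# ODD half, D8: the row `M22` (helper253)

`case_four`: `C(t)/K` cyclic of order 4. `row_of`: the row from the kill of the split outer case.
-/

set_option autoImplicit false

namespace Cfsg.Agent.OddHalf.MMOut.Row22

open Subgroup Cfsg Cfsg.Agent.OddHalf.Front.FE Cfsg.Agent.OddHalf.MM Cfsg.Agent.OddHalf.MM.Glue
open Cfsg.Agent.OddHalf.MMOut.GlueOut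
open Cfsg.Agent.J4Type.Aut22 (D22 mem_D22_iff M22_le_D22 mem_M22_iff_D22 eq_one_of_centralizes)

universe u

/-- the outer involution of `M22` given by helper240's `b` -/
noncomputable def al : MulAut Spor.M22 := KFacts.MM.OutAut.autOf KFacts.MM.OutP.b KFacts.MM.OutP.b_D22

theorem al_apply (m : Spor.M22) : ((al m : Spor.M22) : Equiv.Perm GolayPt) =
    KFacts.MM.OutP.b * m * KFacts.MM.OutP.b⁻¹ := rfl

theorem al_outer : ¬ Inn al := by
  rintro ⟨m, hm⟩
  apply KFacts.MM.OutP.b_not_M22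
  have h1 : (m : Equiv.Perm GolayPt)⁻¹ * KFacts.MM.OutP.b = 1 := by
    apply eq_one_of_centralizes (mul_mem (inv_mem (M22_le_D22 m.2)) KFacts.MM.OutP.b_D22)
    intro x
    have h2 : ((al x : Spor.M22) : Equiv.Perm GolayPt) = m * x * (m : Equiv.Perm GolayPt)⁻¹ := by
      rw [hm, MulAut.conj_apply]
      rfl
    rw [al_apply] at h2
    calc (m : Equiv.Perm GolayPt)⁻¹ * KFacts.MM.OutP.b * x * ((m : Equiv.Perm GolayPt)⁻¹ * KFacts.MM.OutP.b)⁻¹
        = (m : Equiv.Perm GolayPt)⁻¹ * (KFacts.MM.OutP.b * x * KFacts.MM.OutP.b⁻¹) * m := by group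
      _ = x := by rw [h2]; group
  rw [inv_mul_eq_one] at h1
  rw [← h1]
  exact m.2

theorem al_al : al * al = 1 := by
  ext m : 1
  apply Subtype.ext
  rw [MulAut.mul_apply, al_apply, al_apply]
  have h1 := KFacts.MM.OutP.bb
  have h2 : KFacts.MM.OutP.b⁻¹ = KFacts.MM.OutP.b := inv_eq_of_mul_eq_one_right h1
  rw [h2]
  calc KFacts.MM.OutP.b * (KFacts.MM.OutP.b * m * KFacts.MM.OutP.b) * KFacts.MM.OutP.b
      = (KFacts.MM.OutP.b * KFacts.MM.OutP.b) * m * (KFacts.MM.OutP.b * KFacts.MM.OutP.b) := by group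
    _ = m := by rw [h1]; group

theorem al_W {w : Spor.M22} (hw : (w : Equiv.Perm GolayPt) ∈ KFacts.MM.Sub.W) : al w = w := by
  apply Subtype.ext
  rw [al_apply, KFacts.MM.OutS.b_comm_W _ hw, mul_inv_cancel_right]

theorem al_S {s : Spor.M22} (hs : (s : Equiv.Perm GolayPt) ∈ KFacts.MM.Sub.S) :
    ((al s : Spor.M22) : Equiv.Perm GolayPt) ∈ KFacts.MM.Sub.S := KFacts.MM.OutS.bS _ hs

variable {G : Type u} [Group G] {K : Subgroup G} {t : G}

/-- maximal 2-subgroups of `C(t)` -/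
theorem exists_max [Finite G] {R : Subgroup G} (hR : IsPGroup 2 R) (hRt : ∀ x ∈ R, x * t = t * x) :
    ∃ R' : Subgroup G, R ≤ R' ∧ IsPGroup 2 R' ∧ (∀ x ∈ R', x * t = t * x) ∧
      ∀ Q : Subgroup G, IsPGroup 2 Q → R' ≤ Q → (∀ x ∈ Q, x * t = t * x) → Q = R' := by
  have hfin : ({N : Subgroup G | IsPGroup 2 N ∧ ∀ x ∈ N, x * t = t * x}).Finite := Set.toFinite _
  obtain ⟨N, hN0, hN⟩ := hfin.exists_le_maximal (a := R) ⟨hR, hRt⟩
  obtain ⟨⟨hN1, hN2⟩, hmax⟩ := hN
  exact ⟨N, hN0, hN1, hN2, fun Q hQ hle hQt => le_antisymm (hmax ⟨hQ, hQt⟩ hle) hle⟩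

/-- **the case `C(t)/K ≅ Z4`** -/
theorem case_four [Finite G] {T : Subgroup G} (e0 : Spor.M22 ≃* K)
    (B : Base ((KFacts.MM.Sub.S.subgroupOf Spor.M22).map e0.toMonoidHom)
      (e0 (⟨KFacts.MM.Sub.z, KFacts.MM.GlueK.z22⟩ : Spor.M22)))
    (P : Position K t ((KFacts.MM.Sub.S.subgroupOf Spor.M22).map e0.toMonoidHom)
      (e0 (⟨KFacts.MM.Sub.z, KFacts.MM.GlueK.z22⟩ : Spor.M22)) T)
    {a : G} (hat : a * t = t * a) (ha : a ∉ zpowers t ⊔ K)
    (hsp : ∀ b : G, b * t = t * b → b ∉ zpowers t ⊔ K → b * b ≠ 1) : False := by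
  have st := P.facts.toStart
  have htK := tK st
  -- the element `b`
  obtain ⟨α, hα⟩ : ∃ α : MulAut K, α = tr e0.symm al := ⟨_, rfl⟩
  have hαap : ∀ k : Spor.M22, α (e0 k) = e0 (al k) := by
    intro k
    rw [hα, tr_apply, MulEquiv.symm_symm, e0.symm_apply_apply]
  have hαo : ¬ Inn α := by
    rw [hα, inn_tr]
    exact al_outer
  have haN := st.nK a hat
  have hao : ¬ Inn (K.normalizerMonoidHom ⟨a, haN⟩) := fun h => ha (mem_of_inn' st hat h)
  obtain ⟨k, hk⟩ := B.out _ _ hαo hao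
  rw [mul_inv_eq_iff_eq_mul] at hk
  obtain ⟨b, hb⟩ : ∃ b : G, b = k * a := ⟨_, rfl⟩
  have hbt : b * t = t * b := by
    have c1 : Commute (k : G) t := st.Kt k k.2
    have c2 : Commute a t := hat
    rw [hb]
    exact c1.mul_left c2
  have hbα : ∀ x : K, b * x * b⁻¹ = α x := by
    intro x
    rw [hk, hb, MulAut.mul_apply, MulAut.conj_apply]
    push_cast
    rw [D8.GlueE.nmh_apply]
    group
  have hαα : ∀ x : K, α (α x) = x := by
    intro x
    obtain ⟨y, rfl⟩ := e0.surjective x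
    rw [hαap, hαap, ← MulAut.mul_apply, al_al, MulAut.one_apply]
  have hbo : b ∉ zpowers t ⊔ K := by
    intro h
    apply ha
    have h1 : a = (k : G)⁻¹ * b := by rw [hb]; group
    rw [h1]
    exact mul_mem (inv_mem ((le_sup_right : K ≤ _) k.2)) h
  have hbb : b * b = t := by
    have h1 : b * b * t = t * (b * b) := by
      have c2 : Commute b t := hbt
      exact c2.mul_left c2
    rcases P.Q2 (b * b) h1 (by
      intro x hx
      have h2 := hbα ⟨x, hx⟩
      have h3 := hbα (α ⟨x, hx⟩)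
      rw [hαα, ← h2] at h3
      have h4 : b * (b * x * b⁻¹) * b⁻¹ = x := h3
      calc x * (b * b) = b * (b * x * b⁻¹) * b⁻¹ * (b * b) := by rw [h4]
        _ = b * b * x := by group) with h2 | h2
    · exact absurd h2 (hsp b hbt hbo)
    · exact h2
  -- `φ`
  obtain ⟨φ, hφ⟩ : ∃ φ : Spor.M22 →* G, φ = K.subtype.comp e0.toMonoidHom := ⟨_, rfl⟩
  have hφa : ∀ k, φ k = e0 k := by
    intro k
    rw [hφ]; rfl
  have hφb : ∀ k, b * φ k * b⁻¹ = φ (al k) := by
    intro k
    rw [hφa, hφa, hbα, hαap]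
  have inj : Function.Injective φ := by
    intro x y hxy
    rw [hφa, hφa] at hxy
    exact e0.injective (Subtype.ext hxy)
  obtain ⟨SK, hSK⟩ : ∃ SK : Subgroup Spor.M22, SK = KFacts.MM.Sub.S.subgroupOf Spor.M22 := ⟨_, rfl⟩
  have sh := MM.Rows.sheet22
  rw [← hSK] at sh
  have hmS : ∀ s : Spor.M22, s ∈ SK ↔ (s : Equiv.Perm GolayPt) ∈ KFacts.MM.Sub.S := by
    intro s
    rw [hSK, mem_subgroupOf]
  have hSp : IsPGroup 2 (SK.map φ) := sh.two.map _
  have hbn : zpowers b ≤ normalizer ((SK.map φ : Subgroup G) : Set G) := by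
    rw [zpowers_le]
    have key : ∀ y ∈ SK.map φ, b * y * b⁻¹ ∈ SK.map φ := by
      rintro _ ⟨s, hs, rfl⟩
      rw [hφb]
      exact ⟨al s, (hmS _).2 (al_S ((hmS s).1 hs)), rfl⟩
    rw [mem_normalizer_iff]
    intro y
    refine ⟨key y, fun hy => ?_⟩
    -- `b⁻¹ y b = b y b⁻¹` for `y ∈ K`
    have h1 := key _ hy
    have h2 : b * (b * y * b⁻¹) * b⁻¹ = t * y * t⁻¹ := by rw [← hbb]; group
    rw [h2] at h1
    obtain ⟨s, hs, hsy⟩ := h1
    have h3 : y = φ s := by
      have h4 : φ s * t = t * φ s := by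
        rw [hφa]
        exact st.Kt _ (e0 s).2
      calc y = t⁻¹ * (t * y * t⁻¹) * t := by group
        _ = t⁻¹ * (φ s * t) := by rw [← hsy]; group
        _ = φ s := by rw [h4]; group
    rw [h3]
    exact ⟨s, hs, rfl⟩
  have hbp : IsPGroup 2 (zpowers b) := by
    rintro ⟨y, hy⟩
    obtain ⟨i, rfl⟩ := mem_zpowers_iff.1 hy
    refine ⟨2, Subtype.ext ?_⟩
    show (b ^ i) ^ (2 ^ 2) = 1
    have h4 : b ^ 4 = 1 := by
      rw [show (4 : ℕ) = 2 * 2 by norm_num, pow_mul, pow_two, pow_two, hbb, st.tt]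
    have h5 : (b ^ i) ^ (2 ^ 2) = (b ^ 4) ^ i := by
      rw [show (2 ^ 2 : ℕ) = 4 by norm_num, ← zpow_natCast, ← zpow_mul, ← zpow_natCast b 4,
        ← zpow_mul, mul_comm]
    rw [h5, h4, one_zpow]
  have hR0 : IsPGroup 2 (zpowers b ⊔ SK.map φ : Subgroup G) := hbp.to_sup_of_normal_right' hSp hbn
  have hR0t : ∀ x ∈ zpowers b ⊔ SK.map φ, x * t = t * x := by
    have : zpowers b ⊔ SK.map φ ≤ centralizer ({t} : Set G) := by
      rw [sup_le_iff, zpowers_le]
      refine ⟨mem_centralizer_singleton_iff.2 hbt, ?_⟩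
      rintro _ ⟨s, -, rfl⟩
      apply mem_centralizer_singleton_iff.2
      rw [hφa]
      exact st.Kt _ (e0 s).2
    intro x hx
    exact mem_centralizer_singleton_iff.1 (this hx)
  obtain ⟨R, hle, hR, hRt, hRm⟩ := exists_max hR0 hR0t
  have hbR : b ∈ R := hle ((le_sup_left : zpowers b ≤ _) (mem_zpowers b))
  have htR : t ∈ R := by rw [← hbb]; exact mul_mem hbR hbR
  have hSR : ∀ s ∈ SK, φ s ∈ R := fun s hs => hle ((le_sup_right : SK.map φ ≤ _) ⟨s, hs, rfl⟩)
  have hcomap : R.comap φ = SK := by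
    apply sh.max _ (hR.comap_of_injective φ inj)
    intro s hs
    exact hSR s hs
  have hRS : ∀ k, φ k ∈ R → k ∈ SK := by
    intro k hk
    rw [← hcomap]; exact hk
  have hRK : ∀ y ∈ R, y ∈ K → ∃ s ∈ SK, y = φ s := by
    intro y hy hyK
    have h1 : φ (e0.symm ⟨y, hyK⟩) = y := by rw [hφa, e0.apply_symm_apply]
    refine ⟨e0.symm ⟨y, hyK⟩, hRS _ (by rw [h1]; exact hy), h1.symm⟩
  have hform : ∀ g ∈ R, ∃ s ∈ SK, g = φ s ∨ g = t * φ s ∨ g = b * φ s ∨ g = t * (b * φ s) := by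
    intro g hg
    have hQK : ∀ g' : G, g' ∈ R → g' ∈ zpowers t ⊔ K → ∃ s ∈ SK, g' = φ s ∨ g' = t * φ s := by
      intro g' hg' hm
      obtain ⟨w, hw, y, hy, rfl⟩ := (Front.Cyclic.mem_M st.toStart0).1 hm
      have hw2 : w = 1 ∨ w = t := P.Q2 w (st.Qt w hw) (fun x hx => st.QK w hw x hx)
      rcases hw2 with rfl | rfl
      · rw [one_mul] at hg' ⊢
        obtain ⟨s, hs, rfl⟩ := hRK y hg' hy
        exact ⟨s, hs, Or.inl rfl⟩
      · have h1 : y ∈ R := by
          have := mul_mem (inv_mem htR) hg'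
          rwa [inv_mul_cancel_left] at this
        obtain ⟨s, hs, rfl⟩ := hRK y h1 hy
        exact ⟨s, hs, Or.inr rfl⟩
    by_cases hgm : g ∈ zpowers t ⊔ K
    · obtain ⟨s, hs, h | h⟩ := hQK g hg hgm
      · exact ⟨s, hs, Or.inl h⟩
      · exact ⟨s, hs, Or.inr (Or.inl h)⟩
    · have h1 := P.out b⁻¹ g⁻¹ (Front.Cyclic.inv_comm hbt) (Front.Cyclic.inv_comm (hRt g hg))
        (fun h => hbo (inv_mem_iff.1 h)) (fun h => hgm (inv_mem_iff.1 h))
      rw [inv_inv] at h1
      obtain ⟨s, hs, h | h⟩ := hQK (b⁻¹ * g) (mul_mem (inv_mem hbR) hg) h1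
      · refine ⟨s, hs, Or.inr (Or.inr (Or.inl ?_))⟩
        rw [← h]; group
      · refine ⟨s, hs, Or.inr (Or.inr (Or.inr ?_))⟩
        rw [inv_mul_eq_iff_eq_mul] at h
        rw [h, ← mul_assoc, hbt, mul_assoc]
  obtain ⟨x, hxR, hxt, hxz, hnz⟩ := swap_gen P hR hRt hRm (ζ := φ ⟨KFacts.MM.Sub.z, KFacts.MM.GlueK.z22⟩) (by
    intro y hy hyK hyc
    obtain ⟨s, hs, rfl⟩ := hRK y hy hyK
    rcases sh.cen s hs (fun r hr => inj (by
      rw [map_mul, map_mul]
      exact hyc _ (hSR r hr))) with h | h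
    · left; rw [h, map_one]
    · right; rw [h])
  apply zfour sh inj (fun k => by rw [hφa]; exact st.Kt _ (e0 k).2)
    (fun k h => htK (by rw [← h, hφa]; exact (e0 k).2)) hbb st.tt al hφb (fun w hw => al_W hw) ?_ R hform
    hSR hbR (fun g hg => (hxR g).2 hg) hxt hnz
  -- no outer automorphism centralises `V`
  intro k hk
  have h1 : Inn (al * MulAut.conj k) := by
    obtain ⟨m, -, hm⟩ := KFacts.MM.GlueK.inner_of_fix (al * MulAut.conj k) (fun s hs => by
      rw [MulAut.mul_apply, MulAut.conj_apply]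
      exact hk s hs)
    exact ⟨m, hm⟩
  apply al_outer
  have h2 := h1.mul (Inn.inv ⟨k, rfl⟩ : Inn (MulAut.conj k)⁻¹)
  rwa [mul_inv_cancel_right] at h2

/-- **the row `M22`** -/
theorem m22 : D8.Rows.Row.{u} (fun K _ => Spor.IsoM22 K) := by
  intro G _ hG K hK hC hiso
  have := hG.fin
  have hiso' := hiso
  obtain ⟨e⟩ := hiso
  have B := MM.Rows.base22.of_equiv e.symm
  obtain ⟨t, T, P⟩ := position hG hK hC B
  by_cases hin : ∀ g : G, g * t = t * g → g ∈ zpowers t ⊔ K
  · exact MM.Rows.clean MM.Rows.sheet22 hG e.symm P hin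
  push Not at hin
  obtain ⟨a, hat, ha⟩ := hin
  by_cases hsp : ∃ b : G, b * t = t * b ∧ b ∉ zpowers t ⊔ K ∧ b * b = 1
  · obtain ⟨b, hbt, hb, hbb⟩ := hsp
    have hcen : center (↥K) = ⊥ := by
      rw [eq_bot_iff]
      intro x hx
      rw [mem_bot]
      apply Subtype.ext
      apply P.facts.cen x x.2
      intro y hy
      exact congrArg Subtype.val (mem_center_iff.1 hx ⟨y, hy⟩)
    obtain ⟨SA, V, W, Q, zA, hsh⟩ := KFacts.MM.OutEnd.sheet hiso'
    have hinj := conj_injective hcen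
    obtain ⟨φ, s, hφ⟩ := exists_setting (full_mulAut hcen) (MonoidHom.ofInjective hinj).symm B P hbt hb hbb
    have hmap : ((MulAut.conj : ↥K →* MulAut ↥K).range).map φ = K := by
      ext y
      constructor
      · rintro ⟨m, hm, rfl⟩
        rw [hφ ⟨m, hm⟩]
        exact ((MonoidHom.ofInjective hinj).symm ⟨m, hm⟩).2
      · intro hy
        refine ⟨((MonoidHom.ofInjective hinj) ⟨y, hy⟩ : (MulAut.conj : ↥K →* MulAut ↥K).range),
          SetLike.coe_mem _, ?_⟩
        rw [hφ ((MonoidHom.ofInjective hinj) ⟨y, hy⟩)]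
        exact congrArg Subtype.val ((MonoidHom.ofInjective hinj).symm_apply_apply ⟨y, hy⟩)
    obtain ⟨x, hx⟩ := exists_swap hsh s hmap P
    have : Finite (MulAut ↥K) := Finite.of_injective φ s.inj
    exact kill_out (commutator_eq_top hG) hsh s hx
  · push Not at hsp
    exact case_four e.symm B P hat ha hsp

end Cfsg.Agent.OddHalf.MMOut.Row22

end
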