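import Mathlib
import Cfsg.Agent.OddHalf.MMOut.LambdaD8
import Cfsg.Agent.OddHalf.MMOut.FreeInv
import Cfsg.Agent.OddHalf.MMOut.TransferM
import Cfsg.Agent.Transfer.FrobeniusFusion

-- merged: Cfsg.Agent.OddHalf.MMOut.SFive
section

/-!
# The dihedral Sylow 2-subgroup of `S5` (helper244)
-/

set_option autoImplicit false

namespace Cfsg.Agent.OddHalf.MMOut.SFive

open Equiv Subgroup

abbrev S5 := Perm (Fin 5)

/-- `(0 2)(1 3)` -/
def z5 : S5 := swap 0 2 * swap 1 3

/-- the Klein four-group of `S4` -/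
def inV (s : S5) : Prop := s = 1 ∨ s = z5 ∨ s = swap 0 1 * swap 2 3 ∨ s = swap 0 3 * swap 1 2

/-- the other four-group -/
def inW (s : S5) : Prop := s = 1 ∨ s = z5 ∨ s = swap 0 2 ∨ s = swap 1 3

instance (s : S5) : Decidable (inV s) := by unfold inV; infer_instance
instance (s : S5) : Decidable (inW s) := by unfold inW; infer_instance

set_option maxRecDepth 100000 in
theorem inV_mul : ∀ a b : S5, inV a → inV b → inV (a * b) := by
  intro a b ha hb
  rcases ha with rfl | rfl | rfl | rfl <;> rcases hb with rfl | rfl | rfl | rfl <;> decide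

theorem inV_inv : ∀ a : S5, inV a → inV a⁻¹ := by
  intro a ha
  rcases ha with rfl | rfl | rfl | rfl <;> decide

theorem inW_mul : ∀ a b : S5, inW a → inW b → inW (a * b) := by
  intro a b ha hb
  rcases ha with rfl | rfl | rfl | rfl <;> rcases hb with rfl | rfl | rfl | rfl <;> decide

theorem inW_inv : ∀ a : S5, inW a → inW a⁻¹ := by
  intro a ha
  rcases ha with rfl | rfl | rfl | rfl <;> decide

/-- the Klein four-group of `S4` -/
def V5 : Subgroup S5 where
  carrier := {s | inV s}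
  one_mem' := Or.inl rfl
  mul_mem' := fun {a b} ha hb => inV_mul a b ha hb
  inv_mem' := fun {a} ha => inV_inv a ha

/-- the other four-group -/
def W5 : Subgroup S5 where
  carrier := {s | inW s}
  one_mem' := Or.inl rfl
  mul_mem' := fun {a b} ha hb => inW_mul a b ha hb
  inv_mem' := fun {a} ha => inW_inv a ha

/-- the dihedral Sylow 2-subgroup -/
def E5 : Subgroup S5 where
  carrier := {s | s * z5 = z5 * s}
  one_mem' := by simp
  mul_mem' := by
    intro a b ha hb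
    show a * b * z5 = z5 * (a * b)
    have ha' : a * z5 = z5 * a := ha
    have hb' : b * z5 = z5 * b := hb
    rw [mul_assoc, hb', ← mul_assoc, ha', mul_assoc]
  inv_mem' := by
    intro a ha
    show a⁻¹ * z5 = z5 * a⁻¹
    have ha' : a * z5 = z5 * a := ha
    calc a⁻¹ * z5 = a⁻¹ * (z5 * a) * a⁻¹ := by group
      _ = a⁻¹ * (a * z5) * a⁻¹ := by rw [ha']
      _ = z5 * a⁻¹ := by group

theorem mem_V5 (s : S5) : s ∈ V5 ↔ inV s := Iff.rfl
theorem mem_W5 (s : S5) : s ∈ W5 ↔ inW s := Iff.rfl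
theorem mem_E5 (s : S5) : s ∈ E5 ↔ s * z5 = z5 * s := Iff.rfl

instance (s : S5) : Decidable (s ∈ V5) := by rw [mem_V5]; infer_instance
instance (s : S5) : Decidable (s ∈ W5) := by rw [mem_W5]; infer_instance
instance (s : S5) : Decidable (s ∈ E5) := by rw [mem_E5]; infer_instance

theorem VE : V5 ≤ E5 := by
  intro s hs
  rw [mem_E5]
  rcases hs with rfl | rfl | rfl | rfl <;> decide

theorem WE : W5 ≤ E5 := by
  intro s hs
  rw [mem_E5]
  rcases hs with rfl | rfl | rfl | rfl <;> decide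

set_option maxRecDepth 100000 in
theorem VW' : ∀ s : S5, s * z5 = z5 * s → s * s = 1 → inV s ∨ inW s := by decide

theorem VW (s : S5) (h : s ∈ E5) (hs : s * s = 1) : s ∈ V5 ∨ s ∈ W5 := VW' s h hs

set_option maxRecDepth 100000 in
theorem card_sq' : (Finset.univ.filter (fun s : S5 => s * s = 1)).card = 26 := by decide

theorem card_sq : Nat.card {s : S5 // s * s = 1} = 26 := by
  rw [Nat.card_eq_fintype_card, Fintype.card_subtype, card_sq']

set_option maxRecDepth 100000 in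
theorem card_E' : (Finset.univ.filter (fun s : S5 => s * z5 = z5 * s)).card = 8 := by decide

theorem card_E : Nat.card E5 = 8 := by
  have : Nat.card E5 = Nat.card {s : S5 // s * z5 = z5 * s} := rfl
  rw [this, Nat.card_eq_fintype_card, Fintype.card_subtype, card_E']

set_option maxRecDepth 100000 in
theorem card_V' : (Finset.univ.filter (fun s : S5 => inV s)).card = 4 := by decide

theorem card_V : Nat.card V5 = 4 := by
  have : Nat.card V5 = Nat.card {s : S5 // inV s} := rfl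
  rw [this, Nat.card_eq_fintype_card, Fintype.card_subtype, card_V']

set_option maxRecDepth 100000 in
theorem card_W' : (Finset.univ.filter (fun s : S5 => inW s)).card = 4 := by decide

theorem card_W : Nat.card W5 = 4 := by
  have : Nat.card W5 = Nat.card {s : S5 // inW s} := rfl
  rw [this, Nat.card_eq_fintype_card, Fintype.card_subtype, card_W']

theorem card_S5 : Nat.card S5 = 120 := by
  rw [Nat.card_eq_fintype_card, Fintype.card_perm, Fintype.card_fin]
  rfl

theorem Vsq (v : S5) (h : v ∈ V5) : v * v = 1 := by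
  rcases h with rfl | rfl | rfl | rfl <;> decide

theorem Wsq (v : S5) (h : v ∈ W5) : v * v = 1 := by
  rcases h with rfl | rfl | rfl | rfl <;> decide

theorem zV : z5 ∈ V5 := Or.inr (Or.inl rfl)
theorem zW : z5 ∈ W5 := Or.inr (Or.inl rfl)
theorem z1 : z5 ≠ 1 := by decide

set_option maxRecDepth 100000 in
theorem cen' : ∀ e : S5, e * z5 = z5 * e → e * e = 1 →
    e * (swap 0 1 * swap 2 3) = (swap 0 1 * swap 2 3) * e → e * swap 0 2 = swap 0 2 * e →
      e = 1 ∨ e = z5 := by decide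

theorem cen (e : S5) (h : e ∈ E5) (ee : e * e = 1) (hV : ∀ v ∈ V5, e * v = v * e)
    (hW : ∀ w ∈ W5, e * w = w * e) : e = 1 ∨ e = z5 :=
  cen' e h ee (hV _ (Or.inr (Or.inr (Or.inl rfl)))) (hW _ (Or.inr (Or.inr (Or.inl rfl))))

set_option maxRecDepth 100000 in
theorem EV' : ∀ x : S5, x * z5 = z5 * x → inV (x * (swap 0 1 * swap 2 3) * x⁻¹) ∧
    inV (x * (swap 0 3 * swap 1 2) * x⁻¹) ∧ inV (x * z5 * x⁻¹) ∧ inW (x * z5 * x⁻¹) ∧
    inW (x * swap 0 2 * x⁻¹) ∧ inW (x * swap 1 3 * x⁻¹) := by decide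

theorem EV (x : S5) (hx : x ∈ E5) (v : S5) (hv : v ∈ V5) : x * v * x⁻¹ ∈ V5 := by
  obtain ⟨h1, h2, h3, -⟩ := EV' x hx
  rcases hv with rfl | rfl | rfl | rfl
  · rw [mul_one, mul_inv_cancel]; exact V5.one_mem
  · exact h3
  · exact h1
  · exact h2

theorem EW (x : S5) (hx : x ∈ E5) (v : S5) (hv : v ∈ W5) : x * v * x⁻¹ ∈ W5 := by
  obtain ⟨-, -, -, h1, h2, h3⟩ := EV' x hx
  rcases hv with rfl | rfl | rfl | rfl
  · rw [mul_one, mul_inv_cancel]; exact W5.one_mem
  · exact h1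
  · exact h2
  · exact h3

theorem Vtr (v : S5) (hv : v ∈ V5) (h1 : v ≠ 1) :
    ∃ r : S5, (∀ u ∈ V5, r * u * r⁻¹ ∈ V5) ∧ r * z5 * r⁻¹ = v := by
  rcases hv with rfl | rfl | rfl | rfl
  · exact absurd rfl h1
  · exact ⟨1, fun u hu => by rw [one_mul, inv_one, mul_one]; exact hu, by rw [one_mul, inv_one,
      mul_one]⟩
  · refine ⟨swap 1 2, fun u hu => ?_, by decide⟩
    rcases hu with rfl | rfl | rfl | rfl <;> decide
  · refine ⟨swap 2 3, fun u hu => ?_, by decide⟩
    rcases hu with rfl | rfl | rfl | rfl <;> decide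

end Cfsg.Agent.OddHalf.MMOut.SFive

end

-- merged: Cfsg.Agent.OddHalf.MMOut.ToolThree
section

/-!
# TOOL 3 for `C_Y(t) = ⟨t⟩ × S₅` (K = M22, outer case; Lean by helper569)
-/

set_option autoImplicit false

namespace Cfsg.Agent.OddHalf.MMOut.ToolThree

open Subgroup

/-! ### `S₅` -/

abbrev P := Equiv.Perm (Fin 5)

/-- `(0 2)(1 3)` -/
def zP : P := Equiv.swap 0 2 * Equiv.swap 1 3
/-- `(0 1)(2 3)` -/
def aP : P := Equiv.swap 0 1 * Equiv.swap 2 3
/-- `(0 3)(1 2)` -/
def bP : P := Equiv.swap 0 3 * Equiv.swap 1 2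
/-- `(0 2)` -/
def cP : P := Equiv.swap 0 2
/-- `(1 3)` -/
def dP : P := Equiv.swap 1 3

def VP : Subgroup P where
  carrier := {g | g = 1 ∨ g = zP ∨ g = aP ∨ g = bP}
  one_mem' := Or.inl rfl
  mul_mem' := by
    rintro _ _ (rfl | rfl | rfl | rfl) (rfl | rfl | rfl | rfl) <;> simp only [Set.mem_ofPred_eq] <;> decide
  inv_mem' := by
    rintro _ (rfl | rfl | rfl | rfl) <;> simp only [Set.mem_ofPred_eq] <;> decide

def WP : Subgroup P where
  carrier := {g | g = 1 ∨ g = zP ∨ g = cP ∨ g = dP}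
  one_mem' := Or.inl rfl
  mul_mem' := by
    rintro _ _ (rfl | rfl | rfl | rfl) (rfl | rfl | rfl | rfl) <;> simp only [Set.mem_ofPred_eq] <;> decide
  inv_mem' := by
    rintro _ (rfl | rfl | rfl | rfl) <;> simp only [Set.mem_ofPred_eq] <;> decide

theorem mem_VP {g : P} : g ∈ VP ↔ g = 1 ∨ g = zP ∨ g = aP ∨ g = bP := Iff.rfl
theorem mem_WP {g : P} : g ∈ WP ↔ g = 1 ∨ g = zP ∨ g = cP ∨ g = dP := Iff.rfl

def EP : Subgroup P where
  carrier := {g | g * zP = zP * g}
  one_mem' := by simp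
  mul_mem' := by
    intro a b ha hb
    simp only [Set.mem_ofPred_eq] at ha hb ⊢
    rw [mul_assoc, hb, ← mul_assoc, ha, mul_assoc]
  inv_mem' := by
    intro a ha
    simp only [Set.mem_ofPred_eq] at ha ⊢
    rw [inv_mul_eq_iff_eq_mul, ← mul_assoc, ha, mul_inv_cancel_right]

theorem mem_EP {g : P} : g ∈ EP ↔ g * zP = zP * g := Iff.rfl

instance : DecidablePred (· ∈ VP) := fun _ => decidable_of_iff _ mem_VP.symm
instance : DecidablePred (· ∈ WP) := fun _ => decidable_of_iff _ mem_WP.symm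
instance : DecidablePred (· ∈ EP) := fun _ => decidable_of_iff _ mem_EP.symm

theorem card_VP : Nat.card VP = 4 := by
  rw [Nat.card_eq_fintype_card]; decide +kernel
theorem card_WP : Nat.card WP = 4 := by
  rw [Nat.card_eq_fintype_card]; decide +kernel
theorem card_EP : Nat.card EP = 8 := by
  rw [Nat.card_eq_fintype_card]; decide +kernel

theorem V_le : VP ≤ EP := by
  rintro g (rfl | rfl | rfl | rfl) <;> rw [mem_EP] <;> decide
theorem W_le : WP ≤ EP := by
  rintro g (rfl | rfl | rfl | rfl) <;> rw [mem_EP] <;> decide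
theorem V_sq : ∀ v ∈ VP, v * v = 1 := by
  rintro g (rfl | rfl | rfl | rfl) <;> decide
theorem W_sq : ∀ v ∈ WP, v * v = 1 := by
  rintro g (rfl | rfl | rfl | rfl) <;> decide

theorem E_list : ∀ g : P, g * zP = zP * g →
    g = 1 ∨ g = zP ∨ g = aP ∨ g = bP ∨ g = cP ∨ g = dP ∨ g = aP * cP ∨ g = cP * aP := by
  decide +kernel

theorem E_VW : ∀ g ∈ EP, g * g = 1 → g ∈ VP ∨ g ∈ WP := by
  intro g hg
  rcases E_list g hg with rfl | rfl | rfl | rfl | rfl | rfl | rfl | rfl <;> decide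

theorem E_cen : ∀ g ∈ EP, g * g = 1 → (∀ v ∈ VP, g * v = v * g) → (∀ w ∈ WP, g * w = w * g) →
    g = 1 ∨ g = zP := by
  intro g hg h1 h2 h3
  have h4 := h2 aP (Or.inr (Or.inr (Or.inl rfl)))
  have h5 := h3 cP (Or.inr (Or.inr (Or.inl rfl)))
  revert h1 h4 h5
  rcases E_list g hg with rfl | rfl | rfl | rfl | rfl | rfl | rfl | rfl <;> decide

theorem E_V : ∀ x ∈ EP, ∀ v ∈ VP, x * v * x⁻¹ ∈ VP := by
  intro x hx v hv
  rcases E_list x hx with rfl | rfl | rfl | rfl | rfl | rfl | rfl | rfl <;>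
    rcases hv with rfl | rfl | rfl | rfl <;> decide

theorem E_W : ∀ x ∈ EP, ∀ v ∈ WP, x * v * x⁻¹ ∈ WP := by
  intro x hx v hv
  rcases E_list x hx with rfl | rfl | rfl | rfl | rfl | rfl | rfl | rfl <;>
    rcases hv with rfl | rfl | rfl | rfl <;> decide

theorem V_tr : ∀ v ∈ VP, v ≠ 1 → ∃ r : P, (∀ u ∈ VP, r * u * r⁻¹ ∈ VP) ∧ r * zP * r⁻¹ = v := by
  intro v hv hv1
  have key : ∀ r : P, (∀ u ∈ VP, r * u * r⁻¹ ∈ VP) ↔
      (r * zP * r⁻¹ ∈ VP ∧ r * aP * r⁻¹ ∈ VP ∧ r * bP * r⁻¹ ∈ VP) := by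
    intro r
    constructor
    · intro h
      exact ⟨h _ (Or.inr (Or.inl rfl)), h _ (Or.inr (Or.inr (Or.inl rfl))),
        h _ (Or.inr (Or.inr (Or.inr rfl)))⟩
    · rintro ⟨h1, h2, h3⟩ u (rfl | rfl | rfl | rfl)
      · rw [mul_one, mul_inv_cancel]; exact VP.one_mem
      · exact h1
      · exact h2
      · exact h3
  rcases hv with rfl | rfl | rfl | rfl
  · exact absurd rfl hv1
  · exact ⟨1, (key 1).2 (by decide), by decide⟩
  · exact ⟨Equiv.swap 1 2, (key _).2 (by decide), by decide⟩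
  · exact ⟨Equiv.swap 2 3, (key _).2 (by decide), by decide⟩

theorem card_inv : Nat.card {g : P // g * g = 1} = 26 := by
  rw [Nat.card_eq_fintype_card]; decide +kernel

/-! ### the group `Y` -/

section Main

variable {Y : Type*} [Group Y]

/-- `C_Y(t) = ⟨t⟩ × φ(S₅)` and `t^Y ∩ C_Y(t) = t(1 ∪ I(S₅))` -/
structure Hyp (t : Y) (φ : P →* Y) : Prop where
  tt : t * t = 1
  inj : Function.Injective φ
  comm : ∀ p, φ p * t = t * φ p
  tn : ∀ p, t ≠ φ p
  cent : ∀ y, y * t = t * y → ∃ p, y = φ p ∨ y = t * φ p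
  h1 : ∀ p : P, p * p = 1 → IsConj t (t * φ p)
  h2 : ∀ p : P, ¬ IsConj t (φ p)

variable {t : Y} {φ : P →* Y}

/-- `⟨t⟩ φ(H)` -/
def Tg (h : Hyp t φ) (H : Subgroup P) : Subgroup Y where
  carrier := {y | ∃ p ∈ H, y = φ p ∨ y = t * φ p}
  one_mem' := ⟨1, H.one_mem, Or.inl (map_one φ).symm⟩
  mul_mem' := by
    rintro _ _ ⟨p, hp, rfl | rfl⟩ ⟨q, hq, rfl | rfl⟩
    · exact ⟨p * q, H.mul_mem hp hq, Or.inl (map_mul _ _ _).symm⟩
    · refine ⟨p * q, H.mul_mem hp hq, Or.inr ?_⟩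
      rw [map_mul, ← mul_assoc, h.comm, mul_assoc]
    · refine ⟨p * q, H.mul_mem hp hq, Or.inr ?_⟩
      rw [map_mul, mul_assoc]
    · refine ⟨p * q, H.mul_mem hp hq, Or.inl ?_⟩
      calc t * φ p * (t * φ q) = t * (φ p * t) * φ q := by group
        _ = t * (t * φ p) * φ q := by rw [h.comm]
        _ = (t * t) * (φ p * φ q) := by group
        _ = _ := by rw [h.tt, one_mul, map_mul]
  inv_mem' := by
    rintro _ ⟨p, hp, rfl | rfl⟩
    · exact ⟨p⁻¹, H.inv_mem hp, Or.inl (map_inv _ _).symm⟩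
    · refine ⟨p⁻¹, H.inv_mem hp, Or.inr ?_⟩
      have ht : t⁻¹ = t := inv_eq_of_mul_eq_one_left h.tt
      have h3 := h.comm p⁻¹
      rw [mul_inv_rev, ht, ← map_inv, h3]

theorem mem_Tg (h : Hyp t φ) (H : Subgroup P) {y : Y} :
    y ∈ Tg h H ↔ ∃ p ∈ H, y = φ p ∨ y = t * φ p := Iff.rfl

theorem card_Tg (h : Hyp t φ) (H : Subgroup P) : Nat.card (Tg h H) = 2 * Nat.card H := by
  classical
  have e : (H × Bool) ≃ Tg h H := by
    refine Equiv.ofBijective (fun x => ⟨if x.2 then t * φ x.1 else φ x.1, ?_⟩) ⟨?_, ?_⟩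
    · refine ⟨x.1, x.1.2, ?_⟩
      by_cases hx : x.2
      · right; simp [hx]
      · left; simp [hx]
    · rintro ⟨p, a⟩ ⟨q, b⟩ hpq
      have h3 : (if a then t * φ p else φ p) = (if b then t * φ q else φ q) := congrArg Subtype.val hpq
      have ht : ∀ p q : P, t * φ p ≠ φ q := by
        intro p q h4
        apply h.tn (q * p⁻¹)
        rw [map_mul, map_inv, ← h4, mul_inv_cancel_right]
      cases a <;> cases b
      · simp only [Bool.false_eq_true, if_false] at h3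
        exact Prod.ext (Subtype.ext (h.inj h3)) rfl
      · simp only [Bool.false_eq_true, if_false, if_true] at h3
        exact absurd h3.symm (ht _ _)
      · simp only [Bool.false_eq_true, if_false, if_true] at h3
        exact absurd h3 (ht _ _)
      · simp only [if_true] at h3
        exact Prod.ext (Subtype.ext (h.inj (mul_left_cancel h3))) rfl
    · rintro ⟨y, p, hp, hy⟩
      rcases hy with rfl | rfl
      · exact ⟨⟨⟨p, hp⟩, false⟩, Subtype.ext (by simp)⟩
      · exact ⟨⟨⟨p, hp⟩, true⟩, Subtype.ext (by simp)⟩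
  rw [← Nat.card_congr e, Nat.card_prod, mul_comm]
  simp

theorem centralizer_eq (h : Hyp t φ) : centralizer ({t} : Set Y) = Tg h ⊤ := by
  ext y
  rw [mem_centralizer_singleton_iff, mem_Tg]
  constructor
  · intro hy
    obtain ⟨p, hp⟩ := h.cent y hy
    exact ⟨p, mem_top p, hp⟩
  · rintro ⟨p, -, rfl | rfl⟩
    · exact h.comm p
    · calc t * φ p * t = t * (φ p * t) := by group
        _ = t * (t * φ p) := by rw [h.comm]

theorem conj_inv {y : Y} (h : Hyp t φ) (hy : IsConj t y) : y * y = 1 := by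
  obtain ⟨g, rfl⟩ := isConj_iff.1 hy
  calc g * t * g⁻¹ * (g * t * g⁻¹) = g * (t * t) * g⁻¹ := by group
    _ = 1 := by rw [h.tt]; group

theorem class_eq (h : Hyp t φ) {y : Y} (hy : y * t = t * y) (hc : IsConj t y) :
    ∃ p, p * p = 1 ∧ y = t * φ p := by
  obtain ⟨p, hp | hp⟩ := h.cent y hy
  · exact absurd (hp ▸ hc) (h.h2 p)
  · refine ⟨p, ?_, hp⟩
    have h3 := conj_inv h hc
    have h4 : φ (p * p) = 1 := by
      rw [map_mul]
      calc φ p * φ p = (t * t) * (φ p * φ p) := by rw [h.tt, one_mul]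
        _ = t * (t * φ p) * φ p := by group
        _ = t * (φ p * t) * φ p := by rw [h.comm]
        _ = t * φ p * (t * φ p) := by group
        _ = 1 := by rw [← hp, h3]
    exact h.inj (h4.trans (map_one φ).symm)

theorem data [Finite Y] (h : Hyp t φ) :
    LambdaD8.Data t (Tg h EP) (EP.map φ) (VP.map φ) (WP.map φ) (φ zP) where
  tt := h.tt
  tT := ⟨1, EP.one_mem, Or.inr (by rw [map_one, mul_one])⟩
  Tt := by
    rintro _ ⟨p, -, rfl | rfl⟩
    · exact h.comm p
    · calc t * φ p * t = t * (φ p * t) := by group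
        _ = t * (t * φ p) := by rw [h.comm]
  T2 := IsPGroup.iff_card.2 ⟨4, by rw [card_Tg, card_EP]; norm_num⟩
  Tsyl := by
    have hle : Tg h EP ≤ centralizer ({t} : Set Y) := by
      rw [centralizer_eq h]
      rintro y ⟨p, -, hp⟩
      exact ⟨p, mem_top p, hp⟩
    have h1 := Subgroup.card_mul_index ((Tg h EP).subgroupOf (centralizer ({t} : Set Y)))
    rw [Nat.card_congr (Subgroup.subgroupOfEquivOfLe hle).toEquiv, card_Tg, card_EP,
      centralizer_eq h, card_Tg] at h1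
    have h2 : Nat.card (⊤ : Subgroup P) = 120 := by
      rw [Nat.card_congr (Subgroup.topEquiv (G := P)).toEquiv, Nat.card_eq_fintype_card,
        Fintype.card_perm, Fintype.card_fin]
      rfl
    rw [h2] at h1
    change 2 * 8 * (Tg h EP).relIndex (Tg h ⊤) = 2 * 120 at h1
    rw [centralizer_eq h]
    omega
  ET := by
    rintro _ ⟨p, hp, rfl⟩
    exact ⟨p, hp, Or.inl rfl⟩
  tE := by
    rintro ⟨p, -, hp⟩
    exact h.tn p hp.symm
  fus := by
    rintro x ⟨p, hp, rfl | rfl⟩ hc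
    · exact absurd hc (h.h2 p)
    · refine ⟨φ p, ⟨p, hp, rfl⟩, ?_, rfl⟩
      obtain ⟨q, hq, hpq⟩ := class_eq h (y := t * φ p) (by
        calc t * φ p * t = t * (φ p * t) := by group
          _ = t * (t * φ p) := by rw [h.comm]) hc
      rw [mul_left_cancel hpq, ← map_mul, hq, map_one]
  fus' := by
    rintro _ ⟨p, hp, rfl⟩ hpp
    apply h.h1
    rw [← map_mul] at hpp
    exact h.inj (hpp.trans (map_one φ).symm)
  VE := Subgroup.map_mono V_le
  WE := Subgroup.map_mono W_le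
  Vcard := by
    rw [← card_VP]
    exact (Nat.card_congr (VP.equivMapOfInjective φ h.inj).toEquiv).symm
  Vsq := by
    rintro _ ⟨p, hp, rfl⟩
    rw [← map_mul, V_sq p hp, map_one]
  Wsq := by
    rintro _ ⟨p, hp, rfl⟩
    rw [← map_mul, W_sq p hp, map_one]
  VW := by
    rintro _ ⟨p, hp, rfl⟩ hpp
    rw [← map_mul] at hpp
    rcases E_VW p hp (h.inj (hpp.trans (map_one φ).symm)) with h1 | h1
    · exact Or.inl ⟨p, h1, rfl⟩
    · exact Or.inr ⟨p, h1, rfl⟩
  zV := ⟨zP, Or.inr (Or.inl rfl), rfl⟩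
  zW := ⟨zP, Or.inr (Or.inl rfl), rfl⟩
  z1 := by
    intro h1
    have h2 : zP = 1 := h.inj (h1.trans (map_one φ).symm)
    exact absurd h2 (by decide)
  cen := by
    rintro _ ⟨p, hp, rfl⟩ hpp hV hW
    rw [← map_mul] at hpp
    rcases E_cen p hp (h.inj (hpp.trans (map_one φ).symm))
      (fun v hv => h.inj (by rw [map_mul, map_mul]; exact hV _ ⟨v, hv, rfl⟩))
      (fun v hv => h.inj (by rw [map_mul, map_mul]; exact hW _ ⟨v, hv, rfl⟩)) with h1 | h1
    · left; rw [h1, map_one]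
    · right; rw [h1]
  TV := by
    rintro _ ⟨p, hp, rfl | rfl⟩ _ ⟨v, hv, rfl⟩
    · exact ⟨p * v * p⁻¹, E_V p hp v hv, by rw [map_mul, map_mul, map_inv]⟩
    · refine ⟨p * v * p⁻¹, E_V p hp v hv, ?_⟩
      rw [map_mul, map_mul, map_inv]
      have h1 := h.comm (p * v * p⁻¹)
      rw [map_mul, map_mul, map_inv] at h1
      calc φ p * φ v * (φ p)⁻¹ = (φ p * φ v * (φ p)⁻¹) * t * t⁻¹ := by group
        _ = t * (φ p * φ v * (φ p)⁻¹) * t⁻¹ := by rw [h1]
        _ = _ := by group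
  TW := by
    rintro _ ⟨p, hp, rfl | rfl⟩ _ ⟨v, hv, rfl⟩
    · exact ⟨p * v * p⁻¹, E_W p hp v hv, by rw [map_mul, map_mul, map_inv]⟩
    · refine ⟨p * v * p⁻¹, E_W p hp v hv, ?_⟩
      rw [map_mul, map_mul, map_inv]
      have h1 := h.comm (p * v * p⁻¹)
      rw [map_mul, map_mul, map_inv] at h1
      calc φ p * φ v * (φ p)⁻¹ = (φ p * φ v * (φ p)⁻¹) * t * t⁻¹ := by group
        _ = t * (φ p * φ v * (φ p)⁻¹) * t⁻¹ := by rw [h1]
        _ = _ := by group
  two := by
    have hc : ∀ p : P, t * φ p * t = t * (t * φ p) := by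
      intro p
      calc t * φ p * t = t * (φ p * t) := by group
        _ = t * (t * φ p) := by rw [h.comm]
    let f : {g : P // g * g = 1} → {d : Y // IsConj t d ∧ d * t = t * d} :=
      fun g => ⟨t * φ g.1, h.h1 g.1 g.2, hc g.1⟩
    have hf : Function.Bijective f := by
      constructor
      · rintro ⟨a, ha⟩ ⟨b, hb⟩ hab
        exact Subtype.ext (h.inj (mul_left_cancel (congrArg Subtype.val hab)))
      · rintro ⟨d, hd1, hd2⟩
        obtain ⟨p, hp, rfl⟩ := class_eq h hd2 hd1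
        exact ⟨⟨p, hp⟩, rfl⟩
    have e := (Equiv.ofBijective f hf).symm
    rw [Nat.card_congr e, card_inv]
  Vtr := by
    rintro _ ⟨v, hv, rfl⟩ hv1
    have hv2 : v ≠ 1 := by rintro rfl; exact hv1 (map_one φ)
    obtain ⟨r, hr1, hr2⟩ := V_tr v hv hv2
    refine ⟨φ r, h.comm r, ?_, by rw [← hr2, map_mul, map_mul, map_inv]⟩
    rintro _ ⟨u, hu, rfl⟩
    exact ⟨r * u * r⁻¹, hr1 u hu, by rw [map_mul, map_mul, map_inv]⟩

/-- **TOOL 3 for `S₅`** -/
theorem notMem [Finite Y] (h : Hyp t φ) : t ∉ commutator Y := by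
  refine LambdaD8.notMem_commutator (data h) ?_ ?_ ?_
  · rw [← card_WP]
    exact (Nat.card_congr (WP.equivMapOfInjective φ h.inj).toEquiv).symm
  · rw [← card_EP]
    exact (Nat.card_congr (EP.equivMapOfInjective φ h.inj).toEquiv).symm
  · rintro x ⟨p, hp, rfl | rfl⟩
    · exact Or.inl ⟨p, hp, rfl⟩
    · right
      rw [← mul_assoc, h.tt, one_mul]
      exact ⟨p, hp, rfl⟩

/-- helper908's form -/
theorem notMem' [Finite Y] (t : Y) (L : Subgroup Y) (tt : t * t = 1) (tL : t ∉ L)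
    (hLt : ∀ l ∈ L, l * t = t * l) (hC : ∀ y, y * t = t * y → y ∈ L ∨ t * y ∈ L)
    (e : L ≃* Equiv.Perm (Fin 5)) (h1 : ∀ l ∈ L, l * l = 1 → ∃ y, y * t * y⁻¹ = t * l)
    (h2 : ∀ l ∈ L, ∀ y, y * t * y⁻¹ ≠ l) : t ∉ commutator Y := by
  refine notMem (t := t) (φ := L.subtype.comp e.symm.toMonoidHom) ⟨tt, ?_, ?_, ?_, ?_, ?_, ?_⟩
  · exact (L.subtype_injective).comp e.symm.injective
  · intro p
    exact hLt _ (e.symm p).2
  · intro p hp
    apply tL
    rw [hp]
    exact (e.symm p).2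
  · intro y hy
    rcases hC y hy with h | h
    · exact ⟨e ⟨y, h⟩, Or.inl (by simp)⟩
    · refine ⟨e ⟨t * y, h⟩, Or.inr ?_⟩
      simp [← mul_assoc, tt]
  · intro p hp
    rw [isConj_iff]
    apply h1 _ (e.symm p).2
    have : e.symm p * e.symm p = 1 := by rw [← map_mul, hp, map_one]
    exact congrArg Subtype.val this
  · intro p hp
    obtain ⟨y, hy⟩ := isConj_iff.1 hp
    exact h2 _ (e.symm p).2 y hy

theorem exists_mu.{u} {Y : Type u} [Group Y] [Finite Y] (t : Y) (L : Subgroup Y) (tt : t * t = 1)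
    (tL : t ∉ L) (hLt : ∀ l ∈ L, l * t = t * l) (hC : ∀ y, y * t = t * y → y ∈ L ∨ t * y ∈ L)
    (e : L ≃* Equiv.Perm (Fin 5)) (h1 : ∀ l ∈ L, l * l = 1 → ∃ y, y * t * y⁻¹ = t * l)
    (h2 : ∀ l ∈ L, ∀ y, y * t * y⁻¹ ≠ l) :
    ∃ (B : Type u) (_ : CommGroup B) (mu : Y →* B), mu t ≠ 1 := by
  refine ⟨Abelianization Y, inferInstance, Abelianization.of, fun h => ?_⟩
  rw [← MonoidHom.mem_ker, Abelianization.ker_of] at h
  exact notMem' t L tt tL hLt hC e h1 h2 h

end Main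

end Cfsg.Agent.OddHalf.MMOut.ToolThree

end

-- merged: Cfsg.Agent.OddHalf.MMOut.EndM
section

/-!
# ODD half, D8, `M22`, outer case: the end (helper244, text of helper908 [VI])

`C_G(t) = ⟨t⟩ × A`, `X ≤ Z`, `Z` elementary abelian of order 32 (the unique `E_32` of a Sylow 2-subgroup
of `A`), `N = N_A(X)`, `N/Z = S5`, `M ⊇ Z` elementary abelian, `C_M(t) = Z`, `[M, t] = X` of order 16 or 32.
Every involution of `N/Z` is the image of an involution `w` with `tw` conjugate to `t`. No element of `N`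
is conjugate to `t`. Then `G` is not perfect.
-/

set_option autoImplicit false

namespace Cfsg.Agent.OddHalf.MMOut

open MM SFive FI Subgroup

variable {G : Type*} [Group G]

/-- the Sylow 2-subgroup `⟨t⟩ × π⁻¹(D8)` of `C(t)` -/
def TA {t : G} {N : Subgroup G} (tt : t * t = 1) (cN : ∀ n ∈ N, n * t = t * n) (π : N →* S5) :
    Subgroup G :=
  dbl (t := t) (X := (E5.comap π).map N.subtype) tt (by
    rintro x ⟨n, -, rfl⟩
    exact cN n n.2)

/-- the data -/
structure EndSheet (t : G) (X Z N M : Subgroup G) (π : N →* S5) : Prop where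
  tt : t * t = 1
  cN : ∀ n ∈ N, n * t = t * n
  tN : t ∉ N
  XZ : X ≤ Z
  ZN : Z ≤ N
  elZ : El Z
  cardZ : Nat.card Z = 32
  cardX : Nat.card X = 16 ∨ Nat.card X = 32
  /-- `N/Z = S5` -/
  ker : ∀ n : N, π n = 1 ↔ (n : G) ∈ Z
  surj : Function.Surjective π
  NX : ∀ n ∈ N, Nrm n X
  /-- `C_A(Z) = Z`, `N = N_A(Z)` -/
  CZ : ∀ n ∈ N, Cen n Z → n ∈ Z
  nZ : ∀ g, g * t = t * g → Nrm g Z → g ∈ N ∨ t * g ∈ N
  /-- `C(t)` has 2-rank 6 -/
  rank : ∀ E : Subgroup G, El E → (∀ x ∈ E, x * t = t * x) → Nat.card E ≤ 64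
  /-- `⟨t⟩Z` is the unique `E_64` of the Sylow subgroup `T` -/
  uniq : ∀ E : Subgroup G, E ≤ TA tt cN π → El E → Nat.card E = 64 →
    ∀ x, x ∈ E ↔ (x ∈ Z ∨ t * x ∈ Z)
  syl : ¬ 2 ∣ (TA tt cN π).relIndex (centralizer {t})
  /-- no conjugate of `t` lies in `N` -/
  DN : ∀ n ∈ N, ∀ g : G, g * t * g⁻¹ ≠ n
  /-- the conjugates of `t` in `tZ` lie in `tX` -/
  DtZ : ∀ z ∈ Z, ∀ g : G, g * t * g⁻¹ = t * z → z ∈ X
  /-- the involutions of `N/Z` -/
  lift : ∀ s : S5, s * s = 1 → s ≠ 1 → ∃ w : N, π w = s ∧ (w : G) * w = 1 ∧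
    (∃ g : G, g * t * g⁻¹ = t * w) ∧
    (Nat.card X = 16 → (∀ z ∈ Z, (w : G) * z * (w : G)⁻¹ * z⁻¹ ∈ X) ∧
      (∀ x ∈ X, (w : G) * x = x * w → ∃ u ∈ X, x = w * u * (w : G)⁻¹ * u⁻¹) ∧
      ∃ b ∈ Z, b ∉ X ∧ (w : G) * b = b * w)
  /-- the layer `M` -/
  elM : El M
  cardM : Nat.card M = Nat.card X * 32
  ZM : Z ≤ M
  tM : Nrm t M
  fix : ∀ m ∈ M, m * t = t * m → m ∈ Z
  onto : ∀ x ∈ X, ∃ m ∈ M, m * t * m⁻¹ = t * x
  uniqM : ∀ E : Subgroup G, El E → (∀ f ∈ E, Cen f X ∧ ∃ x ∈ X, f * t * f⁻¹ = t * x) →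
    Nat.card E = Nat.card M → E = M

namespace EndSheet

variable [Finite G] {t : G} {X Z N M : Subgroup G} {π : N →* S5}

theorem cZ (h : EndSheet t X Z N M π) : ∀ v ∈ Z, v * t = t * v := fun v hv => h.cN v (h.ZN hv)

theorem ti (h : EndSheet t X Z N M π) : t⁻¹ = t := inv_eq_of_mul_eq_one_right h.tt

theorem XM (h : EndSheet t X Z N M π) : X ≤ M := h.XZ.trans h.ZM

/-- the commutator `t m t m` -/
theorem com_fix (h : EndSheet t X Z N M π) {M' : Subgroup G} (el : El M') (N' : Nrm t M') {m : G}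
    (hm : m ∈ M') : t * m * t * m ∈ fx t M' ∧ m * t * m⁻¹ = t * (t * m * t * m) := by
  have h1 : t * m * t⁻¹ ∈ M' := (N' m).2 hm
  have e1 : m⁻¹ = m := inv_eq_of_mul_eq_one_right (el m hm)
  have h2 := elc el h1 hm
  rw [h.ti] at h1 h2
  refine ⟨mem_fx.2 ⟨M'.mul_mem h1 hm, ?_⟩, ?_⟩
  · calc t * m * t * m * t = m * (t * m * t) * t := by rw [h2]
      _ = m * t * m * (t * t) := by group
      _ = (t * t) * (m * t * m) := by rw [h.tt, one_mul, mul_one]
      _ = t * (t * m * t * m) := by group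
  · rw [e1]
    calc m * t * m = (t * t) * (m * t * m) := by rw [h.tt, one_mul]
      _ = t * (t * m * t * m) := by group

/-- `m t m⁻¹ ∈ tX` for `m ∈ M` -/
theorem beta (h : EndSheet t X Z N M π) {m : G} (hm : m ∈ M) : ∃ v ∈ X, m * t * m⁻¹ = t * v := by
  obtain ⟨h1, h2⟩ := h.com_fix h.elM h.tM hm
  exact ⟨_, h.DtZ _ (h.fix _ (mem_fx.1 h1).1 (mem_fx.1 h1).2) m h2, h2⟩

/-- `N` normalises `Z` -/
theorem NZ (h : EndSheet t X Z N M π) {n : G} (hn : n ∈ N) : Nrm n Z := by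
  have key : ∀ n ∈ N, ∀ x ∈ Z, n * x * n⁻¹ ∈ Z := by
    intro n hn x hx
    have h1 : π ⟨x, h.ZN hx⟩ = 1 := (h.ker _).2 hx
    have h2 : π (⟨n, hn⟩ * ⟨x, h.ZN hx⟩ * (⟨n, hn⟩)⁻¹) = 1 := by
      rw [map_mul, map_mul, h1, map_inv]; group
    exact (h.ker _).1 h2
  intro x
  refine ⟨fun hx => ?_, key n hn x⟩
  have := key n⁻¹ (N.inv_mem hn) _ hx
  have e : n⁻¹ * (n * x * n⁻¹) * n⁻¹⁻¹ = x := by group
  rwa [e] at this

/-- `C(M) ⊆ C(Z)` -/
theorem cenZ (h : EndSheet t X Z N M π) {g : G} (hg : Cen g M) : Cen g Z :=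
  fun x hx => hg x (h.ZM hx)

/-- `C(t) ∩ C(Z) = ⟨t⟩Z` -/
theorem cTZ (h : EndSheet t X Z N M π) {g : G} (hg : g * t = t * g) (hc : Cen g Z) :
    g ∈ Z ∨ t * g ∈ Z := by
  have hn : Nrm g Z := by
    intro x
    constructor
    · intro hx
      have h1 := hc _ hx
      have h2 : g * (g * x * g⁻¹) = g * x := by rw [h1]; group
      have this : x = g * x * g⁻¹ := (mul_left_cancel h2).symm
      rw [this]; exact hx
    · intro hx
      rw [hc x hx]; rw [mul_inv_cancel_right]; exact hx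
  rcases h.nZ g hg hn with h1 | h1
  · exact Or.inl (h.CZ g h1 hc)
  · refine Or.inr (h.CZ _ h1 ?_)
    intro x hx
    rw [mul_assoc, hc x hx, ← mul_assoc, ← h.cZ x hx, mul_assoc]

theorem card32 (h : EndSheet t X Z N M π) : Nat.card M = 512 ∨ Nat.card M = 1024 := by
  rw [h.cardM]
  rcases h.cardX with h1 | h1 <;> rw [h1] <;> omega

/-- `t` does not centralise `M` -/
theorem t_not_cen (h : EndSheet t X Z N M π) : ¬ Cen t M := by
  intro hc
  have h1 : M ≤ Z := fun m hm => h.fix m hm (hc m hm).symm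
  have h2 := Subgroup.card_le_of_le h1
  rw [h.cardZ] at h2
  rcases h.card32 with h3 | h3 <;> omega

/-- uniqueness for conjugates of `M` -/
theorem cj_eq (h : EndSheet t X Z N M π) {g : G} (h1 : ∀ m ∈ M, Cen (g * m * g⁻¹) X)
    (h2 : ∀ m ∈ M, ∃ v ∈ X, (g * m * g⁻¹) * t * (g * m * g⁻¹)⁻¹ = t * v) : cj g M = M := by
  apply h.uniqM _ (El.cj h.elM g) _ (card_cj g M)
  intro x hx
  have hx' := mem_cj.1 hx
  have e : g * (g⁻¹ * x * g) * g⁻¹ = x := by group
  have a1 := h1 _ hx'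
  have a2 := h2 _ hx'
  rw [e] at a1 a2
  exact ⟨a1, a2⟩

/-- `N` normalises `M` -/
theorem NM (h : EndSheet t X Z N M π) {n : G} (hn : n ∈ N) : cj n M = M := by
  have hN := h.NX n hn
  apply h.cj_eq
  · intro m hm x hx
    have h1 : n⁻¹ * x * n ∈ X := by
      have := (hN (n⁻¹ * x * n)).1
      apply this
      have e : n * (n⁻¹ * x * n) * n⁻¹ = x := by group
      rw [e]; exact hx
    have h2 := elc h.elM hm (h.XM h1)
    calc n * m * n⁻¹ * x = n * (m * (n⁻¹ * x * n)) * n⁻¹ := by group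
      _ = n * (n⁻¹ * x * n * m) * n⁻¹ := by rw [h2]
      _ = x * (n * m * n⁻¹) := by group
  · intro m hm
    obtain ⟨v, hv, h1⟩ := h.beta hm
    refine ⟨n * v * n⁻¹, (hN v).2 hv, ?_⟩
    have hnt := h.cN n hn
    have h3 : n⁻¹ * t * n = t := by
      calc n⁻¹ * t * n = n⁻¹ * (t * n) := by group
        _ = n⁻¹ * (n * t) := by rw [hnt]
        _ = t := by group
    calc n * m * n⁻¹ * t * (n * m * n⁻¹)⁻¹ = n * (m * (n⁻¹ * t * n) * m⁻¹) * n⁻¹ := by group
      _ = n * (t * v) * n⁻¹ := by rw [h3, h1]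
      _ = (n * t) * v * n⁻¹ := by group
      _ = t * (n * v * n⁻¹) := by rw [hnt]; group

/-- a subgroup of an elementary abelian group of order `2^9` or `2^10` whose square is at least that order
has order at least 32 -/
theorem thirtytwo {M' F : Subgroup G} (hM : Nat.card M' = 512 ∨ Nat.card M' = 1024) (hF : F ≤ M')
    (h : Nat.card M' ≤ Nat.card F * Nat.card F) : 32 ≤ Nat.card F := by
  have hd : Nat.card F ∣ Nat.card M' := Subgroup.card_dvd_of_le hF
  have hp : ∃ k, Nat.card F = 2 ^ k := by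
    rcases hM with h1 | h1
    · rw [h1, show (512 : ℕ) = 2 ^ 9 by norm_num] at hd
      obtain ⟨k, -, hk⟩ := (Nat.dvd_prime_pow Nat.prime_two).1 hd
      exact ⟨k, hk⟩
    · rw [h1, show (1024 : ℕ) = 2 ^ 10 by norm_num] at hd
      obtain ⟨k, -, hk⟩ := (Nat.dvd_prime_pow Nat.prime_two).1 hd
      exact ⟨k, hk⟩
  obtain ⟨k, hk⟩ := hp
  rw [hk] at h ⊢
  have hk5 : 5 ≤ k := by
    by_contra hlt
    push Not at hlt
    have h1 : 2 ^ k ≤ 2 ^ 4 := Nat.pow_le_pow_right (by norm_num) (by omega)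
    have h2 : 2 ^ k * 2 ^ k ≤ 2 ^ 4 * 2 ^ 4 := Nat.mul_le_mul h1 h1
    norm_num at h2
    omega
  calc 32 = 2 ^ 5 := by norm_num
    _ ≤ 2 ^ k := Nat.pow_le_pow_right (by norm_num) hk5

/-- conjugates of `t` acting on `M` -/
theorem conj_free (h : EndSheet t X Z N M π) {d g : G} (hd : g * t * g⁻¹ = d) (hN : Nrm d M) :
    Nat.card (fx d M) = 32 ∧ d ∉ fx d M := by
  have dd : d * d = 1 := by
    rw [← hd]
    calc g * t * g⁻¹ * (g * t * g⁻¹) = g * (t * t) * g⁻¹ := by group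
      _ = 1 := by rw [h.tt]; group
  -- transport to `C(t)`
  have key : ∀ X : Subgroup G, El X → (∀ x ∈ X, x * d = d * x) → Nat.card X ≤ 64 := by
    intro X hX hc
    rw [← card_cj g⁻¹ X]
    apply h.rank _ (El.cj hX _)
    intro x hx
    have hx' := mem_cj.1 hx
    have h1 := hc _ hx'
    rw [inv_inv] at h1
    rw [← hd] at h1
    calc x * t = g⁻¹ * (g * x * g⁻¹ * (g * t * g⁻¹)) * g := by group
      _ = g⁻¹ * (g * t * g⁻¹ * (g * x * g⁻¹)) * g := by rw [h1]
      _ = t * x := by group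
  have hdM : d ∉ M := by
    intro hdM
    have h1 := key M h.elM (fun x hx => elc h.elM hx hdM)
    rcases h.card32 with h3 | h3 <;> omega
  have hdf : d ∉ fx d M := fun h1 => hdM (mem_fx.1 h1).1
  refine ⟨?_, hdf⟩
  have hcf : ∀ x ∈ fx d M, x * d = d * x := fun x hx => (mem_fx.1 hx).2
  have elf : El (fx d M) := fun x hx => h.elM x (mem_fx.1 hx).1
  have h1 := key (dbl dd hcf) (el_dbl dd hcf elf) (fun x hx => cent_dbl dd hcf hx)
  rw [card_dbl dd hcf hdf] at h1
  have h3 := thirtytwo h.card32 (fun x hx => (mem_fx.1 hx).1) (card_le_sq h.elM hN dd)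
  omega

theorem mem_TA (h : EndSheet t X Z N M π) {x : G} :
    x ∈ TA h.tt h.cN π ↔ ∃ n : N, π n ∈ E5 ∧ (x = n ∨ x = t * n) := by
  unfold TA
  rw [mem_dbl]
  constructor
  · rintro (⟨n, hn, rfl⟩ | ⟨n, hn, e⟩)
    · exact ⟨n, hn, Or.inl rfl⟩
    · refine ⟨n, hn, Or.inr ?_⟩
      have e' : (n : G) = t * x := e
      rw [e', ← mul_assoc, h.tt, one_mul]
  · rintro ⟨n, hn, rfl | rfl⟩
    · exact Or.inl ⟨n, hn, rfl⟩
    · refine Or.inr ⟨n, hn, ?_⟩
      show (n : G) = t * (t * n)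
      rw [← mul_assoc, h.tt, one_mul]

theorem TA_cent (h : EndSheet t X Z N M π) {x : G} (hx : x ∈ TA h.tt h.cN π) : x * t = t * x :=
  cent_dbl h.tt _ hx

theorem t_mem_TA (h : EndSheet t X Z N M π) : t ∈ TA h.tt h.cN π := by
  rw [h.mem_TA]
  exact ⟨1, by rw [map_one]; exact E5.one_mem, Or.inr (by simp)⟩

theorem E5_pow (s : S5) (hs : s ∈ E5) : s ^ 8 = 1 := by
  have h1 : (⟨s, hs⟩ : E5) ^ Nat.card E5 = 1 := pow_card_eq_one'
  rw [card_E] at h1
  exact congrArg Subtype.val h1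

theorem TA_two (h : EndSheet t X Z N M π) : IsPGroup 2 (TA h.tt h.cN π) := by
  rintro ⟨x, hx⟩
  refine ⟨4, Subtype.ext ?_⟩
  show x ^ (2 ^ 4) = 1
  obtain ⟨n, hn, hx'⟩ := h.mem_TA.1 hx
  have h1 : (n : G) ^ 8 ∈ Z := by
    have : π (n ^ 8) = 1 := by rw [map_pow]; exact E5_pow _ hn
    exact (h.ker _).1 this
  have h2 : (n : G) ^ 16 = 1 := by
    have := h.elZ _ h1
    calc (n : G) ^ 16 = n ^ 8 * n ^ 8 := by rw [← pow_add]
      _ = 1 := this
  rcases hx' with rfl | rfl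
  · exact h2
  · have hc : Commute t (n : G) := (h.cN n n.2).symm
    have h3 : t ^ 16 = 1 := by
      calc t ^ 16 = (t * t) ^ 8 := by rw [← pow_two, ← pow_mul]
        _ = 1 := by rw [h.tt, one_pow]
    show (t * (n : G)) ^ 16 = 1
    rw [hc.mul_pow, h2, h3, mul_one]

/-- `T` as a Sylow 2-subgroup of `C(t)` -/
theorem exists_syl (h : EndSheet t X Z N M π) : ∃ S : Sylow 2 (centralizer ({t} : Set G)),
    (S : Subgroup (centralizer ({t} : Set G))) =
      (TA h.tt h.cN π).subgroupOf (centralizer {t}) := by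
  have h1 : IsPGroup 2 ((TA h.tt h.cN π).subgroupOf (centralizer ({t} : Set G))) :=
    h.TA_two.comap_subtype
  have hf : Fact (Nat.Prime 2) := ⟨Nat.prime_two⟩
  exact ⟨h1.toSylow h.syl, rfl⟩

/-- 2-subgroups of `C(t)` are conjugate into `T` -/
theorem conj_into (h : EndSheet t X Z N M π) {P : Subgroup G} (hP : IsPGroup 2 P)
    (hc : ∀ x ∈ P, x * t = t * x) : ∃ c : G, c * t = t * c ∧ cj c P ≤ TA h.tt h.cN π := by
  obtain ⟨S, hS⟩ := h.exists_syl
  have h1 : IsPGroup 2 (P.subgroupOf (centralizer ({t} : Set G))) := hP.comap_subtype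
  obtain ⟨Q, hQ⟩ := h1.exists_le_sylow
  have hf : Fact (Nat.Prime 2) := ⟨Nat.prime_two⟩
  obtain ⟨c, hcS⟩ := MulAction.exists_smul_eq (centralizer ({t} : Set G)) Q S
  have hct : (c : G) * t = t * c := mem_centralizer_singleton_iff.1 c.2
  refine ⟨c, hct, ?_⟩
  intro x hx
  have hx' := mem_cj.1 hx
  have h2 : (⟨(c : G)⁻¹ * x * c, mem_centralizer_singleton_iff.2 (hc _ hx')⟩ :
      centralizer ({t} : Set G)) ∈ (Q : Subgroup _) := hQ (by rw [mem_subgroupOf]; exact hx')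
  have h3 : c * (⟨(c : G)⁻¹ * x * c, mem_centralizer_singleton_iff.2 (hc _ hx')⟩ :
      centralizer ({t} : Set G)) * c⁻¹ ∈ (S : Subgroup _) := by
    rw [← hcS, Sylow.coe_subgroup_smul]
    exact Subgroup.smul_mem_pointwise_smul _ (MulAut.conj c) _ h2
  rw [hS, mem_subgroupOf] at h3
  have e : ((c * (⟨(c : G)⁻¹ * x * c, mem_centralizer_singleton_iff.2 (hc _ hx')⟩ :
      centralizer ({t} : Set G)) * c⁻¹ : centralizer ({t} : Set G)) : G) = x := by
    show (c : G) * ((c : G)⁻¹ * x * c) * (c : G)⁻¹ = x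
    group
  rwa [e] at h3

/-- a 2-subgroup of `C(t)` normalised by `T` lies in `T` -/
theorem le_TA (h : EndSheet t X Z N M π) {P : Subgroup G} (hP : IsPGroup 2 P)
    (hc : ∀ x ∈ P, x * t = t * x) (hn : ∀ x ∈ TA h.tt h.cN π, Nrm x P) :
    P ≤ TA h.tt h.cN π := by
  obtain ⟨S, hS⟩ := h.exists_syl
  have h1 : IsPGroup 2 (P.subgroupOf (centralizer ({t} : Set G))) := hP.comap_subtype
  have hf : Fact (Nat.Prime 2) := ⟨Nat.prime_two⟩
  have h2 : (S : Subgroup (centralizer ({t} : Set G))) ≤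
      normalizer ((P.subgroupOf (centralizer ({t} : Set G)) :
        Subgroup (centralizer ({t} : Set G))) : Set (centralizer ({t} : Set G))) := by
    intro x hx
    rw [hS, mem_subgroupOf] at hx
    rw [mem_normalizer_iff]
    intro y
    rw [mem_subgroupOf, mem_subgroupOf]
    exact (hn x hx y).symm
  have h3 := IsPGroup.to_sup_of_normal_right' S.2 h1 h2
  have h4 := S.3 h3 le_sup_left
  intro x hx
  have h5 : (⟨x, mem_centralizer_singleton_iff.2 (hc x hx)⟩ : centralizer ({t} : Set G)) ∈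
      (S : Subgroup (centralizer ({t} : Set G))) := by
    rw [← h4]
    exact le_sup_right (a := (S : Subgroup (centralizer ({t} : Set G))))
      (show _ ∈ P.subgroupOf (centralizer ({t} : Set G)) from mem_subgroupOf.2 hx)
  rw [hS, mem_subgroupOf] at h5
  exact h5

theorem el_two {E : Subgroup G} (hX : El E) : IsPGroup 2 E := by
  rintro ⟨x, hx⟩
  refine ⟨1, Subtype.ext ?_⟩
  show x ^ (2 ^ 1) = 1
  rw [pow_one, pow_two]; exact hX x hx

/-- **Lemma U** -/
theorem lemU (h : EndSheet t X Z N M π) {k : G} (hN : Nrm t (cj k M))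
    (hV : ∀ x ∈ fx t (cj k M), x ∈ Z ∨ t * x ∈ Z) : cj k M = M := by
  have elM' := El.cj h.elM k
  have cM' : Nat.card (cj k M) = Nat.card M := card_cj k M
  have hd : k⁻¹ * t * k⁻¹⁻¹ = k⁻¹ * t * k := by rw [inv_inv]
  have hN' : Nrm (k⁻¹ * t * k) M := by
    intro x
    have h1 := hN (k * x * k⁻¹)
    rw [mem_cj, mem_cj] at h1
    have e1 : k⁻¹ * (t * (k * x * k⁻¹) * t⁻¹) * k = k⁻¹ * t * k * x * (k⁻¹ * t * k)⁻¹ := by group
    have e2 : k⁻¹ * (k * x * k⁻¹) * k = x := by group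
    rw [e1, e2] at h1
    exact h1
  obtain ⟨hc, -⟩ := h.conj_free hd hN'
  have hfix : ∀ x, x ∈ fx t (cj k M) ↔ k⁻¹ * x * k ∈ fx (k⁻¹ * t * k) M := by
    intro x
    rw [mem_fx, mem_fx, mem_cj]
    refine and_congr_right fun _ => ?_
    constructor
    · intro h1
      calc k⁻¹ * x * k * (k⁻¹ * t * k) = k⁻¹ * (x * t) * k := by group
        _ = k⁻¹ * (t * x) * k := by rw [h1]
        _ = _ := by group
    · intro h1
      calc x * t = k * (k⁻¹ * x * k * (k⁻¹ * t * k)) * k⁻¹ := by group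
        _ = k * (k⁻¹ * t * k * (k⁻¹ * x * k)) * k⁻¹ := by rw [h1]
        _ = t * x := by group
  have hcard : Nat.card (fx t (cj k M)) = 32 := by
    rw [← hc]
    apply Nat.card_congr
    exact
      { toFun := fun x => ⟨k⁻¹ * x * k, (hfix x).1 x.2⟩
        invFun := fun y => ⟨k * y * k⁻¹, (hfix _).2 (by
          have e : k⁻¹ * (k * (y : G) * k⁻¹) * k = y := by group
          rw [e]; exact y.2)⟩
        left_inv := fun x => Subtype.ext (by
          show k * (k⁻¹ * (x : G) * k) * k⁻¹ = x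
          group)
        right_inv := fun x => Subtype.ext (by
          show k⁻¹ * (k * (x : G) * k⁻¹) * k = x
          group) }
  -- commutators lie in `X`
  have hcom : ∀ m ∈ cj k M, t * m * t * m ∈ X := by
    intro m hm
    obtain ⟨h1, h2⟩ := h.com_fix elM' hN hm
    rcases hV _ h1 with h3 | h3
    · exact h.DtZ _ h3 m h2
    · exact absurd h2 (h.DN _ (h.ZN h3) m)
  have hrg : rg elM' hN ≤ X := by
    intro x hx
    obtain ⟨n, hn, h1⟩ := (mem_rg elM' hN).1 hx
    have h2 := hcom n hn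
    have h3 : t * n * t * n = x := by
      have e1 : t * n * t = n * x := by rw [← h1, h.ti]
      have h4 := (com_fix h elM' hN hn).1
      rw [e1]
      have hxM : x ∈ cj k M := (mem_fx.1 (rg_le_fx elM' hN h.tt hx)).1
      rw [mul_assoc, elc elM' hxM hn, ← mul_assoc, elM' n hn, one_mul]
    rw [← h3]; exact h2
  have hcr := card_rg_mul elM' hN
  rw [hcard, cM', h.cardM] at hcr
  have hcr' : Nat.card (rg elM' hN) = Nat.card X := Nat.eq_of_mul_eq_mul_right (by norm_num) hcr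
  have heq : rg elM' hN = X := Subgroup.eq_of_le_of_card_ge hrg hcr'.ge
  apply h.uniqM _ elM' _ cM'
  intro m hm
  refine ⟨fun x hx => ?_, ⟨_, hcom m hm, (h.com_fix elM' hN hm).2⟩⟩
  rw [← heq] at hx
  exact elc elM' hm (mem_fx.1 (rg_le_fx elM' hN h.tt hx)).1

/-- the conjugates `tw` of `t` are conjugate to `t` in `N(M)` -/
theorem conj_NM (h : EndSheet t X Z N M π) {d g : G} (hd : g * t * g⁻¹ = d) (hN : Nrm d M) :
    ∃ k : G, cj k M = M ∧ k * t * k⁻¹ = d := by
  obtain ⟨hc, hdf⟩ := h.conj_free hd hN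
  have dd : d * d = 1 := by
    rw [← hd]
    calc g * t * g⁻¹ * (g * t * g⁻¹) = g * (t * t) * g⁻¹ := by group
      _ = 1 := by rw [h.tt]; group
  have hcf : ∀ x ∈ fx d M, x * d = d * x := fun x hx => (mem_fx.1 hx).2
  have elf : El (fx d M) := fun x hx => h.elM x (mem_fx.1 hx).1
  have elX := el_dbl dd hcf elf
  have cX : Nat.card (dbl dd hcf) = 64 := by rw [card_dbl dd hcf hdf, hc]
  -- into `C(t)`
  have elX' := El.cj elX g⁻¹
  have cX' : Nat.card (cj g⁻¹ (dbl dd hcf)) = 64 := (card_cj _ _).trans cX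
  have cent' : ∀ x ∈ cj g⁻¹ (dbl dd hcf), x * t = t * x := by
    intro x hx
    have h1 := cent_dbl dd hcf (mem_cj.1 hx)
    rw [inv_inv, ← hd] at h1
    calc x * t = g⁻¹ * (g * x * g⁻¹ * (g * t * g⁻¹)) * g := by group
      _ = g⁻¹ * (g * t * g⁻¹ * (g * x * g⁻¹)) * g := by rw [h1]
      _ = t * x := by group
  obtain ⟨c, hct, hcT⟩ := h.conj_into (el_two elX') cent'
  have hu := h.uniq _ hcT (El.cj elX' c) ((card_cj _ _).trans cX')
  have hkd : (c * g⁻¹) * d * (c * g⁻¹)⁻¹ = t := by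
    rw [← hd]
    calc c * g⁻¹ * (g * t * g⁻¹) * (c * g⁻¹)⁻¹ = (c * t) * c⁻¹ := by group
      _ = t := by rw [hct]; group
  have hkN : Nrm t (cj (c * g⁻¹) M) := by
    intro x
    rw [mem_cj, mem_cj]
    have h1 := hN ((c * g⁻¹)⁻¹ * x * (c * g⁻¹))
    rw [← h1]
    have e : (c * g⁻¹)⁻¹ * (t * x * t⁻¹) * (c * g⁻¹) =
        d * ((c * g⁻¹)⁻¹ * x * (c * g⁻¹)) * d⁻¹ := by
      rw [← hkd]; group
    rw [e]
  have hk := h.lemU hkN (by
    intro x hx
    rw [mem_fx, mem_cj] at hx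
    rw [← hu, mem_cj, mem_cj]
    refine Or.inl (mem_fx.2 ⟨?_, ?_⟩)
    · have e : (c * g⁻¹)⁻¹ * x * (c * g⁻¹) = g⁻¹⁻¹ * (c⁻¹ * x * c) * g⁻¹ := by group
      rw [← e]; exact hx.1
    · have h2 := hx.2
      have e : g⁻¹⁻¹ * (c⁻¹ * x * c) * g⁻¹ = (c * g⁻¹)⁻¹ * x * (c * g⁻¹) := by group
      rw [e]
      have h3 : d = (c * g⁻¹)⁻¹ * t * (c * g⁻¹) := by rw [← hkd]; group
      rw [h3]
      calc (c * g⁻¹)⁻¹ * x * (c * g⁻¹) * ((c * g⁻¹)⁻¹ * t * (c * g⁻¹))
          = (c * g⁻¹)⁻¹ * (x * t) * (c * g⁻¹) := by group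
        _ = (c * g⁻¹)⁻¹ * (t * x) * (c * g⁻¹) := by rw [h2]
        _ = _ := by group)
  refine ⟨(c * g⁻¹)⁻¹, ?_, ?_⟩
  · ext x
    rw [mem_cj, inv_inv]
    have h1 := nrm_of_cj hk x
    exact h1
  · rw [inv_inv, ← hkd]; group

/-- `M` is the only conjugate of `M` normalised by `T` -/
theorem unique (h : EndSheet t X Z N M π) {k : G}
    (hT : ∀ x ∈ TA h.tt h.cN π, Nrm x (cj k M)) : cj k M = M := by
  have htN := hT t h.t_mem_TA
  apply h.lemU htN
  have elM' := El.cj h.elM k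
  have cM' : Nat.card (cj k M) = 512 ∨ Nat.card (cj k M) = 1024 := by
    rw [card_cj]; exact h.card32
  have hcf : ∀ x ∈ fx t (cj k M), x * t = t * x := fun x hx => (mem_fx.1 hx).2
  have elf : El (fx t (cj k M)) := fun x hx => elM' x (mem_fx.1 hx).1
  have htM : t ∉ cj k M := by
    intro h1
    have := h.rank _ elM' (fun x hx => elc elM' hx h1)
    rcases cM' with h3 | h3 <;> omega
  have htf : t ∉ fx t (cj k M) := fun h1 => htM (mem_fx.1 h1).1
  have h1 := h.rank _ (el_dbl h.tt hcf elf) (fun x hx => cent_dbl h.tt hcf hx)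
  rw [card_dbl h.tt hcf htf] at h1
  have h3 := thirtytwo cM' (fun x hx => (mem_fx.1 hx).1) (card_le_sq elM' htN h.tt)
  have hc : Nat.card (dbl h.tt hcf) = 64 := by rw [card_dbl h.tt hcf htf]; omega
  have hle := h.le_TA (el_two (el_dbl h.tt hcf elf)) (fun x hx => cent_dbl h.tt hcf hx) (by
    intro x hx y
    have hxt := h.TA_cent hx
    have hN := hT x hx
    have hfx : ∀ y, x * y * x⁻¹ ∈ fx t (cj k M) ↔ y ∈ fx t (cj k M) := by
      intro y
      rw [mem_fx, mem_fx, hN y]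
      refine and_congr_right fun _ => ?_
      have e1 : x⁻¹ * t * x = t := by
        calc x⁻¹ * t * x = x⁻¹ * (t * x) := by group
          _ = x⁻¹ * (x * t) := by rw [hxt]
          _ = t := by group
      constructor
      · intro h4
        calc y * t = x⁻¹ * (x * y * x⁻¹ * (x * t)) := by group
          _ = x⁻¹ * (x * y * x⁻¹ * (t * x)) := by rw [hxt]
          _ = x⁻¹ * (x * y * x⁻¹ * t) * x := by group
          _ = x⁻¹ * (t * (x * y * x⁻¹)) * x := by rw [h4]
          _ = (x⁻¹ * t * x) * y := by group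
          _ = t * y := by rw [e1]
      · intro h4
        calc x * y * x⁻¹ * t = x * y * (x⁻¹ * t * x) * x⁻¹ := by group
          _ = x * (y * t) * x⁻¹ := by rw [e1]; group
          _ = x * (t * y) * x⁻¹ := by rw [h4]
          _ = (x * t) * y * x⁻¹ := by group
          _ = t * (x * y * x⁻¹) := by rw [hxt]; group
    rw [mem_dbl, mem_dbl, hfx y]
    have e : t * (x * y * x⁻¹) = x * (t * y) * x⁻¹ := by
      calc t * (x * y * x⁻¹) = (t * x) * y * x⁻¹ := by group
        _ = (x * t) * y * x⁻¹ := by rw [hxt]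
        _ = _ := by group
    rw [e, hfx])
  intro x hx
  exact (h.uniq _ hle (el_dbl h.tt hcf elf) hc x).1 (Or.inl hx)

/-! ### `C(M)` -/

/-- 2-elements of `C(M)` lie in `M` -/
theorem two_cen (h : EndSheet t X Z N M π) {x : G} (hx : Cen x M) (hx2 : ∃ k : ℕ, x ^ 2 ^ k = 1) :
    x ∈ M := by
  classical
  have hf : Fact (Nat.Prime 2) := ⟨Nat.prime_two⟩
  let C : Subgroup G := centralizer (M : Set G)
  have hC : ∀ y, y ∈ C ↔ Cen y M := by
    intro y
    rw [mem_centralizer_iff]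
    exact ⟨fun h1 m hm => (h1 m hm).symm, fun h1 m hm => (h1 m hm).symm⟩
  have htC : ∀ y ∈ C, t * y * t⁻¹ ∈ C := by
    intro y hy
    rw [hC] at hy ⊢
    intro m hm
    have h1 : t * m * t⁻¹ ∈ M := (h.tM m).2 hm
    have h2 : t⁻¹ * m * t ∈ M := by
      have := (h.tM (t⁻¹ * m * t)).1
      apply this
      have e : t * (t⁻¹ * m * t) * t⁻¹ = m := by group
      rw [e]; exact hm
    calc t * y * t⁻¹ * m = t * (y * (t⁻¹ * m * t)) * t⁻¹ := by group
      _ = t * (t⁻¹ * m * t * y) * t⁻¹ := by rw [hy _ h2]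
      _ = m * (t * y * t⁻¹) := by group
  have hNC : Nrm t C := by
    intro y
    refine ⟨fun h1 => ?_, htC y⟩
    have h2 := htC _ h1
    rw [h.ti] at h2
    have e : t * (t * y * t) * t = (t * t) * y * (t * t) := by group
    rwa [e, h.tt, one_mul, mul_one] at h2
  let D : Subgroup G := ext h.tt hNC
  let Q : Subgroup G := ext h.tt h.tM
  have MC : M ≤ C := fun m hm => (hC m).2 (fun x hx => elc h.elM hm hx)
  have hQD : Q ≤ D := by
    rintro y (h1 | h1)
    · exact Or.inl (MC h1)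
    · exact Or.inr (MC h1)
  have memQ : ∀ y, y ∈ Q ↔ y ∈ M ∨ t * y ∈ M := fun y => Iff.rfl
  have hQ2 : IsPGroup 2 Q := by
    rintro ⟨y, hy⟩
    refine ⟨2, Subtype.ext ?_⟩
    show y ^ 2 ^ 2 = 1
    have h1 := ext_sq h.tt h.tM hy
    have h2 := h.elM _ h1
    calc y ^ 2 ^ 2 = y * y * (y * y) := by
          rw [show (2 : ℕ) ^ 2 = 2 + 2 from rfl, pow_add, pow_two]
      _ = 1 := h2
  have key : ∀ y ∈ C, y * t * y⁻¹ ∈ Q → y ∈ M := by
    intro y hy h1
    have hyM := (hC y).1 hy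
    have h2 : t * (y * t * y⁻¹) ∈ M := by
      rcases (memQ _).1 h1 with h2 | h2
      · exfalso
        apply h.t_not_cen
        -- `t` acts on `M` as `y t y⁻¹ ∈ M`
        intro m hm
        have h3 := elc h.elM h2 hm
        have h4 : y⁻¹ * m * y = m := by
          rw [mul_assoc, ← hyM m hm]; group
        have h5 := hyM m hm
        calc t * m = y⁻¹ * (y * t * y⁻¹) * (y * m) := by group
          _ = y⁻¹ * (y * t * y⁻¹) * (m * y) := by rw [h5]
          _ = y⁻¹ * (y * t * y⁻¹ * m) * y := by group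
          _ = y⁻¹ * (m * (y * t * y⁻¹)) * y := by rw [h3]
          _ = (y⁻¹ * m * y) * t := by group
          _ = m * t := by rw [h4]
      · exact h2
    set m := t * (y * t * y⁻¹) with hm
    have h3 : y * t * y⁻¹ = t * m := by rw [hm, ← mul_assoc, h.tt, one_mul]
    have h4 : (t * m) * (t * m) = 1 := by
      rw [← h3]
      calc y * t * y⁻¹ * (y * t * y⁻¹) = y * (t * t) * y⁻¹ := by group
        _ = 1 := by rw [h.tt]; group
    have h5 : m * t = t * m := by
      have mi : m⁻¹ = m := inv_eq_of_mul_eq_one_right (h.elM m h2)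
      have e : t * m = (t * m)⁻¹ := (inv_eq_of_mul_eq_one_right h4).symm
      rw [mul_inv_rev, mi, h.ti] at e
      exact e.symm
    have hmZ := h.fix m h2 h5
    have hmX := h.DtZ m hmZ y h3
    obtain ⟨n, hn, h6⟩ := h.onto m hmX
    have h7 : (n⁻¹ * y) * t = t * (n⁻¹ * y) := by
      have e : y * t = n * t * n⁻¹ * y := by
        rw [h6, ← h3]; group
      calc n⁻¹ * y * t = n⁻¹ * (y * t) := by group
        _ = n⁻¹ * (n * t * n⁻¹ * y) := by rw [e]
        _ = t * (n⁻¹ * y) := by group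
    have h8 : Cen (n⁻¹ * y) M := by
      intro q hq
      have a1 := hyM q hq
      have a2 := elc h.elM (M.inv_mem hn) hq
      calc n⁻¹ * y * q = n⁻¹ * (y * q) := by group
        _ = n⁻¹ * (q * y) := by rw [a1]
        _ = (n⁻¹ * q) * y := by group
        _ = (q * n⁻¹) * y := by rw [a2]
        _ = q * (n⁻¹ * y) := by group
    have h9 : n⁻¹ * y ∈ M := by
      rcases h.cTZ h7 (h.cenZ h8) with h9 | h9
      · exact h.ZM h9
      · exfalso
        apply h.t_not_cen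
        have h10 : Cen (t * (n⁻¹ * y)) M := fun q hq => elc h.elM (h.ZM h9) hq
        intro q hq
        have a1 := h10 q hq
        have a2 := h8 q hq
        have a3 : (n⁻¹ * y) * q * (n⁻¹ * y)⁻¹ = q := by rw [a2]; group
        calc t * q = t * ((n⁻¹ * y) * q * (n⁻¹ * y)⁻¹) := by rw [a3]
          _ = (t * (n⁻¹ * y) * q) * (n⁻¹ * y)⁻¹ := by group
          _ = (q * (t * (n⁻¹ * y))) * (n⁻¹ * y)⁻¹ := by rw [a1]
          _ = q * t := by group
    have := M.mul_mem hn h9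
    rwa [mul_inv_cancel_left] at this
  by_contra hxM
  have hxC : x ∈ C := (hC x).2 hx
  -- Sylow 2-subgroups of `D`
  obtain ⟨P, hP⟩ := (hQ2.comap_subtype (K := D)).exists_le_sylow
  have hxz : IsPGroup 2 (zpowers (⟨x, le_ext h.tt hNC hxC⟩ : D)) := by
    obtain ⟨k, hk⟩ := hx2
    apply IsPGroup.of_card (n := (Nat.card (zpowers (⟨x, le_ext h.tt hNC hxC⟩ : D))).factorization 2)
    rw [Nat.card_zpowers]
    have h1 : orderOf (⟨x, le_ext h.tt hNC hxC⟩ : D) ∣ 2 ^ k :=
      orderOf_dvd_of_pow_eq_one (Subtype.ext hk)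
    obtain ⟨j, -, hj⟩ := (Nat.dvd_prime_pow Nat.prime_two).1 h1
    rw [hj, Nat.Prime.factorization_pow Nat.prime_two]
    simp
  obtain ⟨P', hP'⟩ := hxz.exists_le_sylow
  obtain ⟨d, hd⟩ := MulAction.exists_smul_eq D P' P
  have h1 : d * (⟨x, le_ext h.tt hNC hxC⟩ : D) * d⁻¹ ∈ (P : Subgroup D) := by
    rw [← hd, Sylow.coe_subgroup_smul]
    exact Subgroup.smul_mem_pointwise_smul _ (MulAut.conj d) _ (hP' (mem_zpowers _))
  let PG : Subgroup G := (P : Subgroup D).map D.subtype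
  have hPG2 : IsPGroup 2 PG := P.2.map _
  have hQP : Q ≤ PG := by
    intro y hy
    exact ⟨⟨y, hQD hy⟩, hP (show _ ∈ Q.comap D.subtype from hy), rfl⟩
  have hy : (d : G) * x * (d : G)⁻¹ ∈ PG := ⟨_, h1, rfl⟩
  have hyQ : (d : G) * x * (d : G)⁻¹ ∉ Q := by
    intro h2
    have hyC : (d : G) * x * (d : G)⁻¹ ∈ C := (ext_nrm h.tt hNC d.2 x).2 hxC
    rcases (memQ _).1 h2 with h3 | h3
    · apply hxM
      -- `d` normalises `M`
      have hdM : Nrm (d : G) M := by
        rcases d.2 with h4 | h4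
        · intro m
          have h5 := (hC _).1 h4
          constructor
          · intro h6
            have h7 := h5 _ h6
            have h8 : (d : G) * ((d : G) * m * (d : G)⁻¹) = d * m := by rw [h7]; group
            rw [← mul_left_cancel h8]; exact h6
          · intro h6
            rw [h5 m h6, mul_inv_cancel_right]; exact h6
        · intro m
          have h5 := (hC _).1 h4
          rw [← h.tM ((d : G) * m * (d : G)⁻¹)]
          have e : t * ((d : G) * m * (d : G)⁻¹) * t⁻¹ = (t * d) * m * (t * d)⁻¹ := by group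
          rw [e]
          constructor
          · intro h6
            have h7 := h5 _ h6
            have h8 : (t * (d : G)) * ((t * d) * m * (t * d)⁻¹) = (t * d) * m := by
              rw [h7]; group
            rw [← mul_left_cancel h8]; exact h6
          · intro h6
            rw [h5 m h6, mul_inv_cancel_right]; exact h6
      exact (hdM x).1 h3
    · apply h.t_not_cen
      have h4 : t ∈ C := by
        have h5 := C.mul_mem (MC h3) (C.inv_mem hyC)
        rwa [mul_inv_cancel_right] at h5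
      exact (hC t).1 h4
  have hlt : Q < PG := lt_of_le_of_ne hQP (fun e => hyQ (by rw [e]; exact hy))
  have : Group.IsNilpotent PG := hPG2.isNilpotent
  obtain ⟨y, hyP, hyQ', hyN⟩ := Cfsg.Agent.Transfer.FrobeniusFusion.exists_mem_normalizer_notMem hlt
  have hyD : y ∈ D := by
    obtain ⟨y', -, rfl⟩ := hyP
    exact y'.2
  have htQ : t ∈ Q := t_mem_ext h.tt h.tM
  have h2 : y * t * y⁻¹ ∈ Q := (mem_normalizer_iff.1 hyN t).1 htQ
  rcases hyD with h3 | h3
  · exact hyQ' (Or.inl (key y h3 h2))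
  · have h4 : (t * y) * t * (t * y)⁻¹ ∈ Q := by
      have e : (t * y) * t * (t * y)⁻¹ = t * (y * t * y⁻¹) * t⁻¹ := by group
      rw [e]
      exact Q.mul_mem (Q.mul_mem htQ h2) (Q.inv_mem htQ)
    exact hyQ' (Or.inr (key _ h3 h4))

/-- `t` normalises `C(M)` -/
theorem cen_conj {a c : G} {M : Subgroup G} (ha : Nrm a M) (hc : Cen c M) : Cen (a * c * a⁻¹) M := by
  intro m hm
  have h2 : a⁻¹ * m * a ∈ M := by
    apply (ha (a⁻¹ * m * a)).1
    have e : a * (a⁻¹ * m * a) * a⁻¹ = m := by group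
    rw [e]; exact hm
  calc a * c * a⁻¹ * m = a * (c * (a⁻¹ * m * a)) * a⁻¹ := by group
    _ = a * (a⁻¹ * m * a * c) * a⁻¹ := by rw [hc _ h2]
    _ = m * (a * c * a⁻¹) := by group

/-- dihedral groups: `b = aρ` is conjugate under `C(M)` to an element of `aM` -/
theorem dihedral (h : EndSheet t X Z N M π) {a b : G} (aa : a * a = 1) (bb : b * b = 1)
    (hc : Cen (a * b) M) : ∃ c, Cen c M ∧ ∃ m ∈ M, c * b * c⁻¹ = a * m := by
  have ai : a⁻¹ = a := inv_eq_of_mul_eq_one_right aa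
  have bi : b⁻¹ = b := inv_eq_of_mul_eq_one_right bb
  set r := a * b with hr
  have hra : a * r * a⁻¹ = r⁻¹ := by
    rw [hr, mul_inv_rev, ai, bi, ← mul_assoc, aa, one_mul]
  have hcp : ∀ n : ℕ, Cen (r ^ n) M := by
    intro n
    induction n with
    | zero => intro x _; simp
    | succ n ih =>
      intro x hx
      rw [pow_succ, mul_assoc, hc x hx, ← mul_assoc, ih x hx, mul_assoc]
  obtain ⟨k, n, hn, hkn⟩ := Nat.exists_eq_two_pow_mul_odd (orderOf_pos r).ne'
  obtain ⟨i, hi⟩ := hn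
  refine ⟨r ^ (i + 1), hcp _, (r ^ n)⁻¹, ?_, ?_⟩
  · apply M.inv_mem
    apply h.two_cen (hcp n)
    refine ⟨k, ?_⟩
    rw [← pow_mul, mul_comm, ← hkn, pow_orderOf_eq_one]
  · have hb : b = a * r := by rw [hr, ← mul_assoc, aa, one_mul]
    have har : ∀ j : ℕ, r ^ j * a = a * (r ^ j)⁻¹ := by
      intro j
      have h1 : a * r ^ j * a⁻¹ = (r ^ j)⁻¹ := by
        rw [← conj_pow, hra, inv_pow]
      have h2 : a * (a * r ^ j * a⁻¹) = r ^ j * a := by
        rw [ai, ← mul_assoc, ← mul_assoc, aa, one_mul]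
      rw [← h2, h1]
    calc r ^ (i + 1) * b * (r ^ (i + 1))⁻¹ = (r ^ (i + 1) * a) * r * (r ^ (i + 1))⁻¹ := by
          rw [hb]; group
      _ = a * ((r ^ (i + 1))⁻¹ * r * (r ^ (i + 1))⁻¹) := by rw [har]; group
      _ = a * (r ^ n)⁻¹ := by
          congr 1
          have e : r ^ n = r ^ (i + 1) * r⁻¹ * r ^ (i + 1) := by
            rw [hi, show 2 * i + 1 = i + (i + 1) by ring, pow_add r i (i + 1), pow_succ r i]
            group
          rw [e]; group

/-- `[h, t] ∈ C(M)` gives `h ∈ C(M)C(t)` -/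
theorem lift_cent (h : EndSheet t X Z N M π) {g : G} (hg : ∀ m ∈ M, (g * t * g⁻¹) * m *
    (g * t * g⁻¹)⁻¹ = t * m * t⁻¹) : ∃ c, Cen c M ∧ (c * g) * t = t * (c * g) := by
  set b := g * t * g⁻¹ with hb
  have bb : b * b = 1 := by
    rw [hb]
    calc g * t * g⁻¹ * (g * t * g⁻¹) = g * (t * t) * g⁻¹ := by group
      _ = 1 := by rw [h.tt]; group
  have hc : Cen (t * b) M := by
    intro m hm
    have h1 : t * (b * m * b⁻¹) * t⁻¹ = m := by
      rw [hg m hm, h.ti]
      calc t * (t * m * t) * t = (t * t) * m * (t * t) := by group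
        _ = m := by rw [h.tt]; group
    calc t * b * m = t * (b * m * b⁻¹) * t⁻¹ * (t * b) := by group
      _ = m * (t * b) := by rw [h1]
  obtain ⟨c, hcM, m, hm, e⟩ := h.dihedral h.tt bb hc
  have e2 : (c * g) * t * (c * g)⁻¹ = t * m := by
    rw [← e, hb]; group
  have h4 : (t * m) * (t * m) = 1 := by
    rw [← e2]
    calc c * g * t * (c * g)⁻¹ * (c * g * t * (c * g)⁻¹) = c * g * (t * t) * (c * g)⁻¹ := by group
      _ = 1 := by rw [h.tt]; group
  have h5 : m * t = t * m := by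
    have mi : m⁻¹ = m := inv_eq_of_mul_eq_one_right (h.elM m hm)
    have e3 : t * m = (t * m)⁻¹ := (inv_eq_of_mul_eq_one_right h4).symm
    rw [mul_inv_rev, mi, h.ti] at e3
    exact e3.symm
  obtain ⟨n, hn, h6⟩ := h.onto m (h.DtZ m (h.fix m hm h5) _ e2)
  refine ⟨n⁻¹ * c, ?_, ?_⟩
  · intro q hq
    rw [mul_assoc, hcM q hq, ← mul_assoc, elc h.elM (M.inv_mem hn) hq, mul_assoc]
  · have e3 : c * g * t = n * t * n⁻¹ * (c * g) := by
      rw [h6, ← e2]; group
    calc n⁻¹ * c * g * t = n⁻¹ * (c * g * t) := by group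
      _ = n⁻¹ * (n * t * n⁻¹ * (c * g)) := by rw [e3]
      _ = t * (n⁻¹ * c * g) := by group

/-- `t` and `w` do not act conjugately on `M` -/
theorem not_conj (h : EndSheet t X Z N M π) {w : G} (hw : w ∈ N) (ww : w * w = 1)
    (hb : Nat.card X = 16 → (∀ z ∈ Z, w * z * w⁻¹ * z⁻¹ ∈ X) ∧
      (∀ x ∈ X, w * x = x * w → ∃ u ∈ X, x = w * u * w⁻¹ * u⁻¹) ∧ ∃ b ∈ Z, b ∉ X ∧ w * b = b * w)
    {g : G} (hgM : cj g M = M)
    (hg : ∀ m ∈ M, (g * t * g⁻¹) * m * (g * t * g⁻¹)⁻¹ = w * m * w⁻¹) : False := by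
  set d := g * t * g⁻¹ with hd
  have wN := nrm_of_cj (h.NM hw)
  have gN := nrm_of_cj hgM
  have dN : Nrm d M := by
    intro x
    have e : d * x * d⁻¹ = g * (t * (g⁻¹ * x * g) * t⁻¹) * g⁻¹ := by rw [hd]; group
    have e2 : x = g * (g⁻¹ * x * g) * g⁻¹ := by group
    rw [e, gN, h.tM, ← gN, ← e2]
  have dd : d * d = 1 := by
    rw [hd]
    calc g * t * g⁻¹ * (g * t * g⁻¹) = g * (t * t) * g⁻¹ := by group
      _ = 1 := by rw [h.tt]; group
  have wi : w⁻¹ = w := inv_eq_of_mul_eq_one_right ww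
  have hc : Cen (w * d) M := by
    intro m hm
    have h1 : w * (d * m * d⁻¹) * w⁻¹ = m := by
      rw [hg m hm, wi]
      calc w * (w * m * w) * w = (w * w) * m * (w * w) := by group
        _ = m := by rw [ww]; group
    calc w * d * m = w * (d * m * d⁻¹) * w⁻¹ * (w * d) := by group
      _ = m * (w * d) := by rw [h1]
  obtain ⟨c, hcM, m, hm, e⟩ := h.dihedral ww dd hc
  have e2 : (c * g) * t * (c * g)⁻¹ = w * m := by rw [← e, hd]; group
  have h4 : (w * m) * (w * m) = 1 := by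
    rw [← e2]
    calc c * g * t * (c * g)⁻¹ * (c * g * t * (c * g)⁻¹) = c * g * (t * t) * (c * g)⁻¹ := by group
      _ = 1 := by rw [h.tt]; group
  have mi : m⁻¹ = m := inv_eq_of_mul_eq_one_right (h.elM m hm)
  have h5 : m * w = w * m := by
    have e3 : w * m = (w * m)⁻¹ := (inv_eq_of_mul_eq_one_right h4).symm
    rw [mul_inv_rev, mi, wi] at e3
    exact e3.symm
  have hmf : m ∈ fx w M := mem_fx.2 ⟨hm, h5⟩
  -- `w` has the same fixed points as `d`
  have hfe : fx w M = fx d M := fx_congr (fun x hx => (hg x hx).symm)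
  have hcf : Nat.card (fx w M) = 32 := by rw [hfe]; exact (h.conj_free hd.symm dN).1
  have hcr := card_rg_mul h.elM wN
  rw [hcf, h.cardM] at hcr
  have hcr' : Nat.card (rg h.elM wN) = Nat.card X := Nat.eq_of_mul_eq_mul_right (by norm_num) hcr
  -- `w m'` is conjugate to `w` for `m' ∈ [M, w]`
  have key : ∀ m' ∈ rg h.elM wN, ∃ n ∈ M, n * (w * m') * n⁻¹ = w := by
    intro m' hm'
    obtain ⟨n, hn, h1⟩ := (mem_rg h.elM wN).1 hm'
    refine ⟨n, hn, ?_⟩
    have hm'f := (mem_fx.1 (rg_le_fx h.elM wN ww hm')).2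
    have h2 : w * n = n * m' * w := by rw [← h1]; group
    calc n * (w * m') * n⁻¹ = n * (m' * w) * n⁻¹ := by rw [hm'f]
      _ = (w * n) * n⁻¹ := by rw [h2]; group
      _ = w := by group
  rcases h.cardX with hX | hX
  · obtain ⟨b1, b2, b, hbZ, hbX, hwb⟩ := hb hX
    have hbM := h.ZM hbZ
    have hbf : b ∈ fx w M := mem_fx.2 ⟨hbM, hwb.symm⟩
    have bb : b * b = 1 := h.elZ b hbZ
    -- `b ∉ [M, w]`
    have hbr : b ∉ rg h.elM wN := by
      intro h1
      obtain ⟨n, hn, h2⟩ := (mem_rg h.elM wN).1 h1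
      obtain ⟨x, hx, h3⟩ := h.beta hn
      have twc := h.cN w hw
      -- `x` is fixed by `w`
      have ni : n⁻¹ = n := inv_eq_of_mul_eq_one_right (h.elM n hn)
      have hxw : w * x = x * w := by
        -- `(w n w⁻¹) t (w n w⁻¹)⁻¹ = t (w x w⁻¹)`, and `= t x` as `w n w⁻¹ = n b`
        have a1 : (w * n * w⁻¹) * t * (w * n * w⁻¹)⁻¹ = t * (w * x * w⁻¹) := by
          have e1 : w⁻¹ * t * w = t := by
            calc w⁻¹ * t * w = w⁻¹ * (t * w) := by group
              _ = w⁻¹ * (w * t) := by rw [twc]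
              _ = t := by group
          calc (w * n * w⁻¹) * t * (w * n * w⁻¹)⁻¹ = w * (n * (w⁻¹ * t * w) * n⁻¹) * w⁻¹ := by group
            _ = w * (t * x) * w⁻¹ := by rw [e1, h3]
            _ = (w * t) * x * w⁻¹ := by group
            _ = t * (w * x * w⁻¹) := by rw [twc]; group
        have a2 : (w * n * w⁻¹) * t * (w * n * w⁻¹)⁻¹ = t * x := by
          rw [h2]
          have e1 : b * t * b⁻¹ = t := by rw [h.cZ b hbZ]; group
          calc n * b * t * (n * b)⁻¹ = n * (b * t * b⁻¹) * n⁻¹ := by group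
            _ = t * x := by rw [e1, h3]
        have a3 : w * x * w⁻¹ = x := mul_left_cancel (a1.symm.trans a2)
        calc w * x = w * x * w⁻¹ * w := by group
          _ = x * w := by rw [a3]
      obtain ⟨u, hu, h4⟩ := b2 x hx hxw
      obtain ⟨nu, hnu, h5⟩ := h.onto u hu
      -- `n' = n (w nu w⁻¹) nu⁻¹` lies over `1`
      have hwnu : w * nu * w⁻¹ ∈ M := (wN nu).2 hnu
      set n' := n * (w * nu * w⁻¹) * nu with hn'
      have hn'M : n' ∈ M := M.mul_mem (M.mul_mem hn hwnu) hnu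
      have nui : nu⁻¹ = nu := inv_eq_of_mul_eq_one_right (h.elM nu hnu)
      have ui : u⁻¹ = u := inv_eq_of_mul_eq_one_right (h.elZ u (h.XZ hu))
      have hn't : n' * t = t * n' := by
        have a0 : nu * t * nu⁻¹ = t * u := h5
        have a1 : (w * nu * w⁻¹) * t * (w * nu * w⁻¹)⁻¹ = t * (w * u * w⁻¹) := by
          have e1 : w⁻¹ * t * w = t := by
            calc w⁻¹ * t * w = w⁻¹ * (t * w) := by group
              _ = w⁻¹ * (w * t) := by rw [twc]
              _ = t := by group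
          calc (w * nu * w⁻¹) * t * (w * nu * w⁻¹)⁻¹ = w * (nu * (w⁻¹ * t * w) * nu⁻¹) * w⁻¹ := by
                group
            _ = w * (t * u) * w⁻¹ := by rw [e1, h5]
            _ = (w * t) * u * w⁻¹ := by group
            _ = t * (w * u * w⁻¹) := by rw [twc]; group
        have hwu : w * u * w⁻¹ ∈ X := (h.NX w hw u).2 hu
        have a2 : (w * nu * w⁻¹) * u * (w * nu * w⁻¹)⁻¹ = u := by
          rw [elc h.elM hwnu (h.XM hu)]; group
        have a3 : n * (w * u * w⁻¹) * n⁻¹ = w * u * w⁻¹ := by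
          rw [elc h.elM hn (h.XM hwu)]; group
        have a4 : n * u * n⁻¹ = u := by rw [elc h.elM hn (h.XM hu)]; group
        have a5 : n' * t * n'⁻¹ = t := by
          calc n' * t * n'⁻¹ = n * ((w * nu * w⁻¹) * (nu * t * nu⁻¹) * (w * nu * w⁻¹)⁻¹) * n⁻¹ := by
                rw [hn']; group
            _ = n * (((w * nu * w⁻¹) * t * (w * nu * w⁻¹)⁻¹) *
                  ((w * nu * w⁻¹) * u * (w * nu * w⁻¹)⁻¹)) * n⁻¹ := by rw [a0]; group
            _ = n * (t * (w * u * w⁻¹) * u) * n⁻¹ := by rw [a1, a2]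
            _ = (n * t * n⁻¹) * (n * (w * u * w⁻¹) * n⁻¹) * (n * u * n⁻¹) := by group
            _ = t * (x * (w * u * w⁻¹ * u)) := by rw [h3, a3, a4]; group
            _ = t * (x * x) := by
                congr 2
                rw [h4, ui]
            _ = t := by rw [h.elZ x (h.XZ hx), mul_one]
        calc n' * t = n' * t * n'⁻¹ * n' := by group
          _ = t * n' := by rw [a5]
      have hn'Z := h.fix _ hn'M hn't
      -- `w n' w⁻¹ = n' b`
      have a6 : w * n' * w⁻¹ = n' * b := by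
        have e1 : w * (w * nu * w⁻¹) * w⁻¹ = nu := by
          rw [wi]
          calc w * (w * nu * w) * w = (w * w) * nu * (w * w) := by group
            _ = nu := by rw [ww]; group
        calc w * n' * w⁻¹ = (w * n * w⁻¹) * (w * (w * nu * w⁻¹) * w⁻¹) * (w * nu * w⁻¹) := by
              rw [hn']; group
          _ = n * b * nu * (w * nu * w⁻¹) := by rw [e1, h2]
          _ = n * (b * (nu * (w * nu * w⁻¹))) := by group
          _ = n * ((nu * (w * nu * w⁻¹)) * b) := by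
              rw [elc h.elM hbM (M.mul_mem hnu hwnu)]
          _ = n * ((w * nu * w⁻¹) * nu * b) := by rw [elc h.elM hnu hwnu]
          _ = n' * b := by rw [hn']; group
      apply hbX
      have a7 := b1 n' hn'Z
      rw [a6] at a7
      have a8 : n' * b * n'⁻¹ = b := by rw [elc h.elM hn'M hbM]; group
      rwa [a8] at a7
    -- `fx = rg ∪ b rg`
    have hsplit : m ∈ rg h.elM wN ∨ b * m ∈ rg h.elM wN := by
      by_contra hno
      push Not at hno
      obtain ⟨n1, n2⟩ := hno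
      -- three distinct cosets in a group of index 2
      have hle := rg_le_fx h.elM wN ww
      have hidx : (rg h.elM wN).relIndex (fx w M) = 2 := by
        have h1 := Subgroup.card_mul_index ((rg h.elM wN).subgroupOf (fx w M))
        rw [Nat.card_congr (Subgroup.subgroupOfEquivOfLe hle).toEquiv, hcr', hX, hcf] at h1
        change 16 * (rg h.elM wN).relIndex (fx w M) = 32 at h1
        omega
      have h2 := Subgroup.mul_mem_iff_of_index_two
        (H := (rg h.elM wN).subgroupOf (fx w M)) hidx (a := ⟨b, hbf⟩) (b := ⟨m, hmf⟩)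
      rw [mem_subgroupOf, mem_subgroupOf, mem_subgroupOf] at h2
      exact n2 (h2.2 ⟨fun h3 => absurd h3 hbr, fun h3 => absurd h3 n1⟩)
    rcases hsplit with h6 | h6
    · obtain ⟨n, hn, h7⟩ := key m h6
      apply h.DN w hw (n * (c * g))
      calc n * (c * g) * t * (n * (c * g))⁻¹ = n * ((c * g) * t * (c * g)⁻¹) * n⁻¹ := by group
        _ = w := by rw [e2, h7]
    · obtain ⟨n, hn, h7⟩ := key _ h6
      apply h.DN (w * b) (N.mul_mem hw (h.ZN hbZ)) (n * (c * g))
      have hnb := elc h.elM hn hbM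
      calc n * (c * g) * t * (n * (c * g))⁻¹ = n * ((c * g) * t * (c * g)⁻¹) * n⁻¹ := by group
        _ = n * (w * m) * n⁻¹ := by rw [e2]
        _ = n * (w * ((b * b) * m)) * n⁻¹ := by rw [bb, one_mul]
        _ = n * (w * ((b * m) * b)) * n⁻¹ := by
            rw [mul_assoc b b m, elc h.elM hbM (M.mul_mem hbM hm)]
        _ = (n * (w * (b * m)) * n⁻¹) * (n * b * n⁻¹) := by group
        _ = w * b := by rw [h7, hnb]; group
  · have hle := rg_le_fx h.elM wN ww
    have heq : rg h.elM wN = fx w M :=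
      Subgroup.eq_of_le_of_card_ge hle (by rw [hcf, hcr', hX])
    obtain ⟨n, hn, h7⟩ := key m (by rw [heq]; exact hmf)
    apply h.DN w hw (n * (c * g))
    calc n * (c * g) * t * (n * (c * g))⁻¹ = n * ((c * g) * t * (c * g)⁻¹) * n⁻¹ := by group
      _ = w := by rw [e2, h7]

end EndSheet

end Cfsg.Agent.OddHalf.MMOut

end
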